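import Mathlib

/-!
# The arithmetic of Brauer's exceptional numbers

A number `n` is a value of `(h u p + u² + u + h) / (u + 1)` when `1 + n p` and `p - 1` together have
a divisor congruent to `1` modulo `p` strictly between `1` and `1 + n p`; the inequalities used when
no such divisor exists.
-/

set_option autoImplicit false

namespace CfsgLib.BrauerOrderP

/-- Brauer's exceptional values. -/
def IsBrauerValue (p n : ℕ) : Prop :=
  ∃ h u : ℕ, 0 < h ∧ 0 < u ∧ n * (u + 1) = h * u * p + u ^ 2 + u + h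

/-- A divisor congruent to one gives an exceptional value. -/
theorem isBrauerValue_of_dvd {p n d : ℕ} (hp : 2 ≤ p) (hd1 : (d : ℤ) ≡ 1 [ZMOD p]) (h1 : 1 < d)
    (h2 : d < 1 + n * p) (hdvd : d ∣ (p - 1) * (1 + n * p)) : IsBrauerValue p n := by
  obtain ⟨c, hc⟩ := hd1.symm.dvd
  have hc0 : 0 < c := by
    rcases lt_trichotomy c 0 with hc' | hc' | hc'
    · nlinarith
    · subst hc'; omega
    · exact hc'
  obtain ⟨u, rfl⟩ := Int.eq_ofNat_of_zero_le hc0.le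
  have hu : 0 < u := by exact_mod_cast hc0
  have hd : d = u * p + 1 := by
    have : (d : ℤ) = u * p + 1 := by linear_combination hc
    exact_mod_cast this
  subst hd
  have hun : u < n := by
    by_contra hle
    push Not at hle
    have := Nat.mul_le_mul_right p hle
    omega
  -- `d` divides `(u + 1) (n - u)`
  obtain ⟨m, rfl⟩ : ∃ m, n = u + m := ⟨n - u, by omega⟩
  have hm : 0 < m := by omega
  have h3 : ((u * p + 1 : ℕ) : ℤ) ∣ ((p - 1 : ℕ) : ℤ) * (1 + ((u + m : ℕ) : ℤ) * p) := by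
    exact_mod_cast hdvd
  have hp1 : ((p - 1 : ℕ) : ℤ) = (p : ℤ) - 1 := by omega
  rw [hp1] at h3
  push_cast at h3
  set D : ℤ := (u : ℤ) * p + 1
  have h4 : D ∣ ((u : ℤ) + 1) * (m * p) := by
    obtain ⟨c', hc'⟩ := h3
    refine ⟨1 + ((u : ℤ) + m) * p - (u : ℤ) * c' - ((u : ℤ) + 1), ?_⟩
    linear_combination (-(u : ℤ)) * hc'
  have hcop : IsCoprime D (p : ℤ) := ⟨1, -(u : ℤ), by ring⟩
  have h5 : D ∣ ((u : ℤ) + 1) * m := by
    refine hcop.dvd_of_dvd_mul_right ?_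
    rwa [mul_assoc]
  have h6 : (u * p + 1) ∣ (u + 1) * m := by
    have : ((u * p + 1 : ℕ) : ℤ) ∣ (((u + 1) * m : ℕ) : ℤ) := by push_cast; exact h5
    exact_mod_cast this
  obtain ⟨h, hh⟩ := h6
  refine ⟨h, u, ?_, hu, ?_⟩
  · rcases Nat.eq_zero_or_pos h with rfl | hpos
    · rw [mul_zero] at hh
      rcases Nat.mul_eq_zero.1 hh with h7 | h7 <;> omega
    · exact hpos
  · rw [add_mul, mul_comm m, hh]; ring

/-- The inequality excluding a large exceptional degree. -/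
theorem no_large_case {P T J W : ℝ} (hT : 2 ≤ T) (hW : 3 ≤ W) (hJ : 3 ≤ J)
    (hP : J * T * W + T + 1 ≤ P) : J * (T + 1) * (2 * W + 2 * T - 1) ^ 2 < T * P ^ 2 := by
  have hJT : 0 ≤ J * T * W := by positivity
  have h0 : (J * T * W + T + 1) ^ 2 ≤ P ^ 2 := pow_le_pow_left₀ (by positivity) hP 2
  have h1 : (J * T * W) ^ 2 + 2 * (J * T * W) * (T + 1) ≤ P ^ 2 :=
    le_trans (by nlinarith [sq_nonneg (T + 1)]) h0
  -- with `J = 3`
  have h2 : J * (3 * T ^ 2 * W ^ 2 + 2 * T * W * (T + 1)) ≤ P ^ 2 := by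
    refine le_trans ?_ h1
    nlinarith [mul_nonneg (mul_nonneg (sub_nonneg.2 hJ) (sq_nonneg (T * W))) (show (0:ℝ) ≤ J by linarith)]
  have h3 : (T + 1) * (2 * W + 2 * T - 1) ^ 2 < T * (3 * T ^ 2 * W ^ 2 + 2 * T * W * (T + 1)) := by
    obtain ⟨t, ht, rfl⟩ : ∃ t : ℝ, 0 ≤ t ∧ T = t + 2 := ⟨T - 2, by linarith, by ring⟩
    obtain ⟨w, hw, rfl⟩ : ∃ w : ℝ, 0 ≤ w ∧ W = w + 3 := ⟨W - 3, by linarith, by ring⟩
    nlinarith [mul_nonneg ht hw, mul_nonneg (mul_nonneg ht ht) hw, mul_nonneg (mul_nonneg ht hw) hw,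
      mul_nonneg (mul_nonneg ht ht) (mul_nonneg hw hw), mul_nonneg (mul_nonneg ht (mul_nonneg ht ht)) hw,
      mul_nonneg (mul_nonneg ht (mul_nonneg ht ht)) (mul_nonneg hw hw), sq_nonneg t, sq_nonneg w,
      mul_nonneg ht (sq_nonneg t)]
  calc J * (T + 1) * (2 * W + 2 * T - 1) ^ 2 = J * ((T + 1) * (2 * W + 2 * T - 1) ^ 2) := by ring
    _ < J * (T * (3 * T ^ 2 * W ^ 2 + 2 * T * W * (T + 1))) :=
        mul_lt_mul_of_pos_left h3 (by linarith)
    _ = T * (J * (3 * T ^ 2 * W ^ 2 + 2 * T * W * (T + 1))) := by ring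
    _ ≤ T * P ^ 2 := mul_le_mul_of_nonneg_left h2 (by linarith)

end CfsgLib.BrauerOrderP
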