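import Cfsg.Agent.Characters.RepBasic
import Cfsg.Agent.Characters.Orthogonality

/-!
# Characters averaged over a coset of a normalised subgroup

The sum of a character over the coset `g H` of a subgroup normalised by `g` is at most, in absolute
value, its sum over `H`.
-/

set_option autoImplicit false
set_option linter.style.haveILetI false
set_option linter.unusedSectionVars false

namespace CfsgLib.BrauerOrderP

open Cfsg CfsgLib.Characters

universe u v

variable {G : Type u} [Group G] [Fintype G]

/-- For a normal subgroup and an irreducible representation. -/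
theorem exists_avg_scalar {V : Type v} [AddCommGroup V] [Module ℂ V] [FiniteDimensional ℂ V]
    (ρ : Representation ℂ G V) [ρ.IsIrreducible] (H : Subgroup G) [H.Normal] [Fintype H] :
    ∃ c : ℂ, (c = 0 ∨ c = Nat.card H) ∧
      ∀ g : G, ∑ h : H, ρ.character (g * h) = c * ρ.character g := by
  classical
  set T : Module.End ℂ V := ∑ h : H, ρ (h : G) with hT
  have hcomm : ∀ g x, T (ρ g x) = ρ g (T x) := by
    intro g x
    simp only [hT, LinearMap.sum_apply, map_sum, ← Module.End.mul_apply, ← map_mul]
    refine Fintype.sum_equiv ((MulAut.conjNormal g⁻¹ : MulAut H)).toEquiv _ _ fun h => ?_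
    show ρ ((h : G) * g) x = ρ (g * ((MulAut.conjNormal g⁻¹ h : H) : G)) x
    rw [MulAut.conjNormal_apply]
    simp [mul_assoc]
  obtain ⟨c, hc⟩ := schur_scalar ρ T hcomm
  refine ⟨c, ?_, fun g => ?_⟩
  · have hsq : T * T = (Nat.card H : ℂ) • T := by
      conv_lhs => rw [hT]
      rw [Finset.sum_mul, Finset.sum_congr rfl (g := fun _ : H => T) fun h _ => by
        rw [hT, Finset.mul_sum]
        exact Fintype.sum_equiv (Equiv.mulLeft h) _ _ fun h' => by
          rw [← map_mul]; rfl]
      rw [Finset.sum_const, Finset.card_univ, ← Nat.card_eq_fintype_card]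
      exact (Nat.cast_smul_eq_nsmul ℂ _ T).symm
    haveI := nontrivial_of_isIrreducible ρ
    obtain ⟨x, hx⟩ := exists_ne (0 : V)
    have h2 := congrArg (fun S : Module.End ℂ V => S x) hsq
    simp only [hc, Module.End.mul_apply, LinearMap.smul_apply, LinearMap.id_apply, smul_smul] at h2
    have h3 := smul_left_injective ℂ hx h2
    rcases mul_eq_mul_right_iff.1 h3 with h | h
    · exact Or.inr h
    · exact Or.inl h
  · have h1 : ρ g * T = c • ρ g := by
      ext x
      simp [hc, Module.End.mul_apply]
    have h2 := congrArg (LinearMap.trace ℂ V) h1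
    rw [map_smul, smul_eq_mul, hT, Finset.mul_sum, map_sum] at h2
    rw [Representation.character, ← h2]
    exact Finset.sum_congr rfl fun h _ => by rw [Representation.character, map_mul]

/-- The sum over a coset is bounded by the sum over the subgroup. -/
theorem norm_sum_coset_le {χ : G → ℂ} (hχ : Cfsg.IsCharacter G χ) (H : Subgroup G) [Fintype H]
    {g : G} (hg : g ∈ Subgroup.normalizer (H : Set G)) :
    ‖∑ h : H, χ (g * h)‖ ≤ (∑ h : H, χ h).re := by
  classical
  set N := Subgroup.normalizer (H : Set G) with hN
  haveI := Fintype.ofFinite N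
  have hle : H ≤ N := Subgroup.le_normalizer
  set H' := H.subgroupOf N with hH'
  haveI : H'.Normal := Subgroup.normal_in_normalizer
  haveI := Fintype.ofFinite H'
  have hmain : ∀ f : N → ℂ, Cfsg.IsCharacter N f → ∀ a : N,
      ‖∑ h : H', f (a * h)‖ ≤ (∑ h : H', f h).re := by
    intro f hf a
    obtain ⟨l, rfl⟩ := exists_list_irr hf
    induction l with
    | nil => simp
    | cons θ l ih =>
      have ih' := ih (by
        refine List.recOn l isCharacter_zero fun θ' l' h' => ?_
        simpa using isCharacter_add (isCharacter_of_isIrr θ'.2) h')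
      simp only [List.map_cons, List.sum_cons, Pi.add_apply, Finset.sum_add_distrib, Complex.add_re]
      refine (norm_add_le _ _).trans (add_le_add ?_ ih')
      obtain ⟨n, ρ, hρi, hρ⟩ := θ.2
      haveI := hρi
      obtain ⟨c, hc, hsum⟩ := exists_avg_scalar ρ H'
      have h1 := hsum a
      have h2 := hsum 1
      simp only [one_mul, Representation.char_one] at h2
      rw [← hρ, h1, h2]
      rcases hc with rfl | rfl
      · simp
      · rw [norm_mul, Complex.norm_natCast, ← Nat.cast_mul, Complex.natCast_re, Nat.cast_mul]
        exact mul_le_mul_of_nonneg_left (norm_char_le ρ a) (Nat.cast_nonneg _)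
  have h := hmain (fun x : N => χ x) (isCharacter_restrict N hχ) ⟨g, hg⟩
  rw [Fintype.sum_equiv (Subgroup.subgroupOfEquivOfLe hle).symm.toEquiv (fun h : H => χ (g * h))
    (fun h : H' => χ ((⟨g, hg⟩ : N) * (h : N) : N)) fun h => rfl,
    Fintype.sum_equiv (Subgroup.subgroupOfEquivOfLe hle).symm.toEquiv (fun h : H => χ h)
    (fun h : H' => χ ((h : N) : G)) fun h => rfl]
  exact h

end CfsgLib.BrauerOrderP
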