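import Cfsg.Agent.BrauerOrderP.Perfect

/-!
# Sums over the principal block with several exceptional characters
-/

set_option autoImplicit false
set_option linter.style.haveILetI false
set_option linter.unusedSectionVars false

namespace CfsgLib.BrauerOrderP

open Cfsg CfsgLib.Characters CfsgLib.DefectOne
open scoped ComplexConjugate

universe u

variable {G : Type u} [Group G] {p : ℕ} [Fact p.Prime] [Fintype G] {L : Local p G}

/-- The block is the union of the constant rows and the exceptional characters. -/
theorem Exceptional.sum_block (D : Exceptional L) (ht : 1 < Nat.card (L.ColOver (O0 L)))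
    [Fintype (L.ColOver (O0 L))] [DecidablePred fun χ : IrrCharacter G => InB L χ]
    {R : Type*} [AddCommMonoid R] (F : IrrCharacter G → R) :
    ∑ χ ∈ Finset.univ.filter (fun χ : IrrCharacter G => InB L χ), F χ =
      ∑ χ ∈ rowsOf L 1, F χ + ∑ χ ∈ rowsOf L (-1), F χ + ∑ q, F (D.f q) := by
  classical
  have hset : (Finset.univ.filter fun χ : IrrCharacter G => InB L χ) =
      (rowsOf L 1 ∪ rowsOf L (-1)) ∪ Finset.univ.image D.f := by
    ext χ
    simp only [Finset.mem_filter, Finset.mem_univ, true_and, Finset.mem_union, mem_rowsOf,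
      Finset.mem_image]
    refine ⟨fun h => ?_, ?_⟩
    · rcases D.cover χ h with h1 | h1 | ⟨q, rfl⟩
      · exact Or.inl (Or.inl h1)
      · exact Or.inl (Or.inr h1)
      · exact Or.inr ⟨q, rfl⟩
    · rintro ((h | h) | ⟨q, rfl⟩)
      · exact h.inB
      · exact h.inB
      · exact (D.unit q).inB
  have hdisj : Disjoint (rowsOf L 1 ∪ rowsOf L (-1)) (Finset.univ.image D.f) := by
    rw [Finset.disjoint_left]
    intro χ h h'
    obtain ⟨q, -, rfl⟩ := Finset.mem_image.1 h'
    rcases Finset.mem_union.1 h with h | h <;>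
      exact not_unit_of_const L ht (mem_rowsOf.1 h) (D.unit q)
  rw [hset, Finset.sum_union hdisj, Finset.sum_union disjoint_rowsOf,
    Finset.sum_image fun a _ b _ h => D.inj h]

/-- The values at a non-trivial element of `P` against any function. -/
theorem Exceptional.sum_value (D : Exceptional L) (ht : 1 < Nat.card (L.ColOver (O0 L)))
    (hK : L.K = ⊥) [Fintype (L.ColOver (O0 L))] [Fintype L.Lam]
    {u : ↥(L.P : Subgroup G)} (hu : u ≠ 1) (F : IrrCharacter G → ℂ) :
    ∑ χ : IrrCharacter G, (χ : G → ℂ) (u : G) * F χ =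
      ∑ χ ∈ rowsOf L 1, F χ - ∑ χ ∈ rowsOf L (-1), F χ -
        (D.a : ℂ) * ∑ q, eta L q u * F (D.f q) := by
  classical
  rw [← Finset.sum_subset (Finset.subset_univ
      (Finset.univ.filter fun χ : IrrCharacter G => InB L χ)) fun χ _ hχ => ?_,
    D.sum_block ht (fun χ => (χ : G → ℂ) (u : G) * F χ)]
  · rw [Finset.sum_congr rfl (g := F) (s₂ := rowsOf L 1) fun χ hχ => by
        have := (mem_rowsOf.1 hχ).value hu 1
        rw [OneMemClass.coe_one, mul_one] at this
        rw [this, Int.cast_one, one_mul],
      Finset.sum_congr rfl (g := fun χ => -F χ) (s₂ := rowsOf L (-1)) fun χ hχ => by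
        have := (mem_rowsOf.1 hχ).value hu 1
        rw [OneMemClass.coe_one, mul_one] at this
        rw [this, Int.cast_neg, Int.cast_one, neg_one_mul],
      Finset.sum_congr rfl (g := fun q => -(D.a : ℂ) * (eta L q u * F (D.f q)))
        (s₂ := (Finset.univ : Finset (L.ColOver (O0 L)))) fun q _ => by
        have := (D.unit q).value hu 1
        rw [OneMemClass.coe_one, mul_one] at this
        rw [this, mul_assoc]]
    rw [Finset.sum_neg_distrib, ← Finset.mul_sum]
    ring
  · simp only [Finset.mem_filter, Finset.mem_univ, true_and] at hχ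
    rw [value_out L hK hχ hu, zero_mul]

/-- A degree outside the block is a multiple of `p`. -/
theorem dvd_degree_out [Fintype L.Lam] (hK : L.K = ⊥) {χ : IrrCharacter G} (h : ¬ InB L χ) :
    p ∣ Cfsg.charDegree (χ : G → ℂ) := by
  classical
  haveI := Fintype.ofFinite (L.P : Subgroup G)
  obtain ⟨m, hm⟩ := classInner_characters (isCharacter_restrict (L.P : Subgroup G)
    (isCharacter_of_isIrr χ.2)) (isCharacter_of_isIrr (isIrr_one (G := (L.P : Subgroup G))))
  have h1 : ∑ x : (L.P : Subgroup G), (χ : G → ℂ) x = (χ : G → ℂ) 1 := by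
    rw [Finset.sum_eq_single 1 (fun x _ hx => value_out L hK h hx) (by simp)]
    rfl
  rw [Cfsg.classInner] at hm
  simp only [map_one, mul_one] at hm
  rw [h1, L.card_P, ← Blocks.charDegree_cast χ, inv_mul_eq_iff_eq_mul₀
    (Nat.cast_ne_zero.2 (Fact.out : p.Prime).ne_zero)] at hm
  exact ⟨m, by exact_mod_cast hm⟩

end CfsgLib.BrauerOrderP
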