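import Cfsg.Agent.BrauerOrderP.Perfect
import Cfsg.Agent.BrauerOrderP.Arith

/-!
# The degrees in the principal block when `n` is not an exceptional number

Let `G` be perfect without normal `p'`-subgroup, with `1 + n p` Sylow subgroups of order `p`, and
suppose `n` is not a Brauer value.  The non-trivial rows of sign `1` have degree `1 + n p`, those of
sign `-1` have degree `p - 1`, and the exceptional characters are pinned down.
-/

set_option autoImplicit false
set_option linter.style.haveILetI false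
set_option linter.unusedSectionVars false

namespace CfsgLib.BrauerOrderP

open Cfsg CfsgLib.Characters CfsgLib.DefectOne
open scoped commutatorElement

universe u

variable {G : Type u} [Group G] {p : ℕ} [Fact p.Prime] [Fintype G]

/-- The standing hypotheses. -/
structure PerfectCtx (L : Local p G) (n : ℕ) : Prop where
  perf : commutator G = ⊤
  core : Cfsg.pPrimeCore p G = ⊥
  card : Nat.card (Sylow p G) = 1 + n * p
  noValue : ¬ IsBrauerValue p n

variable {L : Local p G} {n : ℕ}

/-- The number of Sylow subgroups is congruent to one. -/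
theorem PerfectCtx.card_zmod (h : PerfectCtx L n) : (Nat.card (Sylow p G) : ZMod p) = 1 := by
  rw [h.card]; simp

theorem cast_pred (p : ℕ) [Fact p.Prime] : ((p - 1 : ℕ) : ZMod p) = -1 := by
  rw [Nat.cast_sub (Fact.out : p.Prime).one_le, Nat.cast_one, ZMod.natCast_self, zero_sub]

theorem eq_of_zmod {a b : ℕ} (ha : a < p) (hb : b < p) (h : (a : ZMod p) = b) : a = b := by
  have := congrArg ZMod.val h
  rwa [ZMod.val_cast_of_lt ha, ZMod.val_cast_of_lt hb] at this

theorem PerfectCtx.e_ge (h : PerfectCtx L n) : 2 ≤ e L := two_le_e L h.perf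

theorem PerfectCtx.three_le (h : PerfectCtx L n) : 3 ≤ p := by
  have := e_lt L
  have := h.e_ge
  omega

theorem PerfectCtx.e_dvd_card (_h : PerfectCtx L n) :
    e L * Nat.card (Sylow p G) ∣ (p - 1) * Nat.card (Sylow p G) :=
  Nat.mul_dvd_mul_right (e_dvd L) _

/-- A divisor congruent to one is trivial or large. -/
theorem PerfectCtx.dichotomy (h : PerfectCtx L n) {d : ℕ} (hd : (d : ZMod p) = 1)
    (hdvd : d ∣ (p - 1) * Nat.card (Sylow p G)) : d = 1 ∨ Nat.card (Sylow p G) ≤ d := by
  by_contra hc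
  push Not at hc
  have hpos : d ≠ 0 := by
    rintro rfl
    rw [Nat.cast_zero] at hd
    exact zero_ne_one hd
  refine h.noValue (isBrauerValue_of_dvd (Fact.out : p.Prime).two_le ?_ (by omega)
    (h.card ▸ hc.2) (h.card ▸ hdvd))
  rw [← ZMod.intCast_eq_intCast_iff]
  push_cast
  exact hd

/-- `P` is not normal. -/
theorem PerfectCtx.n_pos (h : PerfectCtx L n) : 1 ≤ n := by
  by_contra hn
  have h1 : Nat.card (Sylow p G) = 1 := by
    have := h.card
    rw [show n = 0 by omega, zero_mul, add_zero] at this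
    exact this
  haveI : (L.P : Subgroup G).Normal :=
    (Nat.card_eq_one_iff_unique.1 h1).1 |> fun hs => by
      haveI := hs; exact Sylow.normal_of_subsingleton L.P
  have hNle : (⊤ : Subgroup G) ≤ L.N := by
    rw [Local.N, Subgroup.normalizer_eq_top]
  have hab : commutator G ≤ Subgroup.centralizer ((L.P : Subgroup G) : Set G) := by
    haveI : IsCyclic (L.P : Subgroup G) := isCyclic_of_prime_card L.card_P
    let φ : G →* MulAut (L.P : Subgroup G) := MulAut.conjNormal
    rw [commutator_def, Subgroup.commutator_le]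
    intro a _ b _
    have hcomm : ∀ σ τ : MulAut (L.P : Subgroup G), σ * τ = τ * σ := by
      intro σ τ
      obtain ⟨i, hi⟩ := MonoidHom.map_cyclic σ.toMonoidHom
      obtain ⟨j, hj⟩ := MonoidHom.map_cyclic τ.toMonoidHom
      refine MulEquiv.ext fun x => ?_
      show σ.toMonoidHom (τ.toMonoidHom x) = τ.toMonoidHom (σ.toMonoidHom x)
      rw [hj x, hi x, map_zpow, map_zpow, hi x, hj x, ← zpow_mul, ← zpow_mul, mul_comm]
    rw [Subgroup.mem_centralizer_iff]
    intro x hx
    have h1 : φ ⁅a, b⁆ = 1 := by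
      rw [map_commutatorElement, commutatorElement_eq_one_iff_commute]
      exact hcomm _ _
    have h2 : ⁅a, b⁆ * x * ⁅a, b⁆⁻¹ = x := congrArg Subtype.val (MulEquiv.congr_fun h1 ⟨x, hx⟩)
    exact (mul_inv_eq_iff_eq_mul.1 h2).symm
  rw [h.perf] at hab
  have h2 := card_N L
  have h3 : Nat.card L.N ≤ Nat.card (Subgroup.centralizer ((L.P : Subgroup G) : Set G)) :=
    Subgroup.card_le_of_le (le_top.trans hab)
  rw [L.card_centralizer, ← h2] at h3
  have h4 := h.e_ge
  have h5 : 0 < p * Nat.card L.K := Nat.mul_pos (Fact.out : p.Prime).pos Nat.card_pos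
  have h6 : 2 * (p * Nat.card L.K) ≤ e L * (p * Nat.card L.K) := Nat.mul_le_mul_right _ h4
  omega

/-- The degrees of the non-trivial rows of sign one. -/
theorem PerfectCtx.pos_degree (h : PerfectCtx L n) {χ : IrrCharacter G} (hχ : IsConst L χ 1)
    (hne : (χ : G → ℂ) ≠ fun _ => 1) :
    Cfsg.charDegree (χ : G → ℂ) = Nat.card (Sylow p G) := by
  set x := Cfsg.charDegree (χ : G → ℂ) with hx
  set s := Nat.card (Sylow p G) with hs
  obtain ⟨m, hm⟩ := hχ.congr
  have hx1 : (x : ZMod p) = 1 := by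
    have := congrArg (fun z : ℤ => (z : ZMod p)) hm
    simp only [Int.cast_add, Int.cast_mul, Int.cast_one, Int.cast_natCast, cast_pred,
      ZMod.natCast_self, zero_mul, mul_one] at this
    linear_combination this
  have hdvd : x ∣ e L * s := hχ.dvd
  rcases h.dichotomy hx1 (hdvd.trans h.e_dvd_card) with h1 | h1
  · exact absurd (eq_one_of_degree_one h.perf h1) hne
  obtain ⟨q, hq⟩ := hdvd
  have hq2 : (q : ZMod p) = e L := by
    have := congrArg (fun z : ℕ => (z : ZMod p)) hq
    simp only [Nat.cast_mul, hx1, one_mul, hs, h.card_zmod, mul_one] at this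
    exact this.symm
  have hqle : q ≤ e L := by
    by_contra hc
    push Not at hc
    have h2 : s * (e L + 1) ≤ x * q := Nat.mul_le_mul h1 hc
    have h3 : 0 < s := Nat.card_pos
    nlinarith
  have hqe : q = e L := eq_of_zmod (by have := e_lt L; omega) (e_lt L) hq2
  rw [hqe, mul_comm (e L)] at hq
  exact (Nat.eq_of_mul_eq_mul_right (e_pos L) hq).symm

/-- The degrees of the rows of sign minus one. -/
theorem PerfectCtx.neg_degree (h : PerfectCtx L n) {χ : IrrCharacter G} (hχ : IsConst L χ (-1)) :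
    Cfsg.charDegree (χ : G → ℂ) = p - 1 ∨
      (Cfsg.charDegree (χ : G → ℂ) = (p - 1) * Nat.card (Sylow p G) ∧ e L = p - 1) := by
  set x := Cfsg.charDegree (χ : G → ℂ) with hx
  have hsz := h.card_zmod
  have hE := h.e_dvd_card
  have hdv := hχ.dvd
  have hdi : ∀ d : ℕ, (d : ZMod p) = 1 → d ∣ (p - 1) * Nat.card (Sylow p G) →
      d = 1 ∨ Nat.card (Sylow p G) ≤ d := fun d => h.dichotomy
  have hs0 : 0 < Nat.card (Sylow p G) := Nat.card_pos
  rw [← hx] at hdv
  generalize Nat.card (Sylow p G) = s at hsz hE hdv hdi hs0 ⊢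
  obtain ⟨m, hm⟩ := hχ.congr
  have hx1 : (x : ZMod p) = -1 := by
    have := congrArg (fun z : ℤ => (z : ZMod p)) hm
    simp only [Int.cast_add, Int.cast_mul, Int.cast_one, Int.cast_neg, Int.cast_natCast, cast_pred,
      ZMod.natCast_self, zero_mul] at this
    linear_combination this
  have hdvd : x ∣ e L * s := hdv
  obtain ⟨d, hd⟩ := hdvd.trans hE
  have hd1 : (d : ZMod p) = 1 := by
    have := congrArg (fun z : ℕ => (z : ZMod p)) hd
    simp only [Nat.cast_mul, hx1, hsz, cast_pred] at this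
    linear_combination this
  rcases hdi d hd1 ⟨x, by rw [hd, mul_comm]⟩ with h1 | h1
  · right
    rw [h1, mul_one] at hd
    refine ⟨hd.symm, ?_⟩
    obtain ⟨q, hq⟩ := hdvd
    have h2 : p - 1 ≤ e L := by
      by_contra hc
      push Not at hc
      have h3 : e L * s < (p - 1) * s := Nat.mul_lt_mul_of_pos_right hc hs0
      rcases Nat.eq_zero_or_pos q with rfl | hq0
      · have := Nat.mul_pos (e_pos L) hs0
        omega
      · have h4 : x ≤ x * q := Nat.le_mul_of_pos_right _ hq0
        omega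
    have := e_lt L
    omega
  · left
    have hxle : x ≤ p - 1 := by
      by_contra hc
      push Not at hc
      have hp0 := (Fact.out : p.Prime).pos
      have h2 : p * s ≤ x * d := Nat.mul_le_mul (by omega) h1
      have h3 : (p - 1) * s < p * s := Nat.mul_lt_mul_of_pos_right (by omega) hs0
      omega
    refine eq_of_zmod (p := p) ?_ ?_ (by rw [hx1, cast_pred]) <;>
      · have := (Fact.out : p.Prime).pos
        omega

/-- The trivial character and the others among the rows of sign one. -/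
theorem PerfectCtx.pos_split (h : PerfectCtx L n) :
    ∃ (χ₁ : IrrCharacter G) (k : ℕ), χ₁ ∈ rowsOf L 1 ∧ (χ₁ : G → ℂ) = (fun _ => 1) ∧
      (rowsOf L 1).card = k + 1 ∧
      (∀ χ ∈ (rowsOf L 1).erase χ₁, Cfsg.charDegree (χ : G → ℂ) = Nat.card (Sylow p G)) ∧
      ∑ χ ∈ rowsOf L 1, (χ : G → ℂ) 1 = 1 + (k : ℂ) * (Nat.card (Sylow p G) : ℂ) := by
  classical
  obtain ⟨χ₁, h1, h2⟩ := one_isConst L
  have hmem : χ₁ ∈ rowsOf L 1 := mem_rowsOf.2 h2
  have hdeg : ∀ χ ∈ (rowsOf L 1).erase χ₁, Cfsg.charDegree (χ : G → ℂ) = Nat.card (Sylow p G) := by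
    intro χ hχ
    obtain ⟨hne, hm⟩ := Finset.mem_erase.1 hχ
    exact h.pos_degree (mem_rowsOf.1 hm) fun hf => hne (Subtype.ext (hf.trans h1.symm))
  refine ⟨χ₁, ((rowsOf L 1).erase χ₁).card, hmem, h1, (Finset.card_erase_add_one hmem).symm, hdeg, ?_⟩
  rw [← Finset.add_sum_erase _ _ hmem, Finset.sum_congr rfl fun χ hχ => by
    rw [← Blocks.charDegree_cast χ, hdeg χ hχ], h1, Finset.sum_const, nsmul_eq_mul]

/-- The data when there is one exceptional column. -/
theorem PerfectCtx.oneCol_data (h : PerfectCtx L n) (ht : Nat.card (L.ColOver (O0 L)) = 1) :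
    e L = p - 1 ∧ (∀ χ ∈ rowsOf L (-1), Cfsg.charDegree (χ : G → ℂ) = p - 1) ∧
      (rowsOf L (-1)).Nonempty ∧ ∃ k : ℕ, k * (n + 1) = p - 2 := by
  classical
  have he : e L = p - 1 := by
    have := card_cols_mul L
    rwa [ht, one_mul] at this
  obtain ⟨-, hcount, hrel⟩ := const_of_one_col L ht
  obtain ⟨χ₁, k, -, -, hk, -, hpos⟩ := h.pos_split
  have hreg1 : ¬ p ∣ orderOf (1 : G) := by
    rw [orderOf_one, Nat.dvd_one]; exact (Fact.out : p.Prime).ne_one
  have h1 : (((1 + k * Nat.card (Sylow p G) : ℕ)) : ℂ) =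
      ((∑ χ ∈ rowsOf L (-1), Cfsg.charDegree (χ : G → ℂ) : ℕ) : ℂ) := by
    rw [Nat.cast_sum]
    simp only [Blocks.charDegree_cast]
    rw [← hrel 1 hreg1, hpos]
    push_cast; rfl
  have h1' := Nat.cast_injective h1
  set s := Nat.card (Sylow p G) with hs
  have hn := h.n_pos
  have hs2 : p < s := by rw [hs, h.card]; nlinarith
  have hp3 := h.three_le
  have hdeg : ∀ χ ∈ rowsOf L (-1), Cfsg.charDegree (χ : G → ℂ) = p - 1 := by
    intro χ hχ
    rcases h.neg_degree (mem_rowsOf.1 hχ) with h2 | ⟨h2, -⟩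
    · exact h2
    · exfalso
      have h3 : (p - 1) * s ≤ 1 + k * s := by
        rw [h1', ← h2]
        exact Finset.single_le_sum (f := fun χ : IrrCharacter G => Cfsg.charDegree (χ : G → ℂ))
          (fun _ _ => Nat.zero_le _) hχ
      have h4 : k < p - 1 := by
        have := Finset.card_pos.2 ⟨χ, hχ⟩
        omega
      have h5 : (k + 1) * s ≤ (p - 1) * s := Nat.mul_le_mul_right _ h4
      rw [add_mul, one_mul] at h5
      omega
  rw [Finset.sum_congr rfl hdeg, Finset.sum_const, smul_eq_mul] at h1'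
  refine ⟨he, hdeg, ?_, k, ?_⟩
  · by_contra hc
    rw [Finset.not_nonempty_iff_eq_empty] at hc
    rw [hc, Finset.card_empty, zero_mul] at h1'
    omega
  · rw [hk] at hcount
    set M := (rowsOf L (-1)).card
    rw [hs, h.card] at h1'
    obtain ⟨p', rfl⟩ : ∃ p', p = p' + 2 := ⟨p - 2, by omega⟩
    simp only [Nat.add_sub_cancel, show p' + 2 - 1 = p' + 1 by omega] at h1' ⊢
    -- `M = k n + 1`
    have hM : (M : ℤ) - k * n = 1 := by
      have h6 : ((p' : ℤ) + 2) * ((M : ℤ) - k * n - 1) = 0 := by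
        have h7 : ((1 + k * (1 + n * (p' + 2)) : ℕ) : ℤ) = ((M * (p' + 1) : ℕ) : ℤ) := by rw [h1']
        have h8 : ((k + 1 + M : ℕ) : ℤ) = ((p' + 2 : ℕ) : ℤ) := by rw [hcount]
        push_cast at h7 h8
        linear_combination -h7 + h8
      rcases mul_eq_zero.1 h6 with h9 | h9 <;> omega
    have h10 : ((k * (n + 1) : ℕ) : ℤ) = (p' : ℤ) := by
      have h8 : ((k + 1 + M : ℕ) : ℤ) = ((p' + 2 : ℕ) : ℤ) := by rw [hcount]
      push_cast at h8 ⊢
      linear_combination h8 - hM
    exact_mod_cast h10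

/-- The data when there are several exceptional columns. -/
theorem PerfectCtx.exceptional_data (h : PerfectCtx L n) (D : Exceptional L)
    (ht : 1 < Nat.card (L.ColOver (O0 L))) :
    (∀ χ ∈ rowsOf L (-1), Cfsg.charDegree (χ : G → ℂ) = p - 1) ∧
      (rowsOf L (-1)).Nonempty ∧
      ∃ k : ℕ, (rowsOf L 1).card = k + 1 ∧
        ((D.a = -1 ∧ D.y = e L ∧ (rowsOf L (-1)).card = k * n ∧ k * (n + 1) + 1 = e L) ∨
        (D.a = 1 ∧ ∃ j : ℕ, D.y + e L = p * j ∧
          Nat.card (L.ColOver (O0 L)) * D.y = Nat.card (Sylow p G) ∧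
          j * Nat.card (L.ColOver (O0 L)) = n + 1 ∧
          (rowsOf L (-1)).card = k * n + j ∧
          e L = 1 + j * (k * Nat.card (L.ColOver (O0 L)) + 1))) := by
  classical
  haveI := L.finite_col
  haveI := Fintype.ofFinite (L.ColOver (O0 L))
  set t := Nat.card (L.ColOver (O0 L)) with htdef
  set s := Nat.card (Sylow p G) with hs
  have hs0 : 0 < s := Nat.card_pos
  have hte : t * e L = p - 1 := card_cols_mul L
  have he2 := h.e_ge
  have hlt := e_lt L
  have hp3 := h.three_le
  have hn := h.n_pos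
  have hs2 : p < s := by rw [hs, h.card]; nlinarith
  have hne : e L ≠ p - 1 := by
    intro hc
    rw [hc] at hte
    have : 2 * (p - 1) ≤ t * (p - 1) := Nat.mul_le_mul_right _ ht
    omega
  have hdeg : ∀ χ ∈ rowsOf L (-1), Cfsg.charDegree (χ : G → ℂ) = p - 1 := by
    intro χ hχ
    rcases h.neg_degree (mem_rowsOf.1 hχ) with h2 | ⟨-, h2⟩
    · exact h2
    · exact absurd h2 hne
  obtain ⟨χ₁, k, -, -, hk, -, hpos⟩ := h.pos_split
  obtain ⟨q⟩ := nonempty_cols L
  have hreg1 : ¬ p ∣ orderOf (1 : G) := by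
    rw [orderOf_one, Nat.dvd_one]; exact (Fact.out : p.Prime).ne_one
  set M := (rowsOf L (-1)).card with hM
  have hrel : (1 : ℤ) + k * s - M * ((p : ℤ) - 1) + D.a * D.y = 0 := by
    have h1 := D.rel q 1 hreg1
    rw [hpos, Finset.sum_congr rfl (fun χ hχ => by
      rw [← Blocks.charDegree_cast χ, hdeg χ hχ] : ∀ χ ∈ rowsOf L (-1),
        (χ : G → ℂ) 1 = ((p - 1 : ℕ) : ℂ)), Finset.sum_const, nsmul_eq_mul,
      ← Blocks.charDegree_cast (D.f q), D.deg q, ← hM, ← hs,
      Nat.cast_sub (Fact.out : p.Prime).one_le, Nat.cast_one] at h1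
    exact_mod_cast h1
  have hcnt : k + 1 + M = e L := by rw [← hk]; exact D.count
  have hsz : (s : ℤ) = 1 + n * p := by exact_mod_cast h.card
  have hy0 : 0 < D.y := by
    rw [← D.deg q]
    exact Nat.pos_of_ne_zero (Blocks.charDegree_ne_zero _)
  have hydvd : D.y ∣ e L * s := unit_dvd L D.unit D.deg
  obtain ⟨m, hm⟩ := (D.unit q).congr
  rw [D.deg q] at hm
  have htes : (t * e L : ℤ) = (p : ℤ) - 1 := by
    have : ((t * e L : ℕ) : ℤ) = ((p - 1 : ℕ) : ℤ) := by rw [hte]
    push_cast [Nat.cast_sub (Fact.out : p.Prime).one_le] at this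
    exact this
  rcases D.ha with ha | ha
  · -- sign `1`
    rw [ha, mul_one] at hm
    rw [ha, one_mul] at hrel
    have hyz : (D.y : ZMod p) = -(e L : ZMod p) := by
      have := congrArg (fun z : ℤ => (z : ZMod p)) hm
      simp only [Int.cast_add, Int.cast_mul, Int.cast_natCast, ZMod.natCast_self, zero_mul] at this
      exact eq_neg_of_add_eq_zero_left this
    have htez : (t : ZMod p) * (e L : ZMod p) = -1 := by
      rw [← Nat.cast_mul, hte, cast_pred]
    have hd1 : ((t * D.y : ℕ) : ZMod p) = 1 := by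
      rw [Nat.cast_mul, hyz, mul_neg, htez, neg_neg]
    have hdd : t * D.y ∣ (p - 1) * s := by
      rw [← hte, mul_assoc]; exact Nat.mul_dvd_mul_left t hydvd
    have hbig : s ≤ t * D.y := by
      rcases h.dichotomy hd1 hdd with h1 | h1
      · have : 2 * 1 ≤ t * D.y := Nat.mul_le_mul ht hy0
        omega
      · exact h1
    obtain ⟨q', hq'⟩ := hdd
    have hq'z : (q' : ZMod p) = -1 := by
      have := congrArg (fun z : ℕ => (z : ZMod p)) hq'
      simp only [Nat.cast_mul, cast_pred, hs, h.card_zmod, mul_one] at this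
      rw [← Nat.cast_mul, hd1, one_mul] at this
      exact this.symm
    have hq'le : q' ≤ p - 1 := by
      by_contra hc
      push Not at hc
      have h2 : s * p ≤ t * D.y * q' := Nat.mul_le_mul hbig (by omega)
      have h3 : (p - 1) * s < p * s := Nat.mul_lt_mul_of_pos_right (by omega) hs0
      rw [mul_comm p s] at h3
      omega
    have hq'eq : q' = p - 1 := eq_of_zmod (p := p) (by omega) (by omega) (by rw [hq'z, cast_pred])
    have hty : t * D.y = s := by
      rw [hq'eq, mul_comm _ (p - 1)] at hq'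
      exact (Nat.eq_of_mul_eq_mul_left (by omega : 0 < p - 1) hq').symm
    have htyz : (t : ℤ) * D.y = s := by exact_mod_cast hty
    have hjt : (m : ℤ) * t = (n : ℤ) + 1 := by
      have h6 : (p : ℤ) * ((m : ℤ) * t - n - 1) = 0 := by
        linear_combination htyz + htes - (t : ℤ) * hm + hsz
      rcases mul_eq_zero.1 h6 with h9 | h9 <;> omega
    have hcz : (k : ℤ) + 1 + M = e L := by exact_mod_cast hcnt
    have hMz : (M : ℤ) = k * n + m := by
      have h6 : (p : ℤ) * ((M : ℤ) - k * n - m) = 0 := by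
        linear_combination -hrel + hm + hcz + (k : ℤ) * hsz
      rcases mul_eq_zero.1 h6 with h9 | h9
      · omega
      · linarith
    have hm1 : 1 ≤ m := by
      rcases Nat.eq_zero_or_pos m with rfl | h0
      · push_cast at hm; omega
      · exact h0
    refine ⟨hdeg, ?_, k, hk, Or.inr ⟨ha, m, ?_, hty, ?_, ?_, ?_⟩⟩
    · rw [← Finset.card_pos, ← hM]
      have : (0 : ℤ) < M := by rw [hMz]; positivity
      exact_mod_cast this
    · exact_mod_cast hm
    · exact_mod_cast hjt
    · exact_mod_cast hMz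
    · have : (e L : ℤ) = 1 + (m : ℤ) * ((k : ℤ) * t + 1) := by
        linear_combination -hcz + hMz - (k : ℤ) * hjt
      exact_mod_cast this
  · -- sign `-1`
    rw [ha] at hm hrel
    have hyz : (D.y : ZMod p) = (e L : ZMod p) := by
      have := congrArg (fun z : ℤ => (z : ZMod p)) hm
      simp only [Int.cast_add, Int.cast_mul, Int.cast_natCast, Int.cast_neg, Int.cast_one,
        ZMod.natCast_self, zero_mul] at this
      linear_combination this
    obtain ⟨q', hq'⟩ := hydvd
    have hq'z : (q' : ZMod p) = 1 := by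
      have := congrArg (fun z : ℕ => (z : ZMod p)) hq'
      simp only [Nat.cast_mul, hyz, hs, h.card_zmod, mul_one] at this
      have he0 : (e L : ZMod p) ≠ 0 := fun h0 => by
        have := eq_of_zmod (p := p) hlt (by omega) (b := 0) (by rw [h0, Nat.cast_zero])
        omega
      exact mul_left_cancel₀ he0 (by rw [mul_one]; exact this.symm)
    have hdd : q' ∣ (p - 1) * s := (Dvd.intro_left _ hq'.symm).trans h.e_dvd_card
    have hcz : (k : ℤ) + 1 + M = e L := by exact_mod_cast hcnt
    rcases h.dichotomy hq'z hdd with h1 | h1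
    · exfalso
      rw [h1, mul_one] at hq'
      have h2 : (D.y : ℤ) = e L * s := by exact_mod_cast hq'.symm
      have h3 : ((k : ℤ) + 1) * s ≤ (e L : ℤ) * s :=
        mul_le_mul_of_nonneg_right (by linarith) (by positivity)
      have h4 : (0 : ℤ) ≤ M * ((p : ℤ) - 1) := mul_nonneg (by positivity) (by linarith)
      have h5 : (2 : ℤ) ≤ s := by exact_mod_cast (show 2 ≤ s by omega)
      linarith
    · have hyle : D.y ≤ e L := by
        by_contra hc
        push Not at hc
        have h2 : (e L + 1) * s ≤ D.y * q' := Nat.mul_le_mul hc h1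
        rw [← hq', add_mul, one_mul] at h2
        omega
      have hye : D.y = e L := eq_of_zmod (by omega) hlt hyz
      have hyz' : (D.y : ℤ) = e L := by exact_mod_cast hye
      have hMz : (M : ℤ) = k * n := by
        have h6 : (p : ℤ) * ((M : ℤ) - k * n) = 0 := by
          linear_combination -hrel + hcz + (k : ℤ) * hsz - hyz'
        rcases mul_eq_zero.1 h6 with h9 | h9
        · omega
        · linarith
      have hk1 : k * (n + 1) + 1 = e L := by
        have : (k : ℤ) * ((n : ℤ) + 1) + 1 = e L := by linear_combination hcz - hMz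
        exact_mod_cast this
      refine ⟨hdeg, ?_, k, hk, Or.inl ⟨ha, hye, by exact_mod_cast hMz, hk1⟩⟩
      rw [← Finset.card_pos, ← hM]
      have hk0 : 0 < k := by
        rcases Nat.eq_zero_or_pos k with rfl | h0
        · omega
        · exact h0
      have : (0 : ℤ) < M := by rw [hMz]; positivity
      exact_mod_cast this

/-- The complement of `P` in its centralizer is trivial. -/
theorem PerfectCtx.K_bot (h : PerfectCtx L n) : L.K = ⊥ := by
  classical
  haveI := L.finite_lam
  letI := Fintype.ofFinite L.Lam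
  have hneg : ∃ χ ∈ rowsOf L (-1), Cfsg.charDegree (χ : G → ℂ) = p - 1 := by
    by_cases ht : Nat.card (L.ColOver (O0 L)) = 1
    · obtain ⟨-, hdeg, ⟨χ, hχ⟩, -⟩ := h.oneCol_data ht
      exact ⟨χ, hχ, hdeg χ hχ⟩
    · haveI := L.finite_col
      have h0 : 0 < Nat.card (L.ColOver (O0 L)) := Nat.card_pos_iff.2 ⟨nonempty_cols L, inferInstance⟩
      have ht1 : 1 < Nat.card (L.ColOver (O0 L)) := by omega
      obtain ⟨D⟩ := exists_exceptional L ht1
      obtain ⟨hdeg, ⟨χ, hχ⟩, -⟩ := h.exceptional_data D ht1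
      exact ⟨χ, hχ, hdeg χ hχ⟩
  obtain ⟨χ, hχ, hd⟩ := hneg
  have hc := mem_rowsOf.1 hχ
  obtain ⟨u, hu⟩ := exists_mem_ne_one L
  have h1 : (χ : G → ℂ) 1 = ((p - 1 : ℕ) : ℂ) := by rw [← Blocks.charDegree_cast χ, hd]
  have hval := hc.value hu 1
  rw [OneMemClass.coe_one, mul_one] at hval
  refine K_eq_bot L h.core hc.inB u.2 ?_ ?_
  · rw [hval, h1, Int.cast_neg, Int.cast_one]
    intro h2
    have h3 : ((p - 1 : ℕ) : ℝ) = -1 := by
      have := congrArg Complex.re h2
      simp at this
      linarith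
    have : (0 : ℝ) ≤ ((p - 1 : ℕ) : ℝ) := Nat.cast_nonneg _
    linarith
  · rw [hc.sum_coef, h1]
    push_cast
    ring

end CfsgLib.BrauerOrderP
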