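import Cfsg.Agent.BrauerOrderP.Degrees
import Cfsg.Agent.BrauerOrderP.BlockSum
import Cfsg.Agent.PrimeDegreeTwoP.Core

/-!
# Exceptional characters of degree `e`

If the exceptional characters have sign `-1` and degree `e` then the sum of the `f conj f` contains
enough rows of degree `1 + n p` to force two exceptional characters and `n = 1`.
-/

set_option autoImplicit false
set_option linter.style.haveILetI false
set_option linter.unusedSectionVars false

namespace CfsgLib.BrauerOrderP

open Cfsg CfsgLib.Characters CfsgLib.DefectOne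
open scoped ComplexConjugate

universe u

variable {G : Type u} [Group G] {p : ℕ} [Fact p.Prime] [Fintype G] {L : Local p G} {n : ℕ}

theorem PerfectCtx.minus_sign (h : PerfectCtx L n) (D : Exceptional L)
    (ht : 1 < Nat.card (L.ColOver (O0 L))) (ha : D.a = -1) (hy : D.y = e L) :
    n = 1 ∧ 2 * e L + 1 = p := by
  classical
  haveI := L.finite_col
  haveI := Fintype.ofFinite (L.ColOver (O0 L))
  haveI := L.finite_lam
  letI := Fintype.ofFinite L.Lam
  haveI := Fintype.ofFinite (L.P : Subgroup G)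
  have hK := h.K_bot
  have he2 := h.e_ge
  set t := Fintype.card (L.ColOver (O0 L)) with htdef
  have htc : Nat.card (L.ColOver (O0 L)) = t := Nat.card_eq_fintype_card
  have hte : t * e L = p - 1 := by rw [← htc]; exact card_cols_mul L
  have hlt := e_lt L
  have hp3 := h.three_le
  obtain ⟨χ₁, k, hmem, hone, -, hdeg, -⟩ := h.pos_split
  -- the sum of the `f conj f`
  set Ψ : G → ℂ := ∑ q, fun g => (D.f q : G → ℂ) g * conj ((D.f q : G → ℂ) g) with hΨ
  have hΨc : Cfsg.IsCharacter G Ψ := isCharacter_sum _ _ fun q _ =>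
    isCharacter_mul (isCharacter_of_isIrr (D.f q).2) (isCharacter_conj (isCharacter_of_isIrr (D.f q).2))
  obtain ⟨m, hm⟩ := exists_nat_coeff hΨc
  have hΨ1 : Ψ 1 = ((t * (e L * e L) : ℕ) : ℂ) := by
    simp only [hΨ, Finset.sum_apply, ← Blocks.charDegree_cast, D.deg, hy, map_natCast,
      Finset.sum_const, Finset.card_univ, ← htdef, nsmul_eq_mul]
    push_cast; ring
  have hmone : (m χ₁ : ℂ) = (t : ℂ) := by
    have h1 : Cfsg.classInner Ψ (χ₁ : G → ℂ) = (m χ₁ : ℂ) := by rw [hm, classInner_irr_coeff]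
    rw [← h1, hΨ, classInner_sum_left, Finset.sum_congr rfl (g := fun _ => (1 : ℂ)) fun q _ => ?_,
      Finset.sum_const, Finset.card_univ, nsmul_one]
    rw [← classInner_isIrr_self (D.f q).2, Cfsg.classInner, Cfsg.classInner, hone]
    simp [mul_comm]
  have hmone' : m χ₁ = t := by exact_mod_cast hmone
  set B := ∑ χ ∈ (rowsOf L 1).erase χ₁, m χ with hB
  set A := ∑ χ ∈ rowsOf L (-1), m χ with hA
  -- the values on `P`
  have hval : ∀ (q : L.ColOver (O0 L)) (v : ↥(L.P : Subgroup G)), v ≠ 1 →
      (D.f q : G → ℂ) (v : G) = eta L q v := by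
    intro q v hv
    have := (D.unit q).value hv 1
    rw [OneMemClass.coe_one, mul_one, ha] at this
    simpa using this
  have hkey : ∀ v : ↥(L.P : Subgroup G), v ≠ 1 →
      (t : ℂ) + B - A + ∑ q, eta L q v * (m (D.f q) : ℂ) = (p : ℂ) - e L := by
    intro v hv
    have hnorm : ∑ q, eta L q v * conj (eta L q v) = (p : ℂ) - e L := by
      have h1 := D.sum_value ht hK hv (fun χ => conj ((χ : G → ℂ) (v : G)))
      rw [sum_irr_mul_conj_of_isConj (IsConj.refl _), centralizer_eq_P L hK v.2
        (fun h0 => hv (Subtype.ext h0)), L.card_P,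
        Finset.sum_congr rfl (g := fun _ => (1 : ℂ)) (s₂ := rowsOf L 1) fun χ hχ => by
          have := (mem_rowsOf.1 hχ).value hv 1
          rw [OneMemClass.coe_one, mul_one] at this
          rw [this, map_intCast, Int.cast_one],
        Finset.sum_congr rfl (g := fun _ => (-1 : ℂ)) (s₂ := rowsOf L (-1)) fun χ hχ => by
          have := (mem_rowsOf.1 hχ).value hv 1
          rw [OneMemClass.coe_one, mul_one] at this
          rw [this, map_intCast, Int.cast_neg, Int.cast_one],
        Finset.sum_congr rfl (g := fun q => eta L q v * conj (eta L q v))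
          (s₂ := (Finset.univ : Finset (L.ColOver (O0 L)))) fun q _ => by rw [hval q v hv],
        Finset.sum_const, Finset.sum_const, nsmul_eq_mul, nsmul_eq_mul, ha, Int.cast_neg,
        Int.cast_one] at h1
      have hc : ((rowsOf L 1).card : ℂ) + ((rowsOf L (-1)).card : ℂ) = e L := by
        exact_mod_cast D.count
      linear_combination -h1 - hc
    have h2 := D.sum_value ht hK hv (fun χ => (m χ : ℂ))
    have h3 : ∑ χ : IrrCharacter G, (χ : G → ℂ) (v : G) * (m χ : ℂ) = (p : ℂ) - e L := by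
      rw [← hnorm]
      have := congrFun hm (v : G)
      simp only [hΨ, Finset.sum_apply, Pi.smul_apply, smul_eq_mul] at this
      rw [← Finset.sum_congr rfl (f := fun q => (D.f q : G → ℂ) (v : G) *
        conj ((D.f q : G → ℂ) (v : G))) (g := fun q => eta L q v * conj (eta L q v))
        fun q _ => by rw [hval q v hv]]
      rw [this]
      exact Finset.sum_congr rfl fun χ _ => mul_comm _ _
    rw [h3, ← Finset.add_sum_erase _ _ hmem, hmone, ← Nat.cast_sum, ← hB, ← Nat.cast_sum, ← hA, ha,
      Int.cast_neg, Int.cast_one] at h2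
    linear_combination -h2
  -- the sums over `P`
  have hcard : ((Finset.univ : Finset ↥(L.P : Subgroup G)).erase 1).card = p - 1 := by
    rw [Finset.card_erase_of_mem (Finset.mem_univ _), Finset.card_univ, ← Nat.card_eq_fintype_card,
      L.card_P]
  have hfix : ∀ q : L.ColOver (O0 L), ∃ r : ℕ,
      ∑ v ∈ (Finset.univ : Finset ↥(L.P : Subgroup G)).erase 1, eta L q v = (p : ℂ) * r - e L := by
    intro q
    obtain ⟨r, hr⟩ := PrimeDegreeTwoP.exists_sum_subgroup (isCharacter_of_isIrr (D.f q).2)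
      (L.P : Subgroup G)
    refine ⟨r, ?_⟩
    rw [← Finset.add_sum_erase _ _ (Finset.mem_univ (1 : ↥(L.P : Subgroup G))), L.card_P,
      Finset.sum_congr rfl (g := fun v => eta L q v) fun v hv => hval q v (Finset.mem_erase.1 hv).1,
      OneMemClass.coe_one, ← Blocks.charDegree_cast (D.f q), D.deg, hy] at hr
    linear_combination hr
  choose r hr using hfix
  have hr0 : ∀ q, r q = 0 := by
    have h1 : ∑ q, ((p : ℂ) * r q - e L) = -((p - 1 : ℕ) : ℂ) := by
      rw [Finset.sum_congr rfl fun q _ => (hr q).symm, Finset.sum_comm,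
        Finset.sum_congr rfl (g := fun _ => (-1 : ℂ)) fun v hv =>
          sum_eta L (Finset.mem_erase.1 hv).1, Finset.sum_const, hcard, nsmul_eq_mul, mul_neg_one]
    rw [Finset.sum_sub_distrib, ← Finset.mul_sum, Finset.sum_const, Finset.card_univ, ← htdef,
      nsmul_eq_mul, ← Nat.cast_mul t (e L), hte, sub_eq_neg_self, ← Nat.cast_sum, ← Nat.cast_mul,
      Nat.cast_eq_zero, Nat.mul_eq_zero] at h1
    rcases h1 with h1 | h1
    · exact absurd h1 (Fact.out : p.Prime).ne_zero
    · exact fun q => Finset.sum_eq_zero_iff.1 h1 q (Finset.mem_univ _)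
  set C := ∑ q, m (D.f q) with hC
  have htotal : ((p - 1 : ℕ) : ℂ) * ((t : ℂ) + B - A) - (e L : ℂ) * C =
      ((p - 1 : ℕ) : ℂ) * ((p : ℂ) - e L) := by
    have h1 := Finset.sum_congr (rfl : ((Finset.univ : Finset ↥(L.P : Subgroup G)).erase 1) = _)
      fun v hv => hkey v (Finset.mem_erase.1 hv).1
    rw [Finset.sum_add_distrib, Finset.sum_const, Finset.sum_const, hcard, Finset.sum_comm,
      nsmul_eq_mul, nsmul_eq_mul] at h1
    rw [← h1]
    have h2 : ∑ q, ∑ v ∈ (Finset.univ : Finset ↥(L.P : Subgroup G)).erase 1,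
        eta L q v * (m (D.f q) : ℂ) = -(e L : ℂ) * C := by
      rw [hC, Nat.cast_sum, Finset.mul_sum]
      refine Finset.sum_congr rfl fun q _ => ?_
      rw [← Finset.sum_mul, hr q, hr0 q]
      simp
    rw [h2]; ring
  have hlow : p - e L ≤ t + B := by
    have h1 : (p - 1) * (t + B) = (p - 1) * A + e L * C + (p - 1) * (p - e L) := by
      have : (((p - 1) * (t + B) : ℕ) : ℂ) =
          (((p - 1) * A + e L * C + (p - 1) * (p - e L) : ℕ) : ℂ) := by
        push_cast [Nat.cast_sub hlt.le]
        linear_combination htotal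
      exact_mod_cast this
    exact Nat.le_of_mul_le_mul_left (h1 ▸ Nat.le_add_left _ _) (by omega)
  -- the degree
  have hup : t + B * Nat.card (Sylow p G) ≤ t * (e L * e L) := by
    have h1 : t * (e L * e L) = ∑ χ, m χ * Cfsg.charDegree (χ : G → ℂ) := by
      have := congrFun hm 1
      rw [hΨ1] at this
      simp only [Finset.sum_apply, Pi.smul_apply, smul_eq_mul, ← Blocks.charDegree_cast] at this
      exact_mod_cast this
    rw [h1]
    refine le_trans ?_ (Finset.sum_le_sum_of_subset (Finset.subset_univ (rowsOf L 1)))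
    rw [← Finset.add_sum_erase _ _ hmem, hmone', hB, Finset.sum_mul,
      Finset.sum_congr rfl (g := fun χ => m χ * Nat.card (Sylow p G))
        (f := fun χ : IrrCharacter G => m χ * Cfsg.charDegree (χ : G → ℂ)) fun χ hχ => by
          rw [hdeg χ hχ]]
    refine Nat.add_le_add_right ?_ _
    exact Nat.le_mul_of_pos_right _ (Nat.pos_of_ne_zero (Blocks.charDegree_ne_zero _))
  -- arithmetic
  rw [h.card] at hup
  have hn := h.n_pos
  have ht2 : 2 ≤ t := by rw [← htc]; exact ht
  clear hΨ1 hkey hval htotal hr hr0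
  generalize e L = ee at *
  obtain ⟨E, hE⟩ : ∃ E, ee = E + 2 := ⟨ee - 2, by omega⟩
  obtain ⟨T, hT⟩ : ∃ T, t = T + 2 := ⟨t - 2, by omega⟩
  obtain ⟨N, hN⟩ : ∃ N, n = N + 1 := ⟨n - 1, by omega⟩
  have hp : p = t * ee + 1 := by omega
  have hB' : (T + 1) * (E + 1) ≤ B := by
    have h2 : t * ee + 1 - ee ≤ t + B := hp ▸ hlow
    rw [hE, hT] at h2
    have h3 : (T + 2) * (E + 2) + 1 = (T + 2) + (T + 1) * (E + 1) + (E + 2) := by ring
    omega
  have h2 : (T + 1) * (E + 1) * (1 + n * p) ≤ B * (1 + n * p) := Nat.mul_le_mul_right _ hB'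
  rw [hp, hE, hT, hN] at hup h2
  have h4 : (T + 1) * (1 + (N + 1) * ((T + 2) * (E + 2) + 1)) ≤ (T + 2) * (E + 3) := by
    refine Nat.le_of_mul_le_mul_left ?_ (Nat.succ_pos E)
    have h5 : (T + 2) * ((E + 2) * (E + 2)) = (E + 1) * ((T + 2) * (E + 3)) + (T + 2) := by ring
    have h6 : (E + 1) * ((T + 1) * (1 + (N + 1) * ((T + 2) * (E + 2) + 1))) =
        (T + 1) * (E + 1) * (1 + (N + 1) * ((T + 2) * (E + 2) + 1)) := by ring
    show (E + 1) * _ ≤ (E + 1) * _
    omega
  have h7 : (T + 1) * (1 + (N + 1) * ((T + 2) * (E + 2) + 1)) = (T + 2) * (E + 3) +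
      (T * (T + 2) * (E + 2) + T + (T + 1) * N * ((T + 2) * (E + 2) + 1)) := by ring
  have h8 : T = 0 := by omega
  subst h8
  have h9 : N = 0 := by
    rcases Nat.eq_zero_or_pos N with h0 | h0
    · exact h0
    · have : 1 ≤ (0 + 1) * N * ((0 + 2) * (E + 2) + 1) :=
        Nat.one_le_iff_ne_zero.2 (by positivity)
      omega
  refine ⟨by omega, ?_⟩
  rw [hp, hT]

end CfsgLib.BrauerOrderP
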