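import Cfsg.Agent.BrauerOrderP.Involutions
import Cfsg.Agent.BrauerOrderP.BlockSum

/-!
# Exceptional characters of sign `1`

The involutions decide: `e` odd is impossible, and for `e` even either `e = 2`, or `n = 1` and
`e = (p - 1) / 2`.
-/

set_option autoImplicit false
set_option linter.style.haveILetI false
set_option linter.unusedSectionVars false

namespace CfsgLib.BrauerOrderP

open Cfsg CfsgLib.Characters CfsgLib.DefectOne
open scoped ComplexConjugate

universe u

variable {G : Type u} [Group G] {p : ℕ} [Fact p.Prime] [Fintype G] {L : Local p G} {n : ℕ}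

/-- The degree identity outside the block. -/
theorem rest_squares {P E T Y S N K J : ℤ} (hS : S = T * Y) (hS' : S = 1 + N * P)
    (hte : T * E = P - 1) (he : E = 1 + J * (K * T + 1)) (hjt : J * T = N + 1) :
    P * E * S - (1 + K * S * S + (P - 1) * (1 + K * S + Y) + T * Y * Y) = N * P * P := by
  have h1 : P = T + (N + 1) * (K * T + 1) + 1 := by
    linear_combination -hte + T * he + (K * T + 1) * hjt
  have h2 : (P - 1) ^ 2 - S * (K * T + 1) - K * T * (P - 1) = P * T := by
    rw [hS']
    linear_combination P * h1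
  subst hS
  linear_combination Y * h2 + P * Y * hte + P * hS'

/-- The involution decides the case of sign `1`. -/
theorem PerfectCtx.plus_sign (h : PerfectCtx L n) (D : Exceptional L)
    (ht : 1 < Nat.card (L.ColOver (O0 L))) (ha : D.a = 1) :
    (n = 1 ∧ 2 * e L + 1 = p) ∨ (e L = 2 ∧ 5 ≤ p) := by
  classical
  haveI := L.finite_col
  haveI := Fintype.ofFinite (L.ColOver (O0 L))
  haveI := L.finite_lam
  letI := Fintype.ofFinite L.Lam
  haveI := Fintype.ofFinite (L.P : Subgroup G)
  have hK := h.K_bot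
  obtain ⟨hnd, -, k, hk, hcase⟩ := h.exceptional_data D ht
  rcases hcase with ⟨ha', -⟩ | ⟨-, j, hyj, hty, hjt, hM, hej⟩
  · rw [ha] at ha'; exact absurd ha' (by norm_num)
  set t := Nat.card (L.ColOver (O0 L)) with htdef
  have hte : t * e L = p - 1 := card_cols_mul L
  have he2 := h.e_ge
  have hlt := e_lt L
  have hn := h.n_pos
  have hp3 := h.three_le
  have hodd : p % 2 = 1 := ((Fact.out : p.Prime).eq_two_or_odd).resolve_left (by omega)
  have hp2 : p ≠ 2 := by omega
  have hs := h.card
  set s := Nat.card (Sylow p G) with hsdef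
  set y := D.y with hydef
  obtain ⟨-, hG⟩ := card_eq_of_K_bot L hK
  rw [← hsdef] at hG
  obtain ⟨χ₁, k', hmem, hone, hk', hdeg, hpos⟩ := h.pos_split
  obtain rfl : k' = k := by omega
  have hposcard : ((rowsOf L 1).erase χ₁).card = k' := by
    rw [Finset.card_erase_of_mem hmem, hk']; rfl
  obtain ⟨q⟩ := nonempty_cols L
  set ψ := D.f q with hψdef
  have hψ1 : (ψ : G → ℂ) 1 = (y : ℂ) := by rw [← Blocks.charDegree_cast ψ, hψdef, D.deg]
  obtain ⟨u, hu⟩ := exists_mem_ne_one L
  have hu1 : (u : G) ≠ 1 := fun h0 => hu (Subtype.ext h0)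
  have hy0 : 0 < y := by
    rw [hydef, ← D.deg q]
    exact Nat.pos_of_ne_zero (Blocks.charDegree_ne_zero _)
  have hGt : Nat.card G = p * ((p - 1) * y) := by
    rw [hG, ← hty, ← hte]; ring
  have hreg : ∀ {i : G}, i * i = 1 → ¬ p ∣ orderOf i := by
    intro i hi hd
    have h2 := Nat.le_of_dvd two_pos (hd.trans (orderOf_dvd_of_pow_eq_one (by rw [pow_two, hi])))
    omega
  rcases Nat.mod_two_eq_zero_or_one (e L) with heven | heodd
  swap
  · -- `e` odd: no involution inverts `u`
    exfalso
    have hteven : t % 2 = 0 := by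
      have h1 : (t * e L) % 2 = 0 := by rw [hte]; omega
      rwa [Nat.mul_mod, heodd, mul_one, Nat.mod_mod] at h1
    have hw : (k' * t + 1) % 2 = 1 := by
      rw [Nat.add_mod, Nat.mul_mod, hteven, mul_zero, Nat.zero_mod]
    have hjeven : j % 2 = 0 := by
      have h1 : (1 + j * (k' * t + 1)) % 2 = 1 := by rw [← hej]; exact heodd
      rw [Nat.add_mod, Nat.mul_mod, hw, mul_one, Nat.mod_mod] at h1
      omega
    have hyodd : y % 2 = 1 := by
      have h1 : (p * j) % 2 = 0 := by rw [Nat.mul_mod, hjeven, mul_zero, Nat.zero_mod]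
      omega
    haveI : Fact (Nat.Prime 2) := ⟨Nat.prime_two⟩
    obtain ⟨i, hi⟩ := exists_prime_orderOf_dvd_card' (G := G) 2 (by
      rw [hGt, ← hte]
      exact Dvd.dvd.mul_left (Dvd.dvd.mul_right (Dvd.dvd.mul_right (Nat.dvd_of_mod_eq_zero hteven) _) _) _)
    have hii : i * i = 1 := by
      have := pow_orderOf_eq_one i
      rwa [hi, pow_two] at this
    have hθ : ∀ χ ∈ rowsOf L (-1), (χ : G → ℂ) i = 0 := by
      intro χ hχ
      refine eq_zero_of_full_part (r := 2) Nat.prime_two χ ?_ (by rw [hi])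
      rw [hnd χ hχ, hGt, show p * ((p - 1) * y) = (p - 1) * (p * y) by ring,
        Nat.mul_div_cancel_left _ (by omega : 0 < p - 1), Nat.dvd_iff_mod_eq_zero, Nat.mul_mod,
        hodd, hyodd]
      norm_num
    have hχ : ∀ χ ∈ (rowsOf L 1).erase χ₁, (χ : G → ℂ) i = 0 := by
      intro χ hχ
      refine eq_zero_of_full_part (r := 2) Nat.prime_two χ ?_ (by rw [hi])
      rw [hdeg χ hχ, hG, Nat.mul_div_cancel _ (Nat.card_pos : 0 < Nat.card (Sylow p G)),
        Nat.dvd_iff_mod_eq_zero, Nat.mul_mod, hodd, heodd]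
      norm_num
    have hψi : (ψ : G → ℂ) i = -1 := by
      have h1 := D.rel q i (hreg hii)
      rw [← Finset.add_sum_erase _ _ hmem, Finset.sum_eq_zero hχ, Finset.sum_eq_zero hθ, hone, ha,
        Int.cast_one, one_mul] at h1
      rw [hψdef]
      linear_combination h1
    have h1 := D.pairs hK q hu i i (hreg hii) (hreg hii)
    rw [Finset.sum_eq_zero fun a _ => Finset.sum_eq_zero fun b _ => if_neg ?_,
      ← Finset.add_sum_erase _ _ hmem, Finset.sum_eq_zero (s := (rowsOf L 1).erase χ₁)
        (fun χ hx => by rw [hχ χ hx, zero_mul, zero_div]),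
      Finset.sum_eq_zero (s := rowsOf L (-1)) (fun χ hx => by rw [hθ χ hx, zero_mul, zero_div]),
      hone, ← hψdef, hψi, ha, ← hydef] at h1
    · simp only [Int.cast_one, one_mul, mul_one, div_one, add_zero, sub_zero, neg_mul_neg] at h1
      rcases mul_eq_zero.1 h1.symm with h2 | h2
      · exact natCard_ne_zero h2
      · have h3 := congrArg Complex.re h2
        rw [show (1 : ℂ) + 1 / (y : ℂ) = (((1 : ℝ) + 1 / (y : ℝ) : ℝ) : ℂ) by push_cast; rfl,
          Complex.ofReal_re, Complex.zero_re] at h3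
        have : (0 : ℝ) ≤ 1 / (y : ℝ) := by positivity
        linarith
    · intro hab
      refine no_inverting_of_odd hK hp2 heodd u.2 hu1 (x := a * i * a⁻¹) ?_ ?_
      · rw [show a * i * a⁻¹ * (a * i * a⁻¹) = a * (i * i) * a⁻¹ by group, hii, mul_one,
          mul_inv_cancel]
      · have hbb : b * i * b⁻¹ * (b * i * b⁻¹) = 1 := by
          rw [show b * i * b⁻¹ * (b * i * b⁻¹) = b * (i * i) * b⁻¹ by group, hii, mul_one,
            mul_inv_cancel]
        have haa : a * i * a⁻¹ * (a * i * a⁻¹) = 1 := by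
          rw [show a * i * a⁻¹ * (a * i * a⁻¹) = a * (i * i) * a⁻¹ by group, hii, mul_one,
            mul_inv_cancel]
        generalize a * i * a⁻¹ = x at hab haa ⊢
        generalize b * i * b⁻¹ = z at hab hbb
        rw [← hab, mul_inv_rev, inv_eq_of_mul_eq_one_right hbb, inv_eq_of_mul_eq_one_right haa,
          ← mul_assoc x, haa, one_mul]
  -- `e` even
  obtain ⟨i, hii, hi1, hinv⟩ := exists_inverting hK hp2 heven
  set c := Nat.card (Subgroup.centralizer ({i} : Set G)) with hc
  have hc0 : 0 < c := Nat.card_pos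
  -- the bounds
  have hsumconst : ∀ (χ : IrrCharacter G) (b : ℤ), IsConst L χ b →
      ∑ v : (L.P : Subgroup G), (χ : G → ℂ) v = (χ : G → ℂ) 1 + ((p - 1 : ℕ) : ℂ) * b := by
    intro χ b hb
    rw [← Finset.add_sum_erase _ _ (Finset.mem_univ (1 : (L.P : Subgroup G))),
      Finset.sum_congr rfl (g := fun _ => (b : ℂ)) fun v hv => by
        have := hb.value (Finset.mem_erase.1 hv).1 1
        rwa [OneMemClass.coe_one, mul_one] at this,
      Finset.sum_const, Finset.card_erase_of_mem (Finset.mem_univ _), Finset.card_univ,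
      ← Nat.card_eq_fintype_card, L.card_P, nsmul_eq_mul]
    rfl
  have hpR : (0 : ℝ) < p := by exact_mod_cast (Fact.out : p.Prime).pos
  have hθ : ∀ χ ∈ rowsOf L (-1), (χ : G → ℂ) i = 0 := by
    intro χ hχ
    have h1 := norm_involution_le hp2 hinv (isCharacter_of_isIrr χ.2)
    rw [hsumconst χ _ (mem_rowsOf.1 hχ), ← Blocks.charDegree_cast χ, hnd χ hχ, Int.cast_neg,
      Int.cast_one, mul_neg_one, add_neg_cancel, Complex.zero_re] at h1
    exact norm_le_zero_iff.1 (nonpos_of_mul_nonpos_right h1 hpR)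
  have hXb : ∀ χ ∈ (rowsOf L 1).erase χ₁, ‖(χ : G → ℂ) i‖ ≤ (n : ℝ) + 1 := by
    intro χ hχ
    have h1 := norm_involution_le hp2 hinv (isCharacter_of_isIrr χ.2)
    rw [hsumconst χ _ (mem_rowsOf.1 (Finset.mem_of_mem_erase hχ)), ← Blocks.charDegree_cast χ,
      hdeg χ hχ, ← hsdef, Int.cast_one, mul_one, ← Nat.cast_add, Complex.natCast_re] at h1
    have h2 : s + (p - 1) = p * (n + 1) := by
      rw [hs, mul_add, mul_one, mul_comm p n]; omega
    rw [h2] at h1
    push_cast at h1
    exact le_of_mul_le_mul_left h1 hpR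
  have hψb : ‖(ψ : G → ℂ) i‖ ≤ (j : ℝ) := by
    have hq : ∀ q' : L.ColOver (O0 L),
        (p : ℝ) * ‖(ψ : G → ℂ) i‖ ≤ (∑ v : (L.P : Subgroup G), (D.f q' : G → ℂ) v).re := by
      intro q'
      rw [hψdef, D.regular q q' i (hreg hii)]
      exact norm_involution_le hp2 hinv (isCharacter_of_isIrr (D.f q').2)
    have h2 := Finset.sum_le_sum (s := Finset.univ) fun q' _ => hq q'
    rw [← Complex.re_sum, Finset.sum_comm, ← Finset.add_sum_erase _ _
      (Finset.mem_univ (1 : (L.P : Subgroup G))),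
      Finset.sum_congr rfl (g := fun _ => (1 : ℂ)) (s₂ := Finset.univ.erase (1 : (L.P : Subgroup G)))
        fun v hv => by
          rw [Finset.sum_congr rfl (g := fun q' => -(eta L q' v)) fun q' _ => by
            have := (D.unit q').value (Finset.mem_erase.1 hv).1 1
            rw [OneMemClass.coe_one, mul_one, ha, Int.cast_one, neg_one_mul] at this
            exact this,
            Finset.sum_neg_distrib, sum_eta L (Finset.mem_erase.1 hv).1, neg_neg],
      Finset.sum_congr rfl (g := fun _ => (y : ℂ)) (s₂ := (Finset.univ : Finset (L.ColOver (O0 L))))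
        fun q' _ => by rw [OneMemClass.coe_one, ← Blocks.charDegree_cast, D.deg],
      Finset.sum_const, Finset.sum_const, Finset.sum_const,
      Finset.card_erase_of_mem (Finset.mem_univ _), Finset.card_univ, Finset.card_univ,
      ← Nat.card_eq_fintype_card, ← Nat.card_eq_fintype_card, L.card_P, ← htdef, nsmul_eq_mul,
      nsmul_eq_mul, nsmul_eq_mul, mul_one, ← hte, ← Nat.cast_mul, ← Nat.cast_add,
      Complex.natCast_re, ← mul_add, hyj] at h2
    push_cast at h2
    exact le_of_mul_le_mul_left (le_of_mul_le_mul_left h2 (by exact_mod_cast (by omega : 0 < t))) hpR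
  -- real values
  have hre : ∀ χ : IrrCharacter G, ((((χ : G → ℂ) i).re : ℝ) : ℂ) = (χ : G → ℂ) i :=
    fun χ => im_eq_zero_of_sq (isCharacter_of_isIrr χ.2) hii
  have hsq : ∀ (χ : IrrCharacter G) (B : ℝ), ‖(χ : G → ℂ) i‖ ≤ B →
      ((χ : G → ℂ) i).re ^ 2 ≤ B ^ 2 := by
    intro χ B hB
    rw [← sq_abs]
    exact pow_le_pow_left₀ (abs_nonneg _) ((Complex.abs_re_le_norm _).trans hB) 2
  set X : ℝ := ∑ χ ∈ (rowsOf L 1).erase χ₁, ((χ : G → ℂ) i).re ^ 2 with hX
  set w : ℝ := ((ψ : G → ℂ) i).re with hw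
  -- the count of pairs
  have hc2 : (c : ℝ) ^ 2 = e L * s + e L * X + e L * t * w ^ 2 := by
    have h1 := D.pairs hK q hu i i (hreg hii) (hreg hii)
    rw [pairs_involution hK hp2 hii hinv u.2 hu1, ← hc, ← Finset.add_sum_erase _ _ hmem,
      Finset.sum_congr rfl (g := fun χ => ((((χ : G → ℂ) i).re ^ 2 : ℝ) : ℂ) / (s : ℂ))
        (s₂ := (rowsOf L 1).erase χ₁) (fun χ hx => by
          rw [← Blocks.charDegree_cast χ, hdeg χ hx, ← hsdef, Complex.ofReal_pow, hre, pow_two]),
      ← Finset.sum_div, ← Complex.ofReal_sum, ← hX,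
      Finset.sum_eq_zero (s := rowsOf L (-1)) (fun χ hx => by rw [hθ χ hx, zero_mul, zero_div]),
      hone, ← hψdef, ← hre ψ, ← hw, ← hydef, ha, hG, ← hty] at h1
    simp only [Int.cast_one, one_mul, mul_one, div_one, sub_zero] at h1
    have hyC : (y : ℂ) ≠ 0 := Nat.cast_ne_zero.2 (by omega)
    have htC : (t : ℂ) ≠ 0 := Nat.cast_ne_zero.2 (by omega)
    have hpC : (p : ℂ) ≠ 0 := Nat.cast_ne_zero.2 (Fact.out : p.Prime).ne_zero
    have h2 : (p : ℂ) * (c : ℂ) ^ 2 = (p : ℂ) * ((((e L : ℝ) * s + e L * X + e L * t * w ^ 2 : ℝ)) : ℂ) := by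
      rw [h1, ← hty]
      push_cast
      field_simp
    exact Complex.ofReal_injective (by
      push_cast at h2 ⊢
      exact mul_left_cancel₀ hpC h2)
  have hrel : (1 : ℂ) + ∑ χ ∈ (rowsOf L 1).erase χ₁, (χ : G → ℂ) i + (ψ : G → ℂ) i = 0 := by
    have h1 := D.rel q i (hreg hii)
    rw [← Finset.add_sum_erase _ _ hmem, Finset.sum_eq_zero hθ, hone, ha, Int.cast_one, one_mul,
      sub_zero] at h1
    exact h1
  have hjpos : 1 ≤ j := by
    rcases Nat.eq_zero_or_pos j with rfl | h0
    · omega
    · exact h0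
  have ht2 : 2 ≤ t := ht
  rcases Nat.eq_zero_or_pos k' with rfl | hkpos
  · -- no further rows
    refine Or.inr ?_
    rw [Finset.card_eq_zero] at hposcard
    have hX0 : X = 0 := by rw [hX, hposcard, Finset.sum_empty]
    have hw1 : w = -1 := by
      rw [hposcard, Finset.sum_empty, add_zero] at hrel
      rw [hw, show (ψ : G → ℂ) i = -1 by linear_combination hrel]
      simp
    rw [hX0, hw1] at hc2
    rw [zero_mul, zero_add, mul_one] at hej
    have hy1 : y + 1 = (p - 1) * j := by
      have : p * j = (p - 1) * j + j := by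
        rw [← Nat.succ_mul, Nat.succ_eq_add_one, Nat.sub_add_cancel (by omega : 1 ≤ p)]
      omega
    have hcsq : c ^ 2 = (p - 1) ^ 2 * j := by
      have h1 : c ^ 2 = e L * s + e L * t := by
        have : ((c ^ 2 : ℕ) : ℝ) = ((e L * s + e L * t : ℕ) : ℝ) := by
          push_cast; rw [hc2]; ring
        exact_mod_cast this
      rw [h1, ← hty, show e L * (t * y) + e L * t = (t * e L) * (y + 1) by ring, hte, hy1]
      ring
    obtain ⟨r, hr⟩ := (Nat.pow_dvd_pow_iff two_ne_zero).1 (Dvd.intro j hcsq.symm)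
    have hr2 : r ^ 2 = j := by
      rw [hr, mul_pow] at hcsq
      exact Nat.eq_of_mul_eq_mul_left (pow_pos (by omega) 2) hcsq
    have hry : r ∣ y := by
      have h1 : c ∣ Nat.card G := Subgroup.card_subgroup_dvd_card _
      rw [hr, hGt, show p * ((p - 1) * y) = (p - 1) * (p * y) by ring] at h1
      have h2 := Nat.dvd_of_mul_dvd_mul_left (by omega : 0 < p - 1) h1
      have hr0 : 0 < r := Nat.pos_of_ne_zero fun h0 => by rw [h0] at hr2; norm_num at hr2; omega
      have hrj : r ≤ j := by rw [← hr2, pow_two]; exact Nat.le_mul_of_pos_left _ hr0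
      refine (Nat.Coprime.dvd_of_dvd_mul_left ?_ h2)
      refine Nat.coprime_comm.1 ((Fact.out : p.Prime).coprime_iff_not_dvd.2 fun hd => ?_)
      have := Nat.le_of_dvd hr0 hd
      omega
    have hr1 : r = 1 := by
      have h1 : r ∣ (p - 1) * j := Dvd.dvd.mul_left (hr2 ▸ dvd_pow_self r two_ne_zero) _
      rw [← hy1] at h1
      exact Nat.dvd_one.1 ((Nat.dvd_add_right hry).1 h1)
    rw [hr1, one_pow] at hr2
    refine ⟨by omega, ?_⟩
    have : 2 * 2 ≤ t * e L := Nat.mul_le_mul ht2 he2
    omega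
  · -- further rows: `t = 2` and `n = 1`
    refine Or.inl ?_
    have hXle : X ≤ k' * ((n : ℝ) + 1) ^ 2 := by
      rw [hX, ← hposcard, ← nsmul_eq_mul]
      exact Finset.sum_le_card_nsmul _ _ _ fun χ hχ => hsq χ _ (hXb χ hχ)
    have hwle : w ^ 2 ≤ (j : ℝ) ^ 2 := hsq ψ _ hψb
    have hjw : (j * (k' * t + 1)) % 2 = 1 := by omega
    have hjodd : j % 2 = 1 := by
      rcases Nat.mod_two_eq_zero_or_one j with h0 | h0
      · rw [Nat.mul_mod, h0, zero_mul, Nat.zero_mod] at hjw; omega
      · exact h0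
    have hW3 : 3 ≤ k' * t + 1 := by
      have : 1 * 2 ≤ k' * t := Nat.mul_le_mul hkpos ht2
      omega
    set W := 1 + 2 * k' * t + 2 * t with hW
    -- the sum of the degrees
    have hsum : (∑ χ : IrrCharacter G, Cfsg.charDegree (χ : G → ℂ)) ≤ 1 + y * W := by
      have hsplit : ∀ F : IrrCharacter G → ℕ, ∑ χ, F χ =
          (∑ χ ∈ rowsOf L 1, F χ + ∑ χ ∈ rowsOf L (-1), F χ + ∑ q', F (D.f q')) +
            ∑ χ ∈ Finset.univ.filter (fun χ : IrrCharacter G => ¬ InB L χ), F χ := by
        intro F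
        rw [← Finset.sum_filter_add_sum_filter_not Finset.univ
          (fun χ : IrrCharacter G => InB L χ) F, D.sum_block ht F]
      have hrest : p * ∑ χ ∈ Finset.univ.filter (fun χ : IrrCharacter G => ¬ InB L χ),
          Cfsg.charDegree (χ : G → ℂ) ≤ ∑ χ ∈ Finset.univ.filter (fun χ : IrrCharacter G => ¬ InB L χ),
            Cfsg.charDegree (χ : G → ℂ) * Cfsg.charDegree (χ : G → ℂ) := by
        rw [Finset.mul_sum]
        refine Finset.sum_le_sum fun χ hχ => Nat.mul_le_mul_right _ ?_
        exact Nat.le_of_dvd (Nat.pos_of_ne_zero (Blocks.charDegree_ne_zero _))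
          (dvd_degree_out hK (Finset.mem_filter.1 hχ).2)
      have hsqs : ∑ χ : IrrCharacter G, Cfsg.charDegree (χ : G → ℂ) * Cfsg.charDegree (χ : G → ℂ) =
          Nat.card G := by
        have h1 := sum_degree_mul (1 : G)
        rw [if_pos rfl] at h1
        simp only [← Blocks.charDegree_cast] at h1
        exact_mod_cast h1
      rw [hsplit, ← Finset.add_sum_erase _ _ hmem,
        Finset.sum_congr rfl (g := fun _ => s * s) (s₂ := (rowsOf L 1).erase χ₁)
          (fun χ hx => by rw [hdeg χ hx]),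
        Finset.sum_congr rfl (g := fun _ => (p - 1) * (p - 1)) (s₂ := rowsOf L (-1))
          (fun χ hx => by rw [hnd χ hx]),
        Finset.sum_congr rfl (g := fun _ => y * y)
          (s₂ := (Finset.univ : Finset (L.ColOver (O0 L)))) (fun q' _ => by rw [D.deg]),
        Finset.sum_const, Finset.sum_const, Finset.sum_const, hposcard, Finset.card_univ,
        ← Nat.card_eq_fintype_card, ← htdef, smul_eq_mul, smul_eq_mul, smul_eq_mul,
        show Cfsg.charDegree (χ₁ : G → ℂ) = 1 from Nat.cast_injective (R := ℂ) (by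
          rw [Blocks.charDegree_cast, hone, Nat.cast_one])] at hsqs
      rw [hsplit, ← Finset.add_sum_erase _ _ hmem,
        Finset.sum_congr rfl (g := fun _ => s) (s₂ := (rowsOf L 1).erase χ₁)
          (fun χ hx => by rw [hdeg χ hx]),
        Finset.sum_congr rfl (g := fun _ => p - 1) (s₂ := rowsOf L (-1))
          (fun χ hx => by rw [hnd χ hx]),
        Finset.sum_congr rfl (g := fun _ => y)
          (s₂ := (Finset.univ : Finset (L.ColOver (O0 L)))) (fun q' _ => by rw [D.deg]),
        Finset.sum_const, Finset.sum_const, Finset.sum_const, hposcard, Finset.card_univ,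
        ← Nat.card_eq_fintype_card, ← htdef, smul_eq_mul, smul_eq_mul, smul_eq_mul,
        show Cfsg.charDegree (χ₁ : G → ℂ) = 1 from Nat.cast_injective (R := ℂ) (by
          rw [Blocks.charDegree_cast, hone, Nat.cast_one])]
      -- the relation at the identity
      have hMp : (rowsOf L (-1)).card * (p - 1) = 1 + k' * s + y := by
        have h1 := D.rel q 1 (by rw [orderOf_one, Nat.dvd_one]; exact (Fact.out : p.Prime).ne_one)
        rw [hpos, ← hψdef, hψ1, ha, Finset.sum_congr rfl (g := fun _ => ((p - 1 : ℕ) : ℂ))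
          (s₂ := rowsOf L (-1)) (fun χ hx => by rw [← Blocks.charDegree_cast χ, hnd χ hx]),
          Finset.sum_const, nsmul_eq_mul, Int.cast_one, one_mul] at h1
        have h2 : (((rowsOf L (-1)).card * (p - 1) : ℕ) : ℂ) = ((1 + k' * s + y : ℕ) : ℂ) := by
          push_cast
          linear_combination -h1
        exact_mod_cast h2
      rw [← mul_assoc (rowsOf L (-1)).card, hMp] at hsqs
      rw [hMp]
      generalize (∑ χ ∈ Finset.univ.filter (fun χ : IrrCharacter G => ¬ InB L χ),
        Cfsg.charDegree (χ : G → ℂ)) = R1 at hrest ⊢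
      generalize (∑ χ ∈ Finset.univ.filter (fun χ : IrrCharacter G => ¬ InB L χ),
        Cfsg.charDegree (χ : G → ℂ) * Cfsg.charDegree (χ : G → ℂ)) = R2 at hrest hsqs
      have hR2 : R2 = p * (n * p) := by
        have hz : ((1 + k' * (s * s) + (1 + k' * s + y) * (p - 1) + t * (y * y) + R2 : ℕ) : ℤ) =
            ((p * e L * s : ℕ) : ℤ) := by rw [← hG, ← hsqs]
        push_cast [Nat.cast_sub (Fact.out : p.Prime).one_le] at hz
        have h3 := rest_squares (P := (p : ℤ)) (E := (e L : ℤ)) (T := (t : ℤ)) (Y := (y : ℤ))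
          (S := (s : ℤ)) (N := (n : ℤ)) (K := (k' : ℤ)) (J := (j : ℤ))
          (by exact_mod_cast hty.symm) (by exact_mod_cast hs)
          (by
            have : ((t * e L : ℕ) : ℤ) = ((p - 1 : ℕ) : ℤ) := by rw [hte]
            push_cast [Nat.cast_sub (Fact.out : p.Prime).one_le] at this
            exact this)
          (by exact_mod_cast hej) (by exact_mod_cast hjt)
        have : (R2 : ℤ) = (p : ℤ) * ((n : ℤ) * p) := by linear_combination hz + h3
        exact_mod_cast this
      have hR1 : R1 ≤ n * p := Nat.le_of_mul_le_mul_left (hR2 ▸ hrest) (Fact.out : p.Prime).pos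
      have hexp : y * W = y + 2 * (k' * s) + 2 * s := by rw [hW, ← hty]; ring
      omega
    obtain ⟨S, hS, hSle⟩ := card_conjugates_add_one_le hii hi1
    rw [← hc] at hS
    have hSW : S ≤ y * W := by
      have := hSle.trans (card_sq_one_le G)
      omega
    have hpc : p * (p - 1) ≤ c * W := by
      refine Nat.le_of_mul_le_mul_left ?_ hy0
      calc y * (p * (p - 1)) = S * c := by rw [hS, hGt]; ring
        _ ≤ y * W * c := Nat.mul_le_mul_right _ hSW
        _ = y * (c * W) := by ring
    have hcle : c ^ 2 ≤ (p - 1) * (y + j * (j * (k' * t + 1))) := by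
      have hte' : ((p - 1 : ℕ) : ℝ) = (t : ℝ) * e L := by rw [← hte, Nat.cast_mul]
      have hst : (s : ℝ) = (t : ℝ) * y := by exact_mod_cast hty.symm
      have hjt' : (n : ℝ) + 1 = (j : ℝ) * t := by exact_mod_cast hjt.symm
      have h1 : (c : ℝ) ^ 2 ≤ e L * s + e L * (k' * ((n : ℝ) + 1) ^ 2) + e L * t * (j : ℝ) ^ 2 := by
        rw [hc2]
        exact add_le_add (add_le_add le_rfl (mul_le_mul_of_nonneg_left hXle (Nat.cast_nonneg _)))
          (mul_le_mul_of_nonneg_left hwle (by positivity))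
      have h2 : ((c ^ 2 : ℕ) : ℝ) ≤ (((p - 1) * (y + j * (j * (k' * t + 1))) : ℕ) : ℝ) := by
        push_cast
        rw [hte']
        calc (c : ℝ) ^ 2 ≤ _ := h1
          _ = _ := by rw [hst, hjt']; ring
      exact_mod_cast h2
    have hinner : y + j * (j * (k' * t + 1)) + j + e L = p * j + j * e L := by
      rw [hej] at hyj ⊢
      rw [← hyj]; ring
    clear_value t
    rcases Nat.lt_or_ge j 2 with hj | hj
    · -- `j = 1`
      obtain rfl : j = 1 := by omega
      have hcp : c ≤ p - 1 := by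
        refine (Nat.pow_le_pow_iff_left two_ne_zero).1 (hcle.trans (le_of_eq ?_))
        rw [pow_two]
        congr 1
        omega
      have h1 : p ≤ W := by
        refine Nat.le_of_mul_le_mul_left ?_ (by omega : 0 < p - 1)
        calc (p - 1) * p = p * (p - 1) := mul_comm _ _
          _ ≤ c * W := hpc
          _ ≤ (p - 1) * W := Nat.mul_le_mul_right _ hcp
      have hp' : p = t * (1 + 1 * (k' * t + 1)) + 1 := by rw [← hej]; omega
      obtain ⟨T, rfl⟩ : ∃ T, t = T + 2 := ⟨t - 2, by omega⟩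
      have h2 : (T + 2) * (1 + 1 * (k' * (T + 2) + 1)) + 1 = (1 + 2 * k' * (T + 2) + 2 * (T + 2)) +
          T * (k' * (T + 2)) := by ring
      have hT : T = 0 := by
        rcases Nat.eq_zero_or_pos T with h0 | h0
        · exact h0
        · have : 1 ≤ T * (k' * (T + 2)) := Nat.one_le_iff_ne_zero.2 (by positivity)
          omega
      subst hT
      exact ⟨by omega, by omega⟩
    · -- `j ≥ 3`
      exfalso
      have hj3 : 3 ≤ j := by omega
      have hje : j ≤ e L := by
        rw [hej]
        exact le_trans (Nat.le_mul_of_pos_right _ (by omega)) (Nat.le_add_left _ _)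
      have hb : t * c ^ 2 ≤ (p - 1) ^ 2 * (j * (t + 1)) := by
        refine le_trans (Nat.mul_le_mul_left t hcle) ?_
        rw [mul_left_comm, pow_two, mul_assoc]
        refine Nat.mul_le_mul_left _ ?_
        obtain ⟨p', hp'⟩ : ∃ p', p = p' + 1 := ⟨p - 1, by omega⟩
        clear hcle
        generalize e L = ee at hte hinner ⊢
        rw [hp'] at hte hinner ⊢
        simp only [Nat.add_sub_cancel] at hte ⊢
        have h3 : t * (y + j * (j * (k' * t + 1))) + t * ee = t * (p' * j) + t * (j * ee) := by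
          have h4 : y + j * (j * (k' * t + 1)) + ee = p' * j + j * ee := by
            rw [add_mul, one_mul] at hinner; omega
          rw [← mul_add, h4, mul_add]
        rw [show t * (j * ee) = j * (t * ee) by ring, hte] at h3
        have h5 : p' * (j * (t + 1)) = t * (p' * j) + j * p' := by ring
        omega
      have hkey : t * p ^ 2 ≤ j * (t + 1) * W ^ 2 := by
        refine Nat.le_of_mul_le_mul_left ?_ (pow_pos (by omega : 0 < p - 1) 2)
        calc (p - 1) ^ 2 * (t * p ^ 2) = t * (p * (p - 1)) ^ 2 := by ring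
          _ ≤ t * (c * W) ^ 2 := Nat.mul_le_mul_left _ (Nat.pow_le_pow_left hpc 2)
          _ = t * c ^ 2 * W ^ 2 := by ring
          _ ≤ (p - 1) ^ 2 * (j * (t + 1)) * W ^ 2 := Nat.mul_le_mul_right _ hb
          _ = (p - 1) ^ 2 * (j * (t + 1) * W ^ 2) := by ring
      have hkeyR : (t : ℝ) * (p : ℝ) ^ 2 ≤ (j : ℝ) * ((t : ℝ) + 1) * (W : ℝ) ^ 2 := by
        exact_mod_cast hkey
      have hPR : (j : ℝ) * t * ((k' : ℝ) * t + 1) + t + 1 = (p : ℝ) := by
        have : j * t * (k' * t + 1) + t + 1 = p := by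
          rw [show j * t * (k' * t + 1) + t = t * (1 + j * (k' * t + 1)) by ring, ← hej, hte]
          omega
        exact_mod_cast this
      have hno := no_large_case (P := (p : ℝ)) (T := (t : ℝ)) (J := (j : ℝ))
        (W := (k' : ℝ) * t + 1) (by exact_mod_cast ht2) (by exact_mod_cast hW3)
        (by exact_mod_cast hj3) hPR.le
      have hWR : (2 * ((k' : ℝ) * t + 1) + 2 * t - 1) = (W : ℝ) := by rw [hW]; push_cast; ring
      rw [hWR] at hno
      linarith

end CfsgLib.BrauerOrderP
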