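import Cfsg.Agent.BrauerOrderP.Perfect
import Cfsg.Agent.Classification.PrimePlusOne.Main

/-!
# Recognition of `PSL(2, p)` by its Sylow subgroups

A group with `p + 1` Sylow subgroups of order `p`, self-centralizing with inertial index
`(p - 1) / 2`, and without normal `p'`-subgroup is `PSL(2, p)`.
-/

set_option autoImplicit false
set_option linter.style.haveILetI false
set_option linter.unusedSectionVars false

namespace CfsgLib.BrauerOrderP

open Cfsg CfsgLib.DefectOne

universe u

variable {G : Type u} [Group G] {p : ℕ} [Fact p.Prime] [Fintype G] (L : Local p G)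

theorem psl_of_card (hcore : Cfsg.pPrimeCore p G = ⊥) (hK : L.K = ⊥)
    (he : 2 * e L + 1 = p) (hs : Nat.card (Sylow p G) = p + 1) :
    Nonempty (G ≃* Matrix.ProjectiveSpecialLinearGroup (Fin 2) (ZMod p)) := by
  classical
  have hpp : p.Prime := Fact.out
  haveI : Fintype (Sylow p G) := Fintype.ofFinite _
  have hα : Fintype.card (Sylow p G) = p + 1 := by rw [← Nat.card_eq_fintype_card, hs]
  -- the action on the Sylow subgroups is faithful
  set M := (MulAction.toPermHom G (Sylow p G)).ker with hM
  have hfix : ∀ g ∈ M, ∀ Q : Sylow p G, g • Q = Q := fun g hg Q => by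
    have := congrArg (fun σ : Equiv.Perm (Sylow p G) => σ Q) (MonoidHom.mem_ker.1 hg)
    simpa using this
  obtain ⟨u, hu⟩ := exists_mem_ne_one L
  have hu1 : (u : G) ≠ 1 := fun h => hu (Subtype.ext h)
  have hMbot : M = ⊥ := by
    refine eq_bot_of_inf L hcore (MonoidHom.normal_ker _) u.2 hu1 fun huM => ?_
    obtain ⟨Q, hQ⟩ := Fintype.exists_ne_of_one_lt_card (by rw [hα]; have := hpp.pos; omega) L.P
    have hmem : (u : G) ∈ Subgroup.normalizer ((Q : Subgroup G) : Set G) :=
      Sylow.smul_eq_iff_mem_normalizer.1 (hfix _ huM Q)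
    -- a `p`-subgroup of the normalizer of `Q` lies in `Q`
    have hP : IsPGroup p (Subgroup.zpowers (u : G)) :=
      L.P.2.to_le (Subgroup.zpowers_le.2 u.2)
    have hle : Subgroup.zpowers (u : G) ⊔ (Q : Subgroup G) = Q :=
      Q.3 (hP.to_sup_of_normal_right' Q.2 (Subgroup.zpowers_le.2 hmem)) le_sup_right
    have huQ : (u : G) ∈ (Q : Subgroup G) := hle ▸
      Subgroup.mem_sup_left (Subgroup.mem_zpowers _)
    have hQc : Nat.card (Q : Subgroup G) = p := by
      exact (Nat.card_congr (Sylow.equiv Q L.P).toEquiv).trans L.card_P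
    have hz : Subgroup.zpowers (u : G) = (L.P : Subgroup G) :=
      Subgroup.eq_of_le_of_card_ge (Subgroup.zpowers_le.2 u.2) (by
        rw [L.card_P, Nat.card_zpowers]
        exact (orderOf_eq_prime (L.pow_p u.2) hu1).ge)
    exact hQ (Sylow.ext (Subgroup.eq_of_le_of_card_ge (hz ▸ Subgroup.zpowers_le.2 huQ)
      (by rw [hQc, L.card_P])).symm)
  haveI : FaithfulSMul G (Sylow p G) := ⟨fun {a b} hab => by
    have : b⁻¹ * a ∈ M := MonoidHom.mem_ker.2 (Equiv.ext fun Q => by
      show (b⁻¹ * a) • Q = Q
      rw [mul_smul, hab Q, inv_smul_smul])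
    rw [hMbot, Subgroup.mem_bot, inv_mul_eq_one] at this
    exact this.symm⟩
  have hd : 0 < e L := e_pos L
  have hG : Nat.card G = (p + 1) * p * e L := by
    rw [(card_eq_of_K_bot L hK).2, hs]; ring
  obtain ⟨K⟩ := Classification.PrimePlusOne.nonempty_coord hα hG (e_lt L) hd
  rcases Classification.PrimePlusOne.psl_or_regular K hα hG hd (by omega) with
    ⟨-, hiso⟩ | ⟨N, hN, hreg⟩
  · exact hiso
  · exfalso
    have hcard : Nat.card N = p + 1 := by
      rw [← hα, ← Nat.card_eq_fintype_card]
      exact Nat.card_eq_of_bijective (fun m : N => (m : G) • K.e OnePoint.infty)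
        ⟨fun a b hab => (hreg _).unique hab rfl, fun x => (hreg x).exists⟩
    have hle : N ≤ Cfsg.pPrimeCore p G := LocalEven50.le_pPrimeCore hN (by
      rw [hcard]; simp)
    rw [hcore, le_bot_iff] at hle
    rw [hle, Subgroup.card_bot] at hcard
    have := hpp.pos
    omega

end CfsgLib.BrauerOrderP
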