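import Cfsg.Agent.BrauerOrderP.OneColumn
import Cfsg.Agent.BrauerOrderP.Projective
import Cfsg.Agent.BrauerOrderP.MinusSign
import Cfsg.Agent.BrauerOrderP.PlusSign
import Cfsg.Agent.PLocal.Cores

/-!
# Brauer's dichotomy for perfect groups with a Sylow subgroup of prime order
-/

set_option autoImplicit false
set_option linter.style.haveILetI false
set_option linter.unusedSectionVars false

namespace CfsgLib.BrauerOrderP

open Cfsg CfsgLib.Characters CfsgLib.DefectOne

universe u

variable {G : Type u} [Group G] {p : ℕ} [Fact p.Prime]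

/-- The conclusion for the reduced group. -/
def IsProjectiveOrLinear (p : ℕ) (G : Type u) [Group G] : Prop :=
  (∃ (F : Type) (_ : Field F) (_ : Fintype F), Fintype.card F = p ∧ 3 < p ∧
      Nonempty (G ≃* Matrix.ProjectiveSpecialLinearGroup (Fin 2) F)) ∨
    (∃ (m : ℕ) (F : Type) (_ : Field F) (_ : Fintype F), Fintype.card F = 2 ^ m ∧ p = 2 ^ m + 1 ∧
      3 < p ∧ Nonempty (G ≃* Matrix.SpecialLinearGroup (Fin 2) F))

/-- The classification without a `p'`-core. -/
theorem PerfectCtx.classify [Fintype G] {L : Local p G} {n : ℕ} (h : PerfectCtx L n) :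
    IsProjectiveOrLinear p G := by
  classical
  haveI := L.finite_col
  haveI := L.finite_lam
  letI := Fintype.ofFinite L.Lam
  by_cases ht : Nat.card (L.ColOver (O0 L)) = 1
  · exact (h.one_column ht).elim
  have h0 : 0 < Nat.card (L.ColOver (O0 L)) := Nat.card_pos_iff.2 ⟨nonempty_cols L, inferInstance⟩
  have ht1 : 1 < Nat.card (L.ColOver (O0 L)) := by omega
  obtain ⟨D⟩ := exists_exceptional L ht1
  obtain ⟨hnd, ⟨θ, hθ⟩, -⟩ := h.exceptional_data D ht1
  have hK := h.K_bot
  have he2 := h.e_ge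
  have hpsl : n = 1 → 2 * e L + 1 = p → IsProjectiveOrLinear p G := by
    rintro rfl he
    haveI : NeZero p := ⟨(Fact.out : p.Prime).ne_zero⟩
    exact Or.inl ⟨ZMod p, inferInstance, inferInstance, ZMod.card p, by omega,
      psl_of_card L h.core hK he (by rw [h.card]; ring)⟩
  rcases D.ha with ha | ha
  · rcases h.plus_sign D ht1 ha with ⟨hn, he⟩ | ⟨he, hp5⟩
    · exact hpsl hn he
    · have hC : Subgroup.centralizer ((L.P : Subgroup G) : Set G) = (L.P : Subgroup G) :=
        (Subgroup.eq_of_le_of_card_ge L.P_le_centralizer (by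
          rw [L.card_centralizer, hK, Subgroup.card_bot, mul_one, L.card_P])).symm
      have hrel : (L.P : Subgroup G).relIndex
          (Subgroup.normalizer ((L.P : Subgroup G) : Set G)) = 2 := by
        have h1 := Subgroup.relIndex_mul_relIndex ⊥ (L.P : Subgroup G) L.N bot_le
          Subgroup.le_normalizer
        rw [Subgroup.relIndex_bot_left, Subgroup.relIndex_bot_left, L.card_P,
          (card_eq_of_K_bot L hK).1, he] at h1
        exact Nat.eq_of_mul_eq_mul_left (Fact.out : p.Prime).pos h1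
      obtain ⟨u, hu⟩ := exists_mem_ne_one L
      have hval := (mem_rowsOf.1 hθ).value hu 1
      rw [OneMemClass.coe_one, mul_one] at hval
      have hne : (θ : G → ℂ) (u : G) ≠ (θ : G → ℂ) 1 := by
        rw [hval, ← Blocks.charDegree_cast θ, hnd θ hθ]
        intro h1
        have h2 := congrArg Complex.re h1
        simp only [Int.cast_neg, Int.cast_one, Complex.neg_re, Complex.one_re,
          Complex.natCast_re] at h2
        have : (0 : ℝ) ≤ ((p - 1 : ℕ) : ℝ) := Nat.cast_nonneg _
        linarith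
      obtain ⟨a, F, hF, hFt, hpa, hcard, hiso⟩ := PrimeDegreeTwoP.core hp5 L.P L.card_P hC hrel θ
        (hnd θ hθ) (faithful_of_apply_ne L h.core θ u.2 hne)
      exact Or.inr ⟨a, F, hF, hFt, hcard, hpa, by omega, hiso⟩
  · rcases h.exceptional_data D ht1 with ⟨-, -, k, -, ⟨-, hy, -⟩ | ⟨ha', -⟩⟩
    · obtain ⟨hn, he⟩ := h.minus_sign D ht1 ha hy
      exact hpsl hn he
    · rw [ha] at ha'; exact absurd ha' (by norm_num)

/-- Brauer's dichotomy. -/
theorem dichotomy_quotient [Finite G] (hperf : commutator G = ⊤) (P : Sylow p G)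
    (hP : Nat.card P = p) {n : ℕ} (hn : Nat.card (Sylow p G) = 1 + n * p)
    (hnb : ¬ IsBrauerValue p n) : IsProjectiveOrLinear p (G ⧸ Cfsg.pPrimeCore p G) := by
  classical
  have hpp : p.Prime := Fact.out
  set H := Cfsg.pPrimeCore p G with hH
  set Q := G ⧸ H
  letI := Fintype.ofFinite Q
  set f := QuotientGroup.mk' H with hf
  have hsurj : Function.Surjective f := QuotientGroup.mk'_surjective H
  have hperfQ : commutator Q = ⊤ := by
    rw [← Subgroup.map_top_of_surjective f hsurj, ← hperf, commutator_def, commutator_def,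
      Subgroup.map_commutator, Subgroup.map_top_of_surjective f hsurj]
  have hcop := CfsgLib.PLocal.coprime_card_pPrimeCore p G
  rw [← hH] at hcop
  have hPc : Nat.card (P : Subgroup G) = p := hP
  have hpG : p ∣ Nat.card G := hPc ▸ Subgroup.card_subgroup_dvd_card _
  have hsqG : ¬ p ^ 2 ∣ Nat.card G := fun h => by
    have h1 : p ^ 2 ∣ Nat.card (P : Subgroup G) :=
      P.card_eq_multiplicity ▸ Nat.pow_dvd_pow p
        (hpp.pow_dvd_iff_le_factorization Nat.card_pos.ne' |>.1 h)
    rw [hPc] at h1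
    have := Nat.le_of_dvd hpp.pos h1
    nlinarith [hpp.two_le]
  have hcard : Nat.card G = Nat.card Q * Nat.card H :=
    Subgroup.card_eq_card_quotient_mul_card_subgroup H
  have hpQ : p ∣ Nat.card Q := by
    rw [hcard] at hpG
    exact Nat.Coprime.dvd_of_dvd_mul_right hcop.symm hpG
  have hsqQ : ¬ p ^ 2 ∣ Nat.card Q := fun h => hsqG (hcard ▸ h.mul_right _)
  obtain ⟨L, hLP⟩ := exists_local hpQ hsqQ (P.mapSurjective hsurj)
  -- the number of Sylow subgroups of the quotient
  have hdvd : Nat.card (Sylow p Q) ∣ Nat.card (Sylow p G) := by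
    rw [(P.mapSurjective hsurj).card_eq_index_normalizer, P.card_eq_index_normalizer,
      ← Subgroup.index_comap_of_surjective _ hsurj]
    exact Subgroup.index_dvd_of_le (Subgroup.map_le_iff_le_comap.1 (by
      show _ ≤ Subgroup.normalizer ((Subgroup.map f (P : Subgroup G) : Subgroup Q) : Set Q)
      exact Subgroup.le_normalizer_map f))
  have hmod : Nat.card (Sylow p Q) % p = 1 := by
    have := card_sylow_modEq_one p Q
    rw [Nat.ModEq, Nat.mod_eq_of_lt hpp.one_lt] at this
    exact this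
  obtain ⟨n', hn'⟩ : ∃ n', Nat.card (Sylow p Q) = 1 + n' * p := ⟨Nat.card (Sylow p Q) / p, by
    conv_lhs => rw [← Nat.mod_add_div (Nat.card (Sylow p Q)) p, hmod]
    rw [mul_comm]⟩
  have hcore : Cfsg.pPrimeCore p Q = ⊥ := CfsgLib.PLocal.pPrimeCore_quotient_pPrimeCore_eq_bot p G
  rcases Nat.eq_zero_or_pos n' with h0 | h0
  · exfalso
    have hctx : PerfectCtx L 0 := ⟨hperfQ, hcore, by rw [hn', h0], fun ⟨h, u, hh, hu, heq⟩ => by
      rw [zero_mul] at heq
      omega⟩
    exact absurd hctx.n_pos (by omega)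
  · have hnn : n' = n := by
      by_contra hne
      have hle : 1 + n' * p ≤ 1 + n * p := by
        rw [← hn', ← hn]; exact Nat.le_of_dvd Nat.card_pos hdvd
      have hlt : n' < n := by
        refine lt_of_le_of_ne ?_ hne
        exact Nat.le_of_mul_le_mul_right (by omega : n' * p ≤ n * p) hpp.pos
      refine hnb (isBrauerValue_of_dvd hpp.two_le (d := 1 + n' * p) ?_ ?_ ?_ ?_)
      · rw [← ZMod.intCast_eq_intCast_iff]
        simp
      · have := Nat.mul_pos h0 hpp.pos
        omega
      · have := Nat.mul_lt_mul_of_pos_right hlt hpp.pos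
        omega
      · rw [← hn', ← hn]
        exact Dvd.dvd.mul_left hdvd _
    exact PerfectCtx.classify (L := L) ⟨hperfQ, hcore, hnn ▸ hn', hnb⟩

/-- Exceptional values are at least half of `p`. -/
theorem not_isBrauerValue_of_lt {n : ℕ} (hn : 2 * n < p) : ¬ IsBrauerValue p n := by
  rintro ⟨h, u, hh, hu, heq⟩
  have h1 : 2 * n * (u + 1) ≤ p * (u + 1) := Nat.mul_le_mul_right _ hn.le
  have h2 : u * p ≤ h * u * p := by
    rw [mul_assoc]; exact Nat.le_mul_of_pos_left _ hh
  have h3 : p ≤ u * p := Nat.le_mul_of_pos_left _ hu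
  nlinarith

/-- The order bound. -/
theorem dichotomy_cubed [Finite G] (hperf : commutator G = ⊤) (hdvd : p ∣ Nat.card G)
    (hbig : Nat.card G < p ^ 3) (P : Sylow p G) (hP : ¬ (P : Subgroup G).Normal)
    (h2 : ∀ N : Subgroup G, N.Normal → Nat.card N ≠ 2) : IsProjectiveOrLinear p G := by
  classical
  haveI := Fintype.ofFinite G
  have hpp : p.Prime := Fact.out
  set s := Nat.card (Sylow p G) with hs
  have hs1 : s ≠ 1 := fun h1 => hP (by
    haveI := (Nat.card_eq_one_iff_unique.1 h1).1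
    exact Sylow.normal_of_subsingleton P)
  have hmod : s % p = 1 := by
    have := card_sylow_modEq_one p G
    rw [Nat.ModEq, Nat.mod_eq_of_lt hpp.one_lt] at this
    exact this
  obtain ⟨n, hn⟩ : ∃ n, s = 1 + n * p := ⟨s / p, by
    conv_lhs => rw [← Nat.mod_add_div s p, hmod]
    rw [mul_comm]⟩
  have hnpos : 1 ≤ n := Nat.pos_of_ne_zero fun h0 => hs1 (by rw [hn, h0]; simp)
  have hsp : p < s := by rw [hn]; nlinarith
  have hsPG : s * Nat.card (P : Subgroup G) ≤ Nat.card G := by
    have h1 : Nat.card (Subgroup.normalizer ((P : Subgroup G) : Set G)) * s = Nat.card G := by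
      rw [hs, P.card_eq_index_normalizer]
      exact Subgroup.card_mul_index _
    rw [← h1, mul_comm s]
    exact Nat.mul_le_mul_right _ (Nat.le_of_dvd Nat.card_pos
      (Subgroup.card_dvd_of_le Subgroup.le_normalizer))
  obtain ⟨a, ha⟩ := P.2.exists_card_eq
  have hsq : ¬ p ^ 2 ∣ Nat.card G := by
    intro h
    have h1 : p ^ 2 ≤ Nat.card (P : Subgroup G) :=
      Nat.le_of_dvd Nat.card_pos (P.card_eq_multiplicity ▸ Nat.pow_dvd_pow p
        (hpp.pow_dvd_iff_le_factorization Nat.card_pos.ne' |>.1 h))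
    have h3 : p * p ^ 2 ≤ s * Nat.card (P : Subgroup G) := Nat.mul_le_mul hsp.le h1
    rw [← pow_succ'] at h3
    exact absurd (h3.trans hsPG) (not_le.2 hbig)
  obtain ⟨L, rfl⟩ := exists_local hdvd hsq P
  have he := two_le_e L hperf
  have h2n : 2 * n < p := by
    have h1 : Nat.card L.N * s = Nat.card G := by
      rw [hs, L.P.card_eq_index_normalizer]; exact Subgroup.card_mul_index _
    have h3 : 2 * p ≤ Nat.card L.N := by
      rw [← card_N L]
      exact Nat.mul_le_mul he (Nat.le_mul_of_pos_right _ Nat.card_pos)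
    have h4 : 2 * p * s < p ^ 3 := lt_of_le_of_lt ((Nat.mul_le_mul_right _ h3).trans h1.le) hbig
    rw [show p ^ 3 = p * (p * p) by ring, show 2 * p * s = p * (2 * s) by ring] at h4
    have h5 := Nat.lt_of_mul_lt_mul_left h4
    rw [hn] at h5
    have h6 : 2 * n * p < p * p := by rw [mul_assoc]; omega
    exact Nat.lt_of_mul_lt_mul_right h6
  have hQ := dichotomy_quotient hperf L.P L.card_P hn (not_isBrauerValue_of_lt h2n)
  set H := Cfsg.pPrimeCore p G
  have hcard : Nat.card G = Nat.card (G ⧸ H) * Nat.card H :=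
    Subgroup.card_eq_card_quotient_mul_card_subgroup H
  have hbound : p ^ 3 ≤ 3 * Nat.card (G ⧸ H) := by
    rcases hQ with ⟨F, _, _, hF, hp3, ⟨i⟩⟩ | ⟨m, F, _, _, hF, hpm, hp3, ⟨i⟩⟩
    · have hodd : Odd (Fintype.card F) := hF ▸ hpp.odd_of_ne_two (by omega)
      have hc := CfsgLib.Linear.card_PSL_two_odd hodd
      rw [← Nat.card_congr i.toEquiv, hF] at hc
      have h5 : p * (p * p) ≤ p * (3 * (p * p - 1) / 2) := by
        refine Nat.mul_le_mul_left _ ?_
        have : 9 ≤ p * p := Nat.mul_le_mul (by omega : 3 ≤ p) (by omega : 3 ≤ p)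
        omega
      have h6 : p * (3 * (p * p - 1) / 2) * 2 ≤ 3 * Nat.card (G ⧸ H) * 2 := by
        rw [mul_assoc p]
        refine (Nat.mul_le_mul_left p (Nat.div_mul_le_self _ 2)).trans (le_of_eq ?_)
        rw [show 3 * Nat.card (G ⧸ H) * 2 = 3 * (2 * Nat.card (G ⧸ H)) by ring, hc, pow_two]
        ring
      rw [show p ^ 3 = p * (p * p) by ring]
      omega
    · have hc := CfsgLib.Linear.card_SL_two (F := F)
      rw [← Nat.card_congr i.toEquiv, hF] at hc
      rw [hc]
      generalize 2 ^ m = q at hpm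
      subst hpm
      obtain ⟨r, rfl⟩ : ∃ r, q = r + 3 := ⟨q - 3, by omega⟩
      rw [show (r + 3) ^ 2 - 1 = (r + 2) * (r + 4) by
        rw [show (r + 3) ^ 2 = (r + 2) * (r + 4) + 1 by ring, Nat.add_sub_cancel]]
      nlinarith [Nat.zero_le (r ^ 3), Nat.zero_le (r ^ 2)]
  have hH1 : H = ⊥ := by
    refine Subgroup.eq_bot_of_card_eq _ ?_
    have hlt : Nat.card (G ⧸ H) * Nat.card H < Nat.card (G ⧸ H) * 3 := by
      rw [← hcard, mul_comm (Nat.card (G ⧸ H)) 3]; omega
    have h3 := Nat.lt_of_mul_lt_mul_left hlt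
    have h4 := h2 H inferInstance
    have h5 : 0 < Nat.card H := Nat.card_pos
    omega
  let e : G ≃* G ⧸ H := ((QuotientGroup.quotientMulEquivOfEq hH1).trans QuotientGroup.quotientBot).symm
  rcases hQ with ⟨F, hf, hft, hF, hp3, ⟨i⟩⟩ | ⟨m, F, hf, hft, hF, hpm, hp3, ⟨i⟩⟩
  · exact Or.inl ⟨F, hf, hft, hF, hp3, ⟨e.trans i⟩⟩
  · exact Or.inr ⟨m, F, hf, hft, hF, hpm, hp3, ⟨e.trans i⟩⟩

end CfsgLib.BrauerOrderP
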