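import Cfsg.Agent.BrauerOrderP.Degrees
import Cfsg.Agent.BrauerOrderP.Average
import Cfsg.Agent.PrimeDegreeTwoP.Core

/-!
# Involutions inverting a self-centralizing subgroup of prime order
-/

set_option autoImplicit false
set_option linter.style.haveILetI false
set_option linter.unusedSectionVars false

namespace CfsgLib.BrauerOrderP

open Cfsg CfsgLib.Characters CfsgLib.DefectOne
open scoped ComplexConjugate

universe u

variable {G : Type u} [Group G] {p : ℕ} [Fact p.Prime] [Fintype G] {L : Local p G}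

/-- Characters are real on involutions. -/
theorem im_eq_zero_of_sq {χ : G → ℂ} (hχ : Cfsg.IsCharacter G χ) {i : G} (hi : i * i = 1) :
    ((χ i).re : ℂ) = χ i := by
  have h := character_inv hχ i
  rw [inv_eq_of_mul_eq_one_right hi] at h
  exact Complex.conj_eq_iff_re.1 h.symm

/-- With `e` odd no involution inverts `u`. -/
theorem no_inverting_of_odd (hK : L.K = ⊥) (hp : p ≠ 2) (he : e L % 2 = 1) {u : G}
    (hu : u ∈ (L.P : Subgroup G)) (hu1 : u ≠ 1) {x : G} (hx : x * x = 1)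
    (hinv : x * u * x⁻¹ = u⁻¹) : False := by
  have hz : Subgroup.zpowers u = (L.P : Subgroup G) :=
    Subgroup.eq_of_le_of_card_ge (Subgroup.zpowers_le.2 hu) (by
      rw [L.card_P, Nat.card_zpowers]
      exact (orderOf_eq_prime (L.pow_p hu) hu1).ge)
  have hxN : x ∈ L.N := by
    show x ∈ Subgroup.normalizer ((L.P : Subgroup G) : Set G)
    rw [← hz, Subgroup.mem_normalizer_iff_map_conj_eq, MonoidHom.map_zpowers]
    show Subgroup.zpowers (MulAut.conj x u) = _
    rw [MulAut.conj_apply, hinv, Subgroup.zpowers_inv]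
  have hx1 : x ≠ 1 := by
    rintro rfl
    rw [one_mul, inv_one, mul_one] at hinv
    have h2 : u ^ 2 = 1 := by rw [pow_two]; nth_rewrite 1 [hinv]; exact inv_mul_cancel u
    have h3 := orderOf_dvd_of_pow_eq_one h2
    rw [orderOf_eq_prime (L.pow_p hu) hu1] at h3
    exact hp ((Nat.prime_dvd_prime_iff_eq Fact.out Nat.prime_two).1 h3)
  haveI : Fact (Nat.Prime 2) := ⟨Nat.prime_two⟩
  have h4 : orderOf x = 2 := orderOf_eq_prime (by rw [pow_two, hx]) hx1
  have h5 : 2 ∣ Nat.card L.N := h4 ▸ Subgroup.orderOf_dvd_natCard _ hxN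
  rw [(card_eq_of_K_bot L hK).1, Nat.dvd_iff_mod_eq_zero, Nat.mul_mod, he,
    ((Fact.out : p.Prime).eq_two_or_odd).resolve_left hp] at h5
  norm_num at h5

/-- With `e` even some involution inverts `P`. -/
theorem exists_inverting (hK : L.K = ⊥) (hp : p ≠ 2) (he : e L % 2 = 0) :
    ∃ i : G, i * i = 1 ∧ i ≠ 1 ∧ ∀ v ∈ (L.P : Subgroup G), i * v * i⁻¹ = v⁻¹ := by
  haveI : Fact (Nat.Prime 2) := ⟨Nat.prime_two⟩
  obtain ⟨i, hi⟩ := exists_prime_orderOf_dvd_card' (G := L.N) 2 (by
    rw [(card_eq_of_K_bot L hK).1]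
    exact Dvd.dvd.mul_left (Nat.dvd_of_mod_eq_zero he) _)
  have hii : (i : G) * i = 1 := by
    have := pow_orderOf_eq_one i
    rw [hi, pow_two] at this
    exact congrArg Subtype.val this
  have hi1 : (i : G) ≠ 1 := by
    intro h
    rw [show i = 1 from Subtype.ext h, orderOf_one] at hi
    exact absurd hi (by norm_num)
  have hiP : (i : G) ∉ (L.P : Subgroup G) := by
    intro h
    have h2 := Subgroup.orderOf_dvd_natCard _ h
    rw [Subgroup.orderOf_coe, hi, L.card_P] at h2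
    exact hp ((Nat.prime_dvd_prime_iff_eq Nat.prime_two Fact.out).1 h2).symm
  refine ⟨i, hii, hi1, fun v hv => ?_⟩
  have hmem : (i : G) * v * (i : G)⁻¹ ∈ (L.P : Subgroup G) :=
    ((Subgroup.mem_normalizer_iff.1 i.2 v).1 hv)
  haveI := L.isMulCommutative
  have hcomm : ∀ a ∈ (L.P : Subgroup G), ∀ b ∈ (L.P : Subgroup G), a * b = b * a :=
    fun a ha b hb => congrArg Subtype.val
      (mul_comm' (⟨a, ha⟩ : (L.P : Subgroup G)) ⟨b, hb⟩)
  by_contra hne
  have hw1 : (i : G) * v * (i : G)⁻¹ * v ≠ 1 := fun h => hne (eq_inv_of_mul_eq_one_left h)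
  refine hiP ?_
  rw [← centralizer_eq_P L hK (mul_mem hmem hv) hw1, Subgroup.mem_centralizer_singleton_iff]
  have hin : (i : G)⁻¹ = i := inv_eq_of_mul_eq_one_right hii
  rw [hin] at hmem ⊢
  calc (i : G) * ((i : G) * v * i * v) = ((i : G) * i) * v * (i * v) := by simp only [mul_assoc]
    _ = v * ((i : G) * v * i) * i := by
      rw [hii, one_mul]
      simp only [mul_assoc, hii, mul_one]
    _ = (i : G) * v * i * v * i := by rw [hcomm v hv _ hmem]

variable {i : G}

/-- A translate of an inverting involution is a conjugate. -/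
theorem conj_translate (hp : p ≠ 2) (hinv : ∀ v ∈ (L.P : Subgroup G), i * v * i⁻¹ = v⁻¹) {v : G}
    (hv : v ∈ (L.P : Subgroup G)) : ∃ w ∈ (L.P : Subgroup G), w⁻¹ * i * w = i * v := by
  have hodd : p % 2 = 1 := ((Fact.out : p.Prime).eq_two_or_odd).resolve_left hp
  refine ⟨v ^ ((p + 1) / 2), pow_mem hv _, ?_⟩
  have hw : v ^ ((p + 1) / 2) * v ^ ((p + 1) / 2) = v := by
    rw [← pow_add, show (p + 1) / 2 + (p + 1) / 2 = p + 1 by omega, pow_succ, L.pow_p hv, one_mul]
  have h1 : (v ^ ((p + 1) / 2))⁻¹ * i = i * v ^ ((p + 1) / 2) := by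
    rw [← hinv _ (pow_mem hv _), inv_mul_cancel_right]
  rw [h1, mul_assoc, hw]

/-- The value at an inverting involution is bounded by the fixed space of `P`. -/
theorem norm_involution_le (hp : p ≠ 2) (hinv : ∀ v ∈ (L.P : Subgroup G), i * v * i⁻¹ = v⁻¹)
    {χ : G → ℂ} (hχ : Cfsg.IsCharacter G χ) [Fintype (L.P : Subgroup G)] :
    (p : ℝ) * ‖χ i‖ ≤ (∑ h : (L.P : Subgroup G), χ h).re := by
  have hmem : i ∈ Subgroup.normalizer ((L.P : Subgroup G) : Set G) := by
    rw [Subgroup.mem_normalizer_iff]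
    intro v
    refine ⟨fun hv => (hinv v hv).symm ▸ inv_mem hv, fun hv => ?_⟩
    have h1 := hinv _ (inv_mem hv)
    rw [inv_inv] at h1
    rw [← mul_left_cancel (mul_right_cancel h1)]
    exact inv_mem hv
  refine le_of_eq_of_le ?_ (norm_sum_coset_le hχ (L.P : Subgroup G) hmem)
  rw [Finset.sum_congr rfl (g := fun _ => χ i) fun h _ => ?_, Finset.sum_const, Finset.card_univ,
    nsmul_eq_mul, ← Nat.card_eq_fintype_card, L.card_P, norm_mul, Complex.norm_natCast]
  obtain ⟨w, -, hw⟩ := conj_translate hp hinv h.2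
  rw [← hw]
  exact (classFunction_isConj (isClassFunction_of_isCharacter hχ)
    (isConj_iff.2 ⟨w⁻¹, by rw [inv_inv]⟩)).symm

/-- The pairs of conjugates of an inverting involution with product `u`. -/
theorem pairs_involution [DecidableEq G] (hK : L.K = ⊥) (hp : p ≠ 2) (hi : i * i = 1)
    (hinv : ∀ v ∈ (L.P : Subgroup G), i * v * i⁻¹ = v⁻¹) {u : G} (hu : u ∈ (L.P : Subgroup G))
    (hu1 : u ≠ 1) :
    (∑ a : G, ∑ b : G, if a * i * a⁻¹ * (b * i * b⁻¹) = u then (1 : ℂ) else 0) =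
      (p : ℂ) * (Nat.card (Subgroup.centralizer ({i} : Set G)) : ℂ) ^ 2 := by
  classical
  set c := Nat.card (Subgroup.centralizer ({i} : Set G)) with hc
  haveI := Fintype.ofFinite (L.P : Subgroup G)
  have hin : i⁻¹ = i := inv_eq_of_mul_eq_one_right hi
  have hinner : ∀ a : G, (∑ b : G, if a * i * a⁻¹ * (b * i * b⁻¹) = u then (1 : ℂ) else 0) =
      if ∃ v ∈ (L.P : Subgroup G), a * i * a⁻¹ = i * v then (c : ℂ) else 0 := by
    intro a
    rw [Finset.sum_boole]
    obtain ⟨z, hz⟩ : ∃ z, a * i * a⁻¹ = z := ⟨_, rfl⟩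
    rw [hz]
    have hzz : z * z = 1 := by
      rw [← hz, show a * i * a⁻¹ * (a * i * a⁻¹) = a * (i * i) * a⁻¹ by group, hi, mul_one,
        mul_inv_cancel]
    have hzi : z⁻¹ = z := inv_eq_of_mul_eq_one_right hzz
    have hfilter : (Finset.univ.filter fun b : G => z * (b * i * b⁻¹) = u) =
        Finset.univ.filter fun b : G => b * i * b⁻¹ = z⁻¹ * u :=
      Finset.filter_congr fun b _ => eq_inv_mul_iff_mul_eq.symm
    rw [hfilter, ← Fintype.card_subtype, ← Nat.card_eq_fintype_card]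
    by_cases hex : ∃ v ∈ (L.P : Subgroup G), z = i * v
    · rw [if_pos hex]
      obtain ⟨v, hv, hzv⟩ := hex
      have h1 : z⁻¹ * u = i * (v * u) := by rw [hzi, hzv, mul_assoc]
      obtain ⟨w, -, hw⟩ := conj_translate hp hinv (mul_mem hv hu)
      rw [h1, PrimeDegreeTwoP.card_conjugators (isConj_iff.2 ⟨w⁻¹, by rw [inv_inv, hw]⟩), ← hc]
    · rw [if_neg hex, Nat.cast_eq_zero, Nat.card_eq_zero]
      refine Or.inl ⟨fun ⟨b, hb⟩ => hex ⟨i⁻¹ * z, ?_, (mul_inv_cancel_left i z).symm⟩⟩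
      have h2 : (z⁻¹ * u) * (z⁻¹ * u) = 1 := by
        rw [← hb, show b * i * b⁻¹ * (b * i * b⁻¹) = b * (i * i) * b⁻¹ by group, hi, mul_one,
          mul_inv_cancel]
      have h3 : z⁻¹ * u * z = u⁻¹ := by
        have := eq_inv_of_mul_eq_one_left h2
        rw [mul_inv_rev, inv_inv] at this
        rw [this, mul_assoc, hzz, mul_one]
      rw [← centralizer_eq_P L hK hu hu1, Subgroup.mem_centralizer_singleton_iff]
      have h4 : z * u = u⁻¹ * z := by
        rw [← h3, hzi, mul_assoc, hzz, mul_one]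
      calc i⁻¹ * z * u = i⁻¹ * (z * u) := mul_assoc _ _ _
        _ = i⁻¹ * u⁻¹ * z := by rw [h4, mul_assoc]
        _ = u * (i⁻¹ * z) := by
          rw [← hinv u hu, ← mul_assoc i⁻¹, ← mul_assoc i⁻¹ i u, inv_mul_cancel, one_mul, mul_assoc]
  rw [Finset.sum_congr rfl fun a _ => hinner a, ← Finset.sum_filter, Finset.sum_const,
    nsmul_eq_mul]
  have hcount : (Finset.univ.filter fun a : G =>
      ∃ v ∈ (L.P : Subgroup G), a * i * a⁻¹ = i * v).card = p * c := by
    rw [← Fintype.card_subtype, ← Nat.card_eq_fintype_card]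
    rw [Nat.card_congr (α := {a : G // ∃ v ∈ (L.P : Subgroup G), a * i * a⁻¹ = i * v})
      (β := Σ v : (L.P : Subgroup G), {a : G // a * i * a⁻¹ = i * v})
      ⟨fun a => ⟨⟨i⁻¹ * (a.1 * i * a.1⁻¹), by
          obtain ⟨v, hv, h⟩ := a.2
          rw [h, inv_mul_cancel_left]; exact hv⟩, a.1, (mul_inv_cancel_left i _).symm⟩,
        fun x => ⟨x.2.1, x.1, x.1.2, x.2.2⟩, fun a => Subtype.ext rfl,
        fun ⟨⟨v, hv⟩, a, ha⟩ => Sigma.subtype_ext (Subtype.ext (by
          show i⁻¹ * (a * i * a⁻¹) = v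
          rw [ha, inv_mul_cancel_left])) rfl⟩,
      Nat.card_sigma, Finset.sum_congr rfl (g := fun _ => c) fun v _ => ?_, Finset.sum_const,
      Finset.card_univ, ← Nat.card_eq_fintype_card, L.card_P, smul_eq_mul]
    obtain ⟨w, -, hw⟩ := conj_translate hp hinv v.2
    rw [PrimeDegreeTwoP.card_conjugators (isConj_iff.2 ⟨w⁻¹, by rw [inv_inv, hw]⟩)]
  rw [hcount]
  push_cast
  ring

/-- The conjugates of an involution and the identity are square roots of one. -/
theorem card_conjugates_add_one_le (hi : i * i = 1) (hi1 : i ≠ 1) :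
    ∃ S : ℕ, S * Nat.card (Subgroup.centralizer ({i} : Set G)) = Nat.card G ∧
      S + 1 ≤ Nat.card {x : G // x * x = 1} := by
  classical
  set S := Finset.univ.image fun a : G => a * i * a⁻¹ with hS
  refine ⟨S.card, ?_, ?_⟩
  · rw [Nat.card_eq_fintype_card (α := G), ← Finset.card_univ,
      Finset.card_eq_sum_card_image (fun a : G => a * i * a⁻¹) Finset.univ,
      Finset.sum_congr rfl (g := fun _ => Nat.card (Subgroup.centralizer ({i} : Set G)))
        fun z hz => ?_, Finset.sum_const, smul_eq_mul]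
    obtain ⟨a, -, ha⟩ := Finset.mem_image.1 hz
    rw [← Fintype.card_subtype, ← Nat.card_eq_fintype_card]
    exact PrimeDegreeTwoP.card_conjugators (isConj_iff.2 ⟨a, ha⟩)
  · have h1 : (1 : G) ∉ S := by
      intro h
      obtain ⟨a, -, ha⟩ := Finset.mem_image.1 h
      exact hi1 (by simpa using ha)
    rw [← Finset.card_insert_of_notMem h1, Nat.card_eq_fintype_card, Fintype.card_subtype]
    refine Finset.card_le_card fun x hx => Finset.mem_filter.2 ⟨Finset.mem_univ _, ?_⟩
    rcases Finset.mem_insert.1 hx with rfl | hx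
    · exact one_mul 1
    · obtain ⟨a, -, rfl⟩ := Finset.mem_image.1 hx
      rw [show a * i * a⁻¹ * (a * i * a⁻¹) = a * (i * i) * a⁻¹ by group, hi, mul_one,
        mul_inv_cancel]

end CfsgLib.BrauerOrderP
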