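import Cfsg.Agent.BrauerOrderP.Degrees
import Cfsg.Agent.RegularLinear.Basic

/-!
# One exceptional column

If `e = p - 1` and `n` is not an exceptional number, then `1 + n p` is odd and a Sylow `2`-subgroup
is cyclic, impossible in a perfect group.
-/

set_option autoImplicit false
set_option linter.style.haveILetI false
set_option linter.unusedSectionVars false

namespace CfsgLib.BrauerOrderP

open Cfsg CfsgLib.Characters CfsgLib.DefectOne
open scoped commutatorElement

universe u

variable {G : Type u} [Group G]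

/-- A perfect group has no normal subgroup of index two. -/
theorem index_ne_two_of_perfect (hperf : commutator G = ⊤) (N : Subgroup G) [N.Normal] :
    N.index ≠ 2 := by
  intro h
  haveI : Fact (Nat.Prime 2) := ⟨Nat.prime_two⟩
  haveI : IsCyclic (G ⧸ N) := isCyclic_of_prime_card (p := 2) h
  have hle : commutator G ≤ N := by
    rw [commutator_def, Subgroup.commutator_le]
    intro a _ b _
    rw [← QuotientGroup.eq_one_iff, ← QuotientGroup.mk'_apply, map_commutatorElement,
      commutatorElement_eq_one_iff_commute]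
    haveI : IsMulCommutative (G ⧸ N) := IsCyclic.isMulCommutative
    exact mul_comm' _ _
  rw [hperf, top_le_iff] at hle
  rw [hle, Subgroup.index_top] at h
  exact absurd h (by norm_num)

/-- A perfect group of even order has no element generating a Sylow `2`-subgroup. -/
theorem false_of_cyclic_two_part [Finite G] (hperf : commutator G = ⊤) (heven : 2 ∣ Nat.card G)
    {g : G} {v : ℕ} (hv : 2 ^ v ∣ orderOf g) (hmax : ¬ 2 ^ (v + 1) ∣ Nat.card G) : False := by
  haveI : Fact (Nat.Prime 2) := ⟨Nat.prime_two⟩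
  set w := g ^ (orderOf g / 2 ^ v) with hw
  have hwo : orderOf w = 2 ^ v := by
    rw [hw, orderOf_pow_of_dvd ((Nat.div_pos (Nat.le_of_dvd (orderOf_pos g) hv) (by positivity)).ne')
      (Nat.div_dvd_of_dvd hv), Nat.div_div_self hv (orderOf_pos g).ne']
  obtain ⟨T, hT⟩ := (IsPGroup.of_card (n := v) (by rw [Nat.card_zpowers, hwo]) :
    IsPGroup 2 (Subgroup.zpowers w)).exists_le_sylow
  obtain ⟨b, hb⟩ := T.2.exists_card_eq
  have hbv : b ≤ v := by
    by_contra hc
    push Not at hc
    exact hmax ((Nat.pow_dvd_pow 2 hc).trans (hb ▸ Subgroup.card_subgroup_dvd_card _))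
  have heq : Subgroup.zpowers w = (T : Subgroup G) := Subgroup.eq_of_le_of_card_ge hT (by
    rw [Nat.card_zpowers, hwo, hb]
    exact Nat.pow_le_pow_right (by norm_num) hbv)
  haveI : IsCyclic (T : Subgroup G) := heq ▸ inferInstance
  obtain ⟨N, hN, hN2⟩ := CfsgLib.RegLinear.exists_index_two_of_cyclic_sylow T heven
  exact index_ne_two_of_perfect hperf N hN2

variable {p : ℕ} [Fact p.Prime] [Fintype G] {L : Local p G} {n : ℕ}

/-- The normalizer contains an element whose order is a multiple of `e` when `P` is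
self-centralizing. -/
theorem exists_orderOf_e (hK : L.K = ⊥) : ∃ g ∈ L.N, e L ∣ orderOf g := by
  classical
  haveI : IsCyclic (L.P : Subgroup G) := isCyclic_of_prime_card L.card_P
  haveI hcyc : IsCyclic (MulAut (L.P : Subgroup G)) := by
    have hc : Nat.card (L.P : Subgroup G) = p := L.card_P
    haveI : IsCyclic (ZMod (Nat.card (L.P : Subgroup G)))ˣ := by rw [hc]; infer_instance
    exact isCyclic_of_injective
      (IsCyclic.mulAutMulEquiv (L.P : Subgroup G)).toMonoidHom (MulEquiv.injective _)
  let φ : L.N →* MulAut (L.P : Subgroup G) := Subgroup.normalizerMonoidHom _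
  have hker : Nat.card φ.ker = p := by
    have h1 : φ.ker = (Subgroup.centralizer ((L.P : Subgroup G) : Set G)).subgroupOf L.N :=
      Subgroup.normalizerMonoidHom_ker _
    rw [h1, Nat.card_congr (Subgroup.subgroupOfEquivOfLe
      (Subgroup.centralizer_le_normalizer _)).toEquiv, L.card_centralizer, hK, Subgroup.card_bot,
      mul_one]
  have hrange : Nat.card φ.range = e L := by
    have h1 := φ.ker.card_mul_index
    rw [Subgroup.index_ker, hker, (card_eq_of_K_bot L hK).1] at h1
    exact Nat.eq_of_mul_eq_mul_left (Fact.out : p.Prime).pos h1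
  haveI : IsCyclic φ.range := isCyclic_of_injective φ.range.subtype φ.range.subtype_injective
  obtain ⟨⟨y, x, hx⟩, hy⟩ := IsCyclic.exists_generator (α := φ.range)
  refine ⟨(x : G), x.2, ?_⟩
  have h2 := orderOf_eq_card_of_forall_mem_zpowers hy
  rw [← Subgroup.orderOf_coe, hrange] at h2
  rw [Subgroup.orderOf_coe, ← h2]; simp only [← hx]
  exact orderOf_map_dvd φ x

/-- One column is impossible. -/
theorem PerfectCtx.one_column (h : PerfectCtx L n) (ht : Nat.card (L.ColOver (O0 L)) = 1) :
    False := by
  obtain ⟨he, -, -, k, hk⟩ := h.oneCol_data ht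
  have hK := h.K_bot
  have hp3 := h.three_le
  have hodd : p % 2 = 1 := ((Fact.out : p.Prime).eq_two_or_odd).resolve_left (by omega)
  have hn : n % 2 = 0 := by
    by_contra hc
    have h1 : (k * (n + 1)) % 2 = 0 := by
      rw [Nat.mul_mod, show (n + 1) % 2 = 0 by omega, mul_zero, Nat.zero_mod]
    omega
  have hs : Nat.card (Sylow p G) % 2 = 1 := by
    rw [h.card, Nat.add_mod, Nat.mul_mod, hn, zero_mul, Nat.zero_mod, add_zero]
  obtain ⟨-, hG⟩ := card_eq_of_K_bot L hK
  obtain ⟨v, m, hm, hpm⟩ := Nat.exists_eq_two_pow_mul_odd (show p - 1 ≠ 0 by omega)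
  obtain ⟨g, -, hg⟩ := exists_orderOf_e hK
  rw [he, hpm] at hg
  refine false_of_cyclic_two_part h.perf ?_ ((Dvd.intro m rfl).trans hg) ?_
  · rw [hG, he]
    exact Dvd.dvd.mul_right (Dvd.dvd.mul_left (Nat.dvd_of_mod_eq_zero (by omega)) _) _
  · rw [hG, he, hpm, show p * (2 ^ v * m) * Nat.card (Sylow p G) =
      2 ^ v * (p * m * Nat.card (Sylow p G)) by ring, pow_succ]
    intro hd
    have h2 := Nat.dvd_of_mul_dvd_mul_left (by positivity) hd
    rw [Nat.dvd_iff_mod_eq_zero, Nat.mul_mod, Nat.mul_mod p, hodd, hs, Nat.odd_iff.1 hm] at h2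
    norm_num at h2

end CfsgLib.BrauerOrderP
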