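import Cfsg.Agent.BrauerOrderP.Values
import Cfsg.Agent.BrauerOrderP.Average

/-!
# Multiplicities on `P × K` over an arbitrary orbit

The multiplicity of a character of `K` in the restriction of a character, through the coefficients,
and the shape of the restriction of a character of degree below `p`.
-/

set_option autoImplicit false
set_option linter.style.haveILetI false
set_option linter.unusedSectionVars false

namespace CfsgLib.BrauerOrderP

open Cfsg CfsgLib.Characters CfsgLib.DefectOne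
open scoped ComplexConjugate

universe u

variable {G : Type u} [Group G] {p : ℕ} [Fact p.Prime] [Fintype G] (L : Local p G)

/-- The multiplicity of a character of `K` in the restriction of a character to `K`. -/
noncomputable def multK [Fintype L.K] (χ : IrrCharacter G) (φ : IrrCharacter L.K) : ℂ :=
  Cfsg.classInner (fun k : L.K => (χ : G → ℂ) (k : G)) (φ : L.K → ℂ)

theorem exists_multK [Fintype L.K] [Fintype L.Lam] (χ : IrrCharacter G) (φ : IrrCharacter L.K) :
    ∃ M : ℕ, multK L χ φ + ∑ l : L.Lam, L.cvec χ (l, φ) = (p : ℂ) * M := by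
  classical
  haveI := L.isMulCommutative
  letI := Fintype.ofFinite L.PK
  haveI := Fintype.ofFinite (L.P : Subgroup G)
  haveI : Finite (↥(L.P : Subgroup G) →* ℂˣ) := BlocksFrobenius.finite_dual
  haveI := Fintype.ofFinite (↥(L.P : Subgroup G) →* ℂˣ)
  have hp0 : (p : ℂ) ≠ 0 := Nat.cast_ne_zero.2 (Fact.out : p.Prime).ne_zero
  obtain ⟨M, hM⟩ := classInner_character_irr (L.isCharacter_res χ) (L.isIrr_tensor 1 φ)
  refine ⟨M, ?_⟩
  have hkey : ∀ v : ↥(L.P : Subgroup G), ∑ l : L.Lam, (1 - conj (l.1 v : ℂ)) =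
      if v = 1 then 0 else (p : ℂ) := by
    intro v
    have h0 : ∑ l : L.Lam, (1 - conj (l.1 v : ℂ)) =
        ∑ l : (L.P : Subgroup G) →* ℂˣ, (1 - conj (l v : ℂ)) := by
      rw [← Finset.sum_subtype (Finset.univ.filter fun l : (L.P : Subgroup G) →* ℂˣ => l ≠ 1)
        (fun l => by simp) (fun l : (L.P : Subgroup G) →* ℂˣ => 1 - conj (l v : ℂ)),
        Finset.sum_filter]
      refine Finset.sum_congr rfl fun l _ => ?_
      by_cases hl : l = 1
      · simp [hl]
      · simp [hl]
    rw [h0, Finset.sum_sub_distrib, Finset.sum_const, Finset.card_univ, ← Nat.card_eq_fintype_card,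
      BlocksFrobenius.card_dual, L.card_P, nsmul_one, ← map_sum, BlocksFrobenius.sum_dual_apply]
    split_ifs with h
    · rw [L.card_P, map_natCast, sub_self]
    · rw [map_zero, sub_zero]
  have h1 : ∑ l : L.Lam, L.cvec χ (l, φ) = ((p * Nat.card L.K : ℕ) : ℂ)⁻¹ *
      ∑ v : ↥(L.P : Subgroup G), ∑ k : L.K, (if v = 1 then (0 : ℂ) else p) *
        ((χ : G → ℂ) (L.emb (v, k)) * conj ((φ : L.K → ℂ) k)) := by
    simp only [L.cvec_eq, Cfsg.classInner, L.sum_PK, L.card_PK, ← Finset.mul_sum]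
    congr 1
    rw [Finset.sum_comm]
    refine Finset.sum_congr rfl fun v _ => ?_
    rw [Finset.sum_comm]
    rw [Finset.mul_sum]
    refine Finset.sum_congr rfl fun k _ => ?_
    simp only [Local.res, Local.psi, map_mul, map_sub, map_one]
    rw [← hkey, Finset.sum_mul]
    exact Finset.sum_congr rfl fun l _ => by ring
  rw [h1, ← hM, multK]
  simp only [Cfsg.classInner, L.sum_PK, L.card_PK, Local.res, MonoidHom.one_apply, Units.val_one,
    one_mul, Nat.cast_mul, mul_inv]
  rw [← Finset.add_sum_erase _ _ (Finset.mem_univ (1 : ↥(L.P : Subgroup G))),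
    ← Finset.add_sum_erase _ _ (Finset.mem_univ (1 : ↥(L.P : Subgroup G)))]
  set R : ℂ := ∑ v ∈ Finset.univ.erase (1 : ↥(L.P : Subgroup G)),
    ∑ k : L.K, (χ : G → ℂ) (L.emb (v, k)) * conj ((φ : L.K → ℂ) k) with hR
  have h2 : ∑ v ∈ Finset.univ.erase (1 : ↥(L.P : Subgroup G)), ∑ k : L.K,
      (if v = 1 then (0 : ℂ) else p) *
        ((χ : G → ℂ) (L.emb (v, k)) * conj ((φ : L.K → ℂ) k)) = (p : ℂ) * R := by
    rw [hR, Finset.mul_sum]
    refine Finset.sum_congr rfl fun v hv => ?_
    rw [if_neg (Finset.ne_of_mem_erase hv), Finset.mul_sum]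
  simp only [Local.emb_apply] at h2 hR ⊢
  rw [h2]
  simp only [if_true, zero_mul, Finset.sum_const_zero, zero_add, OneMemClass.coe_one, one_mul]
  field_simp

theorem multK_phiBy [Fintype L.K] (χ : IrrCharacter G) (φ : IrrCharacter L.K) (n : L.N) :
    multK L χ (L.phiBy n φ) = multK L χ φ := by
  rw [multK, multK, Cfsg.classInner, Cfsg.classInner]
  congr 1
  refine Fintype.sum_equiv (L.autK n).toEquiv _ _ fun k => ?_
  show _ = (χ : G → ℂ) ((L.autK n k : L.K) : G) * _
  rw [Local.coe_autK, isClassFunction_of_isIrr χ.2]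
  rfl

open Classical in
/-- A character of degree below `p` lives on one orbit. -/
theorem small_degree [Fintype L.K] [Fintype L.Lam] {χ : IrrCharacter G} {O : L.Orb}
    (h : ∃ q : L.ColOver O, L.cint χ q.1 ≠ 0) (hlt : Cfsg.charDegree (χ : G → ℂ) < p) :
    (∀ k : L.K, (χ : G → ℂ) (k : G) = multK L χ (Quotient.out O) *
      ∑ φ ∈ Finset.univ.filter (fun φ : IrrCharacter L.K => L.orb φ = O), (φ : L.K → ℂ) k) ∧
    (Cfsg.charDegree (χ : G → ℂ) : ℂ) = multK L χ (Quotient.out O) *
      ((L.orbCard O * Cfsg.charDegree ((Quotient.out O : IrrCharacter L.K) : L.K → ℂ) : ℕ) : ℂ) := by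
  set φ0 : IrrCharacter L.K := Quotient.out O
  have h0 : L.orb φ0 = O := Quotient.out_eq O
  have hcl : Cfsg.IsClassFunction L.K (fun k : L.K => (χ : G → ℂ) (k : G)) := fun a b => by
    simp only [Subgroup.coe_mul, InvMemClass.coe_inv]
    exact isClassFunction_of_isIrr χ.2 _ _
  have hexp : ∀ k : L.K, (χ : G → ℂ) (k : G) = ∑ φ, multK L χ φ * (φ : L.K → ℂ) k := by
    intro k
    have := congrFun (classFunction_expansion hcl) k
    rw [this, Finset.sum_apply]
    rfl
  choose M hM using fun φ => exists_multK L χ φ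
  choose d hd0 hd using fun φ : IrrCharacter L.K => exists_degree_pos φ.2
  have hzero : ∀ φ, L.orb φ ≠ O → multK L χ φ = (p : ℂ) * M φ := by
    intro φ hφ
    rw [← hM φ, Finset.sum_eq_zero, add_zero]
    intro l _
    rw [← L.cint_col]
    obtain ⟨q, hq⟩ := h
    by_contra hne
    exact hφ ((L.counting.2.2.2 χ (L.col (l, φ)) _ (fun hz => hne (by rw [hz, Int.cast_zero])) hq).trans q.2)
  have hnat : ∀ φ, ∃ m : ℕ, multK L χ φ = m := fun φ =>
    classInner_character_irr (isCharacter_restrict L.K (isCharacter_of_isIrr χ.2)) φ.2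
  choose m hm using hnat
  have hsum : ∑ φ, m φ * d φ = Cfsg.charDegree (χ : G → ℂ) := by
    have := hexp 1
    rw [OneMemClass.coe_one, ← Blocks.charDegree_cast] at this
    simp only [hm, hd] at this
    exact_mod_cast this.symm
  have hm0 : ∀ φ, L.orb φ ≠ O → m φ = 0 := by
    intro φ hφ
    have h1 := hzero φ hφ
    rw [hm] at h1
    have h2 : m φ = p * M φ := by exact_mod_cast h1
    by_contra hne
    have h3 : m φ * d φ ≤ Cfsg.charDegree (χ : G → ℂ) :=
      hsum ▸ Finset.single_le_sum (fun ψ _ => Nat.zero_le (m ψ * d ψ)) (Finset.mem_univ φ)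
    have h4 : p ≤ m φ := h2 ▸ Nat.le_mul_of_pos_right p (Nat.pos_of_ne_zero fun hz => hne (by simp [h2, hz]))
    have h5 : m φ ≤ m φ * d φ := Nat.le_mul_of_pos_right _ (hd0 φ)
    omega
  have hin : ∀ φ, L.orb φ = O → multK L χ φ = multK L χ φ0 := by
    intro φ hφ
    obtain ⟨n, hn⟩ := L.orb_eq_iff.1 (h0.trans hφ.symm)
    rw [hn, multK_phiBy]
  have hform : ∀ k : L.K, (χ : G → ℂ) (k : G) = multK L χ φ0 *
      ∑ φ ∈ Finset.univ.filter (fun φ : IrrCharacter L.K => L.orb φ = O), (φ : L.K → ℂ) k := by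
    intro k
    rw [hexp, Finset.mul_sum, ← Finset.sum_filter_add_sum_filter_not Finset.univ
      (fun φ : IrrCharacter L.K => L.orb φ = O), Finset.sum_eq_zero (s := Finset.univ.filter
        fun φ : IrrCharacter L.K => ¬ L.orb φ = O) (fun φ hφ => by
          rw [hm, hm0 φ (Finset.mem_filter.1 hφ).2, Nat.cast_zero, zero_mul]), add_zero]
    exact Finset.sum_congr rfl fun φ hφ => by rw [hin φ (Finset.mem_filter.1 hφ).2]
  refine ⟨hform, ?_⟩
  have h1 := hform 1
  rw [OneMemClass.coe_one, ← Blocks.charDegree_cast] at h1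
  rw [h1, Finset.sum_congr rfl (g := fun _ => ((Cfsg.charDegree (φ0 : L.K → ℂ) : ℕ) : ℂ)) fun φ hφ => ?_,
    Finset.sum_const, nsmul_eq_mul, Local.orbCard, Nat.card_eq_fintype_card, Fintype.card_subtype,
    Nat.cast_mul]
  obtain ⟨n, hn⟩ := L.orb_eq_iff.1 (h0.trans (Finset.mem_filter.1 hφ).2.symm)
  rw [hn]
  show (φ0 : L.K → ℂ) (L.autK n 1) = _
  rw [map_one, Cfsg.charDegree]
  simp [hd φ0]

end CfsgLib.BrauerOrderP
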