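import Cfsg.Agent.BrauerOrderP.Orbit

/-!
# Faithful characters of degree `p - 2`: the local structure

With a Sylow subgroup of order `p` that is not normal, a faithful irreducible character of degree
`p - 2` forces `C(P) = P × Z(G)` and `[N(P) : C(P)] = 2`.
-/

set_option autoImplicit false
set_option linter.style.haveILetI false
set_option linter.unusedSectionVars false

namespace CfsgLib.BrauerOrderP

open Cfsg CfsgLib.Characters CfsgLib.DefectOne
open scoped ComplexConjugate

universe u

variable {G : Type u} [Group G] {p : ℕ} [Fact p.Prime] [Fintype G] (L : Local p G)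

theorem central_of_scalar {χ : IrrCharacter G}
    (hfaith : ∀ g : G, (χ : G → ℂ) g = (χ : G → ℂ) 1 → g = 1) {g : G} {c : ℂ}
    (h : ∀ (n : ℕ) (ρ : Representation ℂ G (Fin n → ℂ)), ρ.character = (χ : G → ℂ) →
      ρ g = c • LinearMap.id) : g ∈ Subgroup.center G := by
  obtain ⟨n, ρ, -, hρ⟩ := χ.2
  have hg := h n ρ hρ
  rw [Subgroup.mem_center_iff]
  intro x
  refine inv_mul_eq_one.1 (hfaith _ ?_) |>.symm
  have h1 : ρ (x * g) = ρ (g * x) := by
    rw [map_mul, map_mul, hg]
    ext v
    simp [Module.End.mul_apply]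
  have h2 : ρ ((g * x)⁻¹ * (x * g)) = 1 := by
    rw [map_mul, h1, ← map_mul, inv_mul_cancel, map_one]
  rw [← hρ, Representation.character, h2, LinearMap.trace_one, Representation.char_one]

/-- The degree divisibility facts used below. -/
theorem orbCard_mul_eO (O : L.Orb) : L.orbCard O * L.eO O = e L := by
  have h1 := L.orbCard_mul O
  rw [← card_N L, ← mul_assoc] at h1
  exact Nat.eq_of_mul_eq_mul_right (mul_pos (Fact.out : p.Prime).pos Nat.card_pos) h1

theorem scalar_of_norm {χ : IrrCharacter G} {g : G}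
    (h : ‖(χ : G → ℂ) g‖ = (Cfsg.charDegree (χ : G → ℂ) : ℝ)) :
    ∃ c : ℂ, ∀ (n : ℕ) (ρ : Representation ℂ G (Fin n → ℂ)), ρ.character = (χ : G → ℂ) →
      ρ g = c • LinearMap.id := by
  refine ⟨(χ : G → ℂ) g / (χ : G → ℂ) 1, fun n ρ hρ => ?_⟩
  have hn : (χ : G → ℂ) 1 = (n : ℂ) := by
    rw [← hρ, Representation.char_one, Module.finrank_fin_fun]
  obtain ⟨d, hd, hd1⟩ := exists_degree_pos χ.2
  have hdn : d = n := by exact_mod_cast hd1.symm.trans hn
  subst hdn
  haveI : Nontrivial (Fin d → ℂ) := by
    haveI : Nonempty (Fin d) := ⟨⟨0, hd⟩⟩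
    infer_instance
  have hdeg : Cfsg.charDegree (χ : G → ℂ) = d := by
    simp [Cfsg.charDegree, hn]
  obtain ⟨c, hc, hch⟩ := exists_scalar_of_norm_char_eq ρ g (by
    rw [hρ, h, hdeg, Module.finrank_fin_fun])
  rw [hρ, Module.finrank_fin_fun] at hch
  rw [hc, hn, hch, mul_div_assoc, div_self (Nat.cast_ne_zero.2 hd.ne' : (d : ℂ) ≠ 0), mul_one]

/-- The local structure. -/
theorem subTwo_local (hp : 5 ≤ p) (hnn : ¬ (L.P : Subgroup G).Normal) (ζ : IrrCharacter G)
    (hfaith : ∀ g : G, (ζ : G → ℂ) g = (ζ : G → ℂ) 1 → g = 1)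
    (hdeg : Cfsg.charDegree (ζ : G → ℂ) = p - 2) :
    L.K = Subgroup.center G ∧ e L = 2 ∧
      ∃ φ0 : IrrCharacter L.K, (φ0 : L.K → ℂ) 1 = 1 ∧
        (∀ k : L.K, (ζ : G → ℂ) (k : G) = ((p - 2 : ℕ) : ℂ) * (φ0 : L.K → ℂ) k) ∧
        ∃ q : L.ColOver (L.orb φ0), L.cint ζ q.1 = 1 ∧
          ∀ q' : L.ColOver (L.orb φ0), q' ≠ q → L.cint ζ q'.1 = 0 := by
  classical
  haveI := L.finite_lam
  letI := Fintype.ofFinite L.Lam
  haveI := Fintype.ofFinite L.K
  haveI := L.finite_col
  have hpp : p.Prime := Fact.out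
  have hndvd : ¬ p ∣ Cfsg.charDegree (ζ : G → ℂ) := by
    rw [hdeg]
    intro h
    have := Nat.le_of_dvd (by omega) h
    omega
  obtain ⟨q, hq⟩ := L.exists_cint_ne_zero ζ hndvd
  set O := L.under q with hO
  have hin : ∃ q' : L.ColOver O, L.cint ζ q'.1 ≠ 0 := ⟨⟨q, rfl⟩, hq⟩
  haveI := Fintype.ofFinite (L.ColOver O)
  set φ0 : IrrCharacter L.K := Quotient.out O with hφ0
  have h0 : L.orb φ0 = O := Quotient.out_eq O
  obtain ⟨hform, hdegf⟩ := small_degree L hin (by omega)
  obtain ⟨M, hM⟩ := exists_multK L ζ φ0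
  obtain ⟨D, hD⟩ := classInner_character_irr
    (isCharacter_restrict L.K (isCharacter_of_isIrr ζ.2)) φ0.2
  have hD' : multK L ζ φ0 = D := hD
  set d0 := Cfsg.charDegree (φ0 : L.K → ℂ) with hd0
  have hdeg' : p - 2 = D * (L.orbCard O * d0) := by
    have h1 := hdegf
    rw [← hφ0, hD', hdeg] at h1
    exact_mod_cast h1
  have hcs : (∑ l : L.Lam, L.cvec ζ (l, φ0)) = ((∑ l : L.Lam, L.cint ζ (L.colLam O l).1 : ℤ) : ℂ) := by
    rw [Int.cast_sum]
    exact Finset.sum_congr rfl fun l _ => (L.cint_colLam O ζ l).symm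
  set S : ℤ := ∑ l : L.Lam, L.cint ζ (L.colLam O l).1 with hS
  have hDM : (D : ℤ) + S = p * M := by
    rw [hD', hcs] at hM
    exact_mod_cast hM
  have hval : ∀ (u : ↥(L.P : Subgroup G)), u ≠ 1 → (ζ : G → ℂ) (u : G) =
      -∑ φ ∈ Finset.univ.filter (fun φ : IrrCharacter L.K => L.orb φ = O),
        (φ : L.K → ℂ) 1 * ∑ l : L.Lam, L.cvec ζ (l, φ) * (l.1 u : ℂ) := by
    intro u hu
    have h1 := value_general L ζ hu 1
    rw [OneMemClass.coe_one, mul_one] at h1
    rw [h1]
    congr 1
    refine (Finset.sum_subset (Finset.subset_univ _) fun φ _ hφ => ?_).symm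
    refine mul_eq_zero_of_right _ (Finset.sum_eq_zero fun l _ => mul_eq_zero_of_left ?_ _)
    rw [← L.cint_col]
    by_contra hne
    exact hφ (Finset.mem_filter.2 ⟨Finset.mem_univ _, ((L.counting.2.2.2 ζ (L.col (l, φ)) _
      (fun hz => hne (by rw [hz, Int.cast_zero])) hq) : _)⟩)
  -- an element of `P` acting as a scalar would be central
  have hnoscalar : ∀ u : ↥(L.P : Subgroup G), u ≠ 1 →
      ‖(ζ : G → ℂ) (u : G)‖ ≠ ((p - 2 : ℕ) : ℝ) := by
    intro u hu hnorm
    obtain ⟨c, hc⟩ := scalar_of_norm (χ := ζ) (g := (u : G)) (by rw [hnorm, hdeg])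
    have hcen := central_of_scalar hfaith hc
    refine hnn ?_
    have hz : Subgroup.zpowers (u : G) = (L.P : Subgroup G) :=
      Subgroup.eq_of_le_of_card_ge (Subgroup.zpowers_le.2 u.2)
        (by rw [Nat.card_zpowers, L.orderOf_of_mem u.2 (fun h => hu (Subtype.ext h)), L.card_P])
    refine ⟨fun n hn g => ?_⟩
    have hnc : n ∈ Subgroup.center G := (Subgroup.zpowers_le.2 hcen) (hz.symm ▸ hn)
    rw [Subgroup.mem_center_iff.1 hnc g, mul_inv_cancel_right]
    exact hn
  have hteq : Fintype.card (L.ColOver O) * L.eO O = p - 1 := by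
    rw [← Nat.card_eq_fintype_card]; exact L.card_colOver_mul O
  have he0 := L.eO_pos O
  have horb : 0 < L.orbCard O := Nat.card_pos_iff.2 ⟨⟨⟨φ0, h0⟩⟩, inferInstance⟩
  have hd0pos : 0 < d0 := by
    obtain ⟨n, hn, hn1⟩ := exists_degree_pos φ0.2
    simp [hd0, Cfsg.charDegree, hn1, hn]
  have hDpos : 0 < D := Nat.pos_of_ne_zero fun h => by rw [h, zero_mul] at hdeg'; omega
  have hDle : D ≤ p - 2 := hdeg' ▸ Nat.le_mul_of_pos_right D (mul_pos horb hd0pos)
  obtain ⟨u0, hu0⟩ := exists_mem_ne_one L
  -- the cases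
  rcases L.rows O ζ hin with ⟨a, ha, hc⟩ | ⟨q₀, a, ha, hc⟩
  · exfalso
    have hSa : S = (p - 1 : ℕ) * a := by
      simp only [hS, hc, Finset.sum_const, Finset.card_univ, nsmul_eq_mul,
        ← Nat.card_eq_fintype_card, L.card_lam]
    rcases ha with r | r <;> subst r
    · -- the trivial character of `P` only
      have hD1 : D = 1 := by
        rcases Nat.lt_or_ge M 2 with hM2 | hM2
        · interval_cases M <;> push_cast [Nat.cast_sub (show 1 ≤ p by omega)] at hDM hSa ⊢ <;> omega
        · have : (2 : ℤ) * p ≤ p * M := by nlinarith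
          push_cast [Nat.cast_sub (show 1 ≤ p by omega)] at hDM hSa
          omega
      rw [hD1, one_mul] at hdeg'
      refine hnoscalar u0 hu0 ?_
      rw [hval u0 hu0, Finset.sum_congr rfl (g := fun _ => -(d0 : ℂ)) fun φ hφ => ?_,
        Finset.sum_const, ← Fintype.card_subtype, ← Nat.card_eq_fintype_card]
      · rw [show Nat.card {φ : IrrCharacter L.K // L.orb φ = O} = L.orbCard O from rfl,
          nsmul_eq_mul, mul_neg, neg_neg, ← Nat.cast_mul, ← hdeg', Complex.norm_natCast]
      · have hφO := (Finset.mem_filter.1 hφ).2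
        obtain ⟨n, hn⟩ := L.orb_eq_iff.1 (h0.trans hφO.symm)
        have h1 : ∀ l : L.Lam, L.cvec ζ (l, φ) = 1 := by
          intro l
          rw [← L.cint_col, show L.cint ζ (L.col (l, φ)) = 1 from
            hc ⟨L.col (l, φ), by rw [L.under_col, hφO]⟩, Int.cast_one]
        simp only [h1, one_mul]
        rw [sum_lam L hu0, mul_neg_one, hn]
        show -(φ0 : L.K → ℂ) (L.autK n 1) = _
        rw [map_one, hd0, Cfsg.charDegree]
        obtain ⟨m, hm, hm1⟩ := exists_degree_pos φ0.2
        simp [hm1]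
    · rw [hSa] at hDM
      rcases Nat.eq_zero_or_pos M with hM0 | hM0
      · subst hM0
        push_cast [Nat.cast_sub (show 1 ≤ p by omega)] at hDM
        omega
      · have : (p : ℤ) ≤ p * M := by nlinarith
        push_cast [Nat.cast_sub (show 1 ≤ p by omega)] at hDM
        omega
  · have hcu : L.IsUnitRow O ζ q₀ := by
      refine ⟨?_, fun q' hq' => by rw [hc, if_neg hq']⟩
      rw [hc, if_pos rfl]
      rcases ha with r | r <;> rw [r] <;> norm_num
    have hSu : S = (L.eO O : ℤ) * a := by
      rw [hS, L.sum_unitRow O ζ q₀ hcu, hc, if_pos rfl]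
    by_cases ht : Fintype.card (L.ColOver O) = 1
    · exfalso
      rw [ht, one_mul] at hteq
      haveI : Subsingleton (L.ColOver O) := Fintype.card_le_one_iff_subsingleton.1 ht.le
      rw [hSu, hteq] at hDM
      rcases ha with r | r <;> subst r
      · have hD1 : D = 1 := by
          rcases Nat.lt_or_ge M 2 with hM2 | hM2
          · interval_cases M <;> push_cast [Nat.cast_sub (show 1 ≤ p by omega)] at hDM ⊢ <;> omega
          · have : (2 : ℤ) * p ≤ p * M := by nlinarith
            push_cast [Nat.cast_sub (show 1 ≤ p by omega)] at hDM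
            omega
        rw [hD1, one_mul] at hdeg'
        refine hnoscalar u0 hu0 ?_
        rw [hval u0 hu0, Finset.sum_congr rfl (g := fun _ => -(d0 : ℂ)) fun φ hφ => ?_,
          Finset.sum_const, ← Fintype.card_subtype, ← Nat.card_eq_fintype_card]
        · rw [show Nat.card {φ : IrrCharacter L.K // L.orb φ = O} = L.orbCard O from rfl,
            nsmul_eq_mul, mul_neg, neg_neg, ← Nat.cast_mul, ← hdeg', Complex.norm_natCast]
        · have hφO := (Finset.mem_filter.1 hφ).2
          obtain ⟨n, hn⟩ := L.orb_eq_iff.1 (h0.trans hφO.symm)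
          have h1 : ∀ l : L.Lam, L.cvec ζ (l, φ) = 1 := by
            intro l
            rw [← L.cint_col, show L.cint ζ (L.col (l, φ)) = 1 by
              have := hc ⟨L.col (l, φ), by rw [L.under_col, hφO]⟩
              rw [this, if_pos (Subsingleton.elim _ _)], Int.cast_one]
          simp only [h1, one_mul]
          rw [sum_lam L hu0, mul_neg_one, hn]
          show -(φ0 : L.K → ℂ) (L.autK n 1) = _
          rw [map_one, hd0, Cfsg.charDegree]
          obtain ⟨m, hm, hm1⟩ := exists_degree_pos φ0.2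
          simp [hm1]
      · rcases Nat.eq_zero_or_pos M with hM0 | hM0
        · subst hM0
          push_cast [Nat.cast_sub (show 1 ≤ p by omega)] at hDM
          omega
        · have : (p : ℤ) ≤ p * M := by nlinarith
          push_cast [Nat.cast_sub (show 1 ≤ p by omega)] at hDM
          omega
    have he2 : 2 * L.eO O ≤ p - 1 := by
      have ht0 : 0 < Fintype.card (L.ColOver O) := Fintype.card_pos_iff.2 ⟨⟨q, rfl⟩⟩
      rw [← hteq]
      exact Nat.mul_le_mul_right _ (by omega)
    rcases ha with r | r <;> subst r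
    · have hM1 : M = 1 := by
        rcases Nat.lt_or_ge M 2 with hM2 | hM2
        · rcases Nat.eq_zero_or_pos M with hM0 | hM0
          · subst hM0; push_cast at hDM; omega
          · omega
        · exfalso
          have : (2 : ℤ) * p ≤ p * M := by nlinarith
          rw [hSu] at hDM
          omega
      subst hM1
      rw [hSu] at hDM
      have hDe : D = p - L.eO O := by omega
      have hr : L.orbCard O * d0 = 1 := by
        by_contra hne
        have h2 : 2 ≤ L.orbCard O * d0 := by
          have := mul_pos horb hd0pos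
          omega
        have h3 : D * 2 ≤ p - 2 := hdeg' ▸ Nat.mul_le_mul_left D h2
        omega
      rw [hr, mul_one] at hdeg'
      have horb1 : L.orbCard O = 1 := Nat.eq_one_of_mul_eq_one_right hr
      have hd01 : d0 = 1 := Nat.eq_one_of_mul_eq_one_left hr
      have heO : L.eO O = 2 := by omega
      have he : e L = 2 := by rw [← orbCard_mul_eO L O, horb1, heO]
      have hφ01 : (φ0 : L.K → ℂ) 1 = 1 := by
        obtain ⟨m, hm, hm1⟩ := exists_degree_pos φ0.2
        have : d0 = m := by simp [hd0, Cfsg.charDegree, hm1]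
        rw [hm1, ← this, hd01, Nat.cast_one]
      have hK : ∀ k : L.K, (ζ : G → ℂ) (k : G) = ((p - 2 : ℕ) : ℂ) * (φ0 : L.K → ℂ) k := by
        intro k
        rw [hform k, ← hφ0, hD', ← hdeg']
        congr 1
        rw [Finset.sum_eq_single φ0]
        · intro φ hφ hne
          have h2 := Nat.card_eq_one_iff_unique.1 horb1
          haveI := h2.1
          exact absurd (congrArg Subtype.val (Subsingleton.elim
            (⟨φ, (Finset.mem_filter.1 hφ).2⟩ : {φ : IrrCharacter L.K // L.orb φ = O}) ⟨φ0, h0⟩)) hne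
        · exact fun h => absurd (by simp [h0]) h
      refine ⟨le_antisymm (fun k hk => ?_) (fun z hz => ?_), he, φ0, hφ01, hK, ?_⟩
      · obtain ⟨f, hf⟩ := exists_hom_of_degree_one (isCharacter_of_isIrr φ0.2) hφ01
        have hnorm : ‖(φ0 : L.K → ℂ) ⟨k, hk⟩‖ = 1 := by
          haveI : Finite L.K := inferInstance
          rw [hf]
          refine Complex.norm_eq_one_of_pow_eq_one (n := orderOf (⟨k, hk⟩ : L.K)) ?_ (orderOf_pos _).ne'
          rw [← Units.val_pow_eq_pow_val, ← map_pow, pow_orderOf_eq_one, map_one, Units.val_one]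
        obtain ⟨c, hc'⟩ := scalar_of_norm (χ := ζ) (g := k) (by
          rw [hdeg, hK ⟨k, hk⟩, norm_mul, Complex.norm_natCast, hnorm, mul_one])
        exact central_of_scalar hfaith hc'
      · refine L.mem_K z (Subgroup.center_le_centralizer _ hz) fun hd => hnn ?_
        have hz' : p ∣ Nat.card (Subgroup.center G) :=
          hd.trans (Subgroup.orderOf_dvd_natCard _ hz)
        obtain ⟨w, hw⟩ := exists_prime_orderOf_dvd_card' (G := Subgroup.center G) p hz'
        have hwP : ∀ g : G, g ∈ Subgroup.zpowers (w : G) ↔ g ∈ (L.P : Subgroup G) := by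
          intro g
          have hwz : IsPGroup p (Subgroup.zpowers (w : G)) :=
            IsPGroup.of_card (n := 1) (by rw [Nat.card_zpowers, Subgroup.orderOf_coe, hw, pow_one])
          haveI : (Subgroup.zpowers (w : G)).Normal := ⟨fun n hn g => by
            have : n ∈ Subgroup.center G := (Subgroup.zpowers_le.2 w.2) hn
            rw [Subgroup.mem_center_iff.1 this g, mul_inv_cancel_right]; exact hn⟩
          have hle := (L.P).is_maximal' (hwz.to_sup_of_normal_left L.P.isPGroup') le_sup_right
          have : Subgroup.zpowers (w : G) = (L.P : Subgroup G) :=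
            Subgroup.eq_of_le_of_card_ge (le_sup_left.trans hle.le)
              (by rw [Nat.card_zpowers, Subgroup.orderOf_coe, hw, L.card_P])
          rw [this]
        refine ⟨fun n hn g => ?_⟩
        have hnc : n ∈ Subgroup.center G := (Subgroup.zpowers_le.2 w.2) ((hwP n).2 hn)
        rw [Subgroup.mem_center_iff.1 hnc g, mul_inv_cancel_right]
        exact hn
      · rw [h0]
        exact ⟨q₀, by rw [hc, if_pos rfl], fun q' hq' => by rw [hc, if_neg hq']⟩
    · exfalso
      rw [hSu] at hDM
      rcases Nat.eq_zero_or_pos M with hM0 | hM0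
      · subst hM0
        have hDe : D = L.eO O := by push_cast at hDM; omega
        have hdv1 : L.eO O ∣ p - 1 := ⟨_, by rw [mul_comm]; exact hteq.symm⟩
        have hdv2 : L.eO O ∣ p - 2 := ⟨_, hDe ▸ hdeg'⟩
        have heO : L.eO O = 1 := Nat.eq_one_of_dvd_one (by
          have := Nat.dvd_sub hdv1 hdv2
          rwa [show p - 1 - (p - 2) = 1 by omega] at this)
        have horb1 : L.orbCard O = 1 := by
          have h1 : L.orbCard O ∣ p - 1 := by
            refine dvd_trans ⟨L.eO O, rfl⟩ ((orbCard_mul_eO L O).symm ▸ e_dvd L)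
          have h2 : L.orbCard O ∣ p - 2 := by
            rw [hdeg', hDe, heO, one_mul]; exact Dvd.intro _ rfl
          refine Nat.eq_one_of_dvd_one ?_
          have := Nat.dvd_sub h1 h2
          rwa [show p - 1 - (p - 2) = 1 by omega] at this
        rw [hDe, heO, horb1, one_mul, one_mul] at hdeg'
        have hfib : (Finset.univ.filter fun l : L.Lam => L.colLam O l = q₀).card = 1 := by
          have h1 := L.sum_unitRow O ζ q₀ hcu
          rw [heO, hc, if_pos rfl] at h1
          have h2 : ∑ l : L.Lam, L.cint ζ (L.colLam O l).1 =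
              -((Finset.univ.filter fun l : L.Lam => L.colLam O l = q₀).card : ℤ) := by
            rw [Finset.card_filter, Nat.cast_sum, ← Finset.sum_neg_distrib]
            refine Finset.sum_congr rfl fun l _ => ?_
            rw [hc]; split_ifs <;> simp
          omega
        obtain ⟨l0, hl0⟩ := Finset.card_eq_one.1 hfib
        refine hnoscalar u0 hu0 ?_
        rw [hval u0 hu0, Finset.sum_eq_single φ0]
        · rw [Finset.sum_eq_single l0]
          · have h2 : (l0 : L.Lam) ∈ Finset.univ.filter fun l : L.Lam => L.colLam O l = q₀ :=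
              hl0.symm ▸ Finset.mem_singleton_self l0
            rw [← L.cint_colLam O ζ l0, (Finset.mem_filter.1 h2).2, hc, if_pos rfl]
            obtain ⟨m, hm, hm1⟩ := exists_degree_pos φ0.2
            have hmd : m = p - 2 := by
              rw [hdeg', hd0, Cfsg.charDegree, hm1]; simp
            rw [hm1, hmd]
            push_cast
            rw [neg_one_mul, mul_neg, neg_neg, norm_mul, Complex.norm_natCast,
              Complex.norm_eq_one_of_pow_eq_one (n := p) ?_ hpp.ne_zero, mul_one]
            rw [← Units.val_pow_eq_pow_val, ← map_pow,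
              show (u0 : ↥(L.P : Subgroup G)) ^ p = 1 from Subtype.ext (L.pow_p u0.2), map_one,
              Units.val_one]
          · intro l _ hl
            refine mul_eq_zero_of_left ?_ _
            rw [← L.cint_colLam O ζ l, hc, if_neg fun he => hl ?_, Int.cast_zero]
            exact Finset.mem_singleton.1 (hl0 ▸ Finset.mem_filter.2 ⟨Finset.mem_univ _, he⟩)
          · simp
        · intro φ hφ hne
          have h2 := Nat.card_eq_one_iff_unique.1 horb1
          haveI := h2.1
          exact absurd (congrArg Subtype.val (Subsingleton.elim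
            (⟨φ, (Finset.mem_filter.1 hφ).2⟩ : {φ : IrrCharacter L.K // L.orb φ = O}) ⟨φ0, h0⟩)) hne
        · exact fun h => absurd (by simp [h0]) h
      · have : (p : ℤ) ≤ p * M := by nlinarith
        omega

end CfsgLib.BrauerOrderP
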