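import Cfsg.Agent.BrauerOrderP.Structure
import Cfsg.Agent.BrauerOrderP.SubTwoStart
import Cfsg.Agent.Blocks.PrincipalSimple
import Cfsg.Agent.LocalEven50.Basic

/-!
# Perfect groups with a Sylow subgroup of order `p` and no normal `p'`-subgroup

Faithfulness, the inertial index, the collapse of the complement and vanishing at elements whose
order meets the full part of a degree.
-/

set_option autoImplicit false
set_option linter.style.haveILetI false
set_option linter.unusedSectionVars false

namespace CfsgLib.BrauerOrderP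

open Cfsg CfsgLib.Characters CfsgLib.DefectOne
open scoped ComplexConjugate

universe u

variable {G : Type u} [Group G] {p : ℕ} [Fact p.Prime] [Fintype G] (L : Local p G)

/-- A normal subgroup meeting `P` trivially is inside the `p'`-core. -/
theorem eq_bot_of_inf (hcore : Cfsg.pPrimeCore p G = ⊥) {M : Subgroup G} (hM : M.Normal)
    {u : G} (hu : u ∈ (L.P : Subgroup G)) (hu1 : u ≠ 1) (hnot : u ∉ M) : M = ⊥ := by
  haveI := hM
  have hpp : p.Prime := Fact.out
  refine eq_bot_iff.2 (hcore ▸ LocalEven50.le_pPrimeCore hM ?_)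
  refine (hpp.coprime_iff_not_dvd.2 fun hd => hnot ?_).symm
  obtain ⟨w, hw⟩ := exists_prime_orderOf_dvd_card' (G := M) p hd
  obtain ⟨Q, hQ⟩ := (IsPGroup.of_card (n := 1)
    (by rw [Nat.card_zpowers, Subgroup.orderOf_coe, hw, pow_one]) :
      IsPGroup p (Subgroup.zpowers (w : G))).exists_le_sylow
  obtain ⟨c, hc⟩ := MulAction.exists_smul_eq G Q L.P
  have hwP : c * (w : G) * c⁻¹ ∈ (L.P : Subgroup G) := by
    rw [← hc, Sylow.coe_subgroup_smul, Subgroup.mem_pointwise_smul_iff_inv_smul_mem]
    simpa [MulAut.smul_def, mul_assoc] using hQ (Subgroup.mem_zpowers (w : G))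
  have hz : Subgroup.zpowers (c * (w : G) * c⁻¹) = (L.P : Subgroup G) :=
    Subgroup.eq_of_le_of_card_ge (Subgroup.zpowers_le.2 hwP) (by
      rw [Nat.card_zpowers, L.card_P, show c * (w : G) * c⁻¹ = MulAut.conj c (w : G) from rfl,
        MulEquiv.orderOf_eq, Subgroup.orderOf_coe, hw])
  exact Subgroup.zpowers_le.2 (hM.conj_mem _ w.2 c) (hz.symm ▸ hu)

/-- A character not constant at `u` is faithful. -/
theorem faithful_of_apply_ne (hcore : Cfsg.pPrimeCore p G = ⊥) (χ : IrrCharacter G) {u : G}
    (hu : u ∈ (L.P : Subgroup G)) (hne : (χ : G → ℂ) u ≠ (χ : G → ℂ) 1) :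
    ∀ g : G, (χ : G → ℂ) g = (χ : G → ℂ) 1 → g = 1 := by
  obtain ⟨n, ρ, -, hρ⟩ := χ.2
  have hu1 : u ≠ 1 := fun h => hne (by rw [h])
  have hker : ∀ g : G, g ∈ MonoidHom.ker ρ ↔ (χ : G → ℂ) g = (χ : G → ℂ) 1 := by
    intro g
    rw [MonoidHom.mem_ker, Module.End.one_eq_id, ← char_eq_finrank_iff ρ g, ← hρ,
      Representation.char_one]
  have hbot := eq_bot_of_inf L hcore (MonoidHom.normal_ker ρ) hu hu1 fun h => hne ((hker u).1 h)
  intro g hg
  have := (hker g).2 hg
  rwa [hbot, Subgroup.mem_bot] at this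

/-- Perfect groups have inertial index at least two. -/
theorem two_le_e (hperf : commutator G = ⊤) : 2 ≤ e L := by
  by_contra h
  have h1 : e L = 1 := by have := e_pos L; omega
  have hNC : L.N ≤ Subgroup.centralizer ((L.P : Subgroup G) : Set G) := by
    refine (Subgroup.eq_of_le_of_card_ge (Subgroup.centralizer_le_normalizer _) ?_).ge
    rw [← card_N L, h1, one_mul, L.card_centralizer]
  have hc := MonoidHom.ker_transferSylow_isComplement' L.P hNC
  have hker : (MonoidHom.transferSylow L.P hNC).ker = ⊤ := by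
    haveI := L.isMulCommutative
    rw [eq_top_iff, ← hperf, commutator_def, Subgroup.commutator_le]
    intro a _ b _
    rw [MonoidHom.mem_ker, map_commutatorElement, commutatorElement_eq_one_iff_commute]
    exact mul_comm' _ _
  rw [hker] at hc
  have h2 := hc.card_mul_card
  rw [Subgroup.card_top, L.card_P] at h2
  have h3 : (p : ℕ) = 1 := by
    have hpos := Nat.card_pos (α := G)
    exact Nat.eq_of_mul_eq_mul_left hpos (h2.trans (mul_one _).symm)
  exact (Fact.out : p.Prime).ne_one h3

/-- The complement is trivial when some faithful character has no fixed vector for `P`. -/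
theorem K_eq_bot [Fintype L.Lam] (hcore : Cfsg.pPrimeCore p G = ⊥) {χ : IrrCharacter G}
    (hB : InB L χ) {u : G} (hu : u ∈ (L.P : Subgroup G))
    (hne : (χ : G → ℂ) u ≠ (χ : G → ℂ) 1)
    (h0 : (χ : G → ℂ) 1 + (∑ l, coef L χ l : ℤ) = 0) : L.K = ⊥ := by
  rw [eq_bot_iff]
  intro k hk
  exact Subgroup.mem_bot.2 (faithful_of_apply_ne L hcore χ hu hne k
    (apply_K_of_fixed_zero L hB h0 ⟨k, hk⟩))

/-- A linear character of a perfect group is trivial. -/
theorem eq_one_of_degree_one (hperf : commutator G = ⊤) {χ : IrrCharacter G}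
    (h : Cfsg.charDegree (χ : G → ℂ) = 1) : (χ : G → ℂ) = fun _ => 1 := by
  obtain ⟨f, hf⟩ := exists_hom_of_degree_one (isCharacter_of_isIrr χ.2)
    (by rw [← Blocks.charDegree_cast, h, Nat.cast_one])
  rw [hf]
  funext g
  have : g ∈ MonoidHom.ker f := Abelianization.commutator_subset_ker f (hperf ▸ Subgroup.mem_top g)
  rw [MonoidHom.mem_ker.1 this, Units.val_one]

/-- The group order when `P` is self-centralizing. -/
theorem card_eq_of_K_bot (hK : L.K = ⊥) :
    Nat.card L.N = p * e L ∧ Nat.card G = p * e L * Nat.card (Sylow p G) := by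
  have h1 := card_N L
  rw [hK, Subgroup.card_bot, mul_one, mul_comm] at h1
  refine ⟨h1.symm, ?_⟩
  have h3 : Nat.card (Sylow p G) * Nat.card L.N = Nat.card G := by
    rw [L.P.card_eq_index_normalizer]; exact Subgroup.index_mul_card _
  rw [← h3, ← h1, mul_comm]

/-- The centralizer of a non-trivial element of a self-centralizing `P`. -/
theorem centralizer_eq_P (hK : L.K = ⊥) {u : G} (hu : u ∈ (L.P : Subgroup G)) (hu1 : u ≠ 1) :
    Subgroup.centralizer ({u} : Set G) = (L.P : Subgroup G) := by
  refine (Subgroup.eq_of_le_of_card_ge ?_ ?_).symm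
  · rw [L.centralizer_singleton hu hu1]; exact L.P_le_centralizer
  · rw [L.centralizer_singleton hu hu1, L.card_centralizer, hK, Subgroup.card_bot, mul_one, L.card_P]

/-- Vanishing at elements of order divisible by `r` when the degree carries the full `r`-part. -/
theorem eq_zero_of_full_part {r : ℕ} (hr : r.Prime) (χ : IrrCharacter G)
    (h : ¬ r ∣ Nat.card G / Cfsg.charDegree (χ : G → ℂ)) {g : G} (hg : r ∣ orderOf g) :
    (χ : G → ℂ) g = 0 := by
  haveI : Fact r.Prime := ⟨hr⟩
  obtain ⟨M, hM⟩ := Blocks.exists_isPModular r hr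
  haveI := Blocks.IsPModular.isPrime hM
  exact Blocks.eq_zero_of_singular_of_defect_zero hM χ h hg

end CfsgLib.BrauerOrderP
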