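import Cfsg.Agent.BrauerOrderP.Values
import Cfsg.Agent.ClassPairs.Basic
import Cfsg.Agent.SquareRoots.Basic

/-!
# The principal block: rows, the relation, and the product formula

The rows of sign `1` and `-1`, the exceptional family with its common sign and degree, the formula
for the pairs of conjugates with product `u`, and the bound from the count of involutions.
-/

set_option autoImplicit false
set_option linter.style.haveILetI false
set_option linter.unusedSectionVars false

namespace CfsgLib.BrauerOrderP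

open Cfsg CfsgLib.Characters CfsgLib.DefectOne
open scoped ComplexConjugate

universe u

variable {G : Type u} [Group G] {p : ℕ} [Fact p.Prime] [Fintype G] (L : Local p G)

open Classical in
/-- The constant rows of sign `a`. -/
noncomputable def rowsOf (a : ℤ) : Finset (IrrCharacter G) :=
  Finset.univ.filter fun χ => IsConst L χ a

variable {L}

theorem mem_rowsOf {a : ℤ} {χ : IrrCharacter G} : χ ∈ rowsOf L a ↔ IsConst L χ a := by
  simp [rowsOf]

theorem IsConst.eq_of {χ : IrrCharacter G} {a b : ℤ} (h : IsConst L χ a) (h' : IsConst L χ b) :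
    a = b := by
  obtain ⟨q⟩ := nonempty_cols L
  exact (h.2 q).symm.trans (h'.2 q)

theorem disjoint_rowsOf : Disjoint (rowsOf L 1) (rowsOf L (-1)) := by
  rw [Finset.disjoint_left]
  intro χ h h'
  exact absurd ((mem_rowsOf.1 h).eq_of (mem_rowsOf.1 h')) (by norm_num)

/-- The principal block when there are at least two exceptional characters. -/
structure Exceptional (L : Local p G) where
  /-- The exceptional character of a column. -/
  f : L.ColOver (O0 L) → IrrCharacter G
  /-- The common sign. -/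
  a : ℤ
  /-- The common degree. -/
  y : ℕ
  ha : a = 1 ∨ a = -1
  unit : ∀ q, IsUnit' L (f q) q a
  deg : ∀ q, Cfsg.charDegree (f q : G → ℂ) = y
  inj : Function.Injective f
  regular : ∀ q q' (g : G), ¬ p ∣ orderOf g → (f q : G → ℂ) g = (f q' : G → ℂ) g
  cover : ∀ χ, InB L χ → IsConst L χ 1 ∨ IsConst L χ (-1) ∨ ∃ q, χ = f q
  count : (rowsOf L 1).card + (rowsOf L (-1)).card = e L
  rel : ∀ q (g : G), ¬ p ∣ orderOf g → ∑ χ ∈ rowsOf L 1, (χ : G → ℂ) g -
    ∑ χ ∈ rowsOf L (-1), (χ : G → ℂ) g + (a : ℂ) * (f q : G → ℂ) g = 0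

variable (L)

theorem not_unit_of_const {χ : IrrCharacter G} {a b : ℤ} {q : L.ColOver (O0 L)}
    (ht : 1 < Nat.card (L.ColOver (O0 L))) (h : IsConst L χ a) (h' : IsUnit' L χ q b) : False := by
  classical
  haveI := L.finite_col
  haveI := Fintype.ofFinite (L.ColOver (O0 L))
  rw [Nat.card_eq_fintype_card] at ht
  obtain ⟨q', hq'⟩ := Fintype.exists_ne_of_one_lt_card ht q
  have h1 := h'.2.2 q' hq'
  rw [h.2] at h1
  rcases h.1 with r | r <;> omega

theorem exists_exceptional (ht : 1 < Nat.card (L.ColOver (O0 L))) : Nonempty (Exceptional L) := by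
  classical
  haveI := L.finite_col
  haveI := Fintype.ofFinite (L.ColOver (O0 L))
  have ht' : 1 < Fintype.card (L.ColOver (O0 L)) := by rwa [← Nat.card_eq_fintype_card]
  have hex : ∀ q : L.ColOver (O0 L), ∃ χ a, IsUnit' L χ q a ∧
      ∀ χ', L.IsUnitRow (O0 L) χ' q → χ' = χ := by
    intro q
    obtain ⟨χ, hχ⟩ := Finset.card_eq_one.1 (L.card_unitRow (O0 L) ht' q)
    have hu : L.IsUnitRow (O0 L) χ q :=
      (Finset.mem_filter.1 (hχ.symm ▸ Finset.mem_singleton_self χ :
        χ ∈ Finset.univ.filter fun χ : IrrCharacter G => L.IsUnitRow (O0 L) χ q)).2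
    rcases isConst_or_isUnit L ⟨q, hu.1⟩ with ⟨a, ha⟩ | ⟨q₀, a, ha⟩
    · obtain ⟨q', hq'⟩ := Fintype.exists_ne_of_one_lt_card ht' q
      have := hu.2 q' hq'
      rw [ha.2] at this
      rcases ha.1 with r | r <;> omega
    · obtain rfl : q = q₀ := by
        by_contra hne
        exact hu.1 (ha.2.2 q hne)
      refine ⟨χ, a, ha, fun χ' hχ' => ?_⟩
      exact Finset.mem_singleton.1 (hχ ▸ Finset.mem_filter.2 ⟨Finset.mem_univ _, hχ'⟩)
  choose f av hf huniq using hex
  have hinj : Function.Injective f := fun q q' h => by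
    by_contra hne
    have h1 := (hf q).2.1
    rw [h, (hf q').2.2 q hne] at h1
    rcases (hf q).1 with r | r <;> omega
  have hcover : ∀ χ, InB L χ → IsConst L χ 1 ∨ IsConst L χ (-1) ∨ ∃ q, χ = f q := by
    intro χ hχ
    rcases isConst_or_isUnit L hχ with ⟨a, ha⟩ | ⟨q, a, ha⟩
    · rcases ha.1 with r | r <;> subst r
      · exact Or.inl ha
      · exact Or.inr (Or.inl ha)
    · refine Or.inr (Or.inr ⟨q, huniq q χ ⟨?_, ha.2.2⟩⟩)
      rw [ha.2.1]
      rcases ha.1 with r | r <;> rw [r] <;> norm_num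
  have hset : (Finset.univ.filter fun χ : IrrCharacter G => InB L χ) =
      (rowsOf L 1 ∪ rowsOf L (-1)) ∪ Finset.univ.image f := by
    ext χ
    simp only [Finset.mem_filter, Finset.mem_univ, true_and, Finset.mem_union, mem_rowsOf,
      Finset.mem_image]
    refine ⟨fun h => ?_, ?_⟩
    · rcases hcover χ h with h1 | h1 | ⟨q, rfl⟩
      · exact Or.inl (Or.inl h1)
      · exact Or.inl (Or.inr h1)
      · exact Or.inr ⟨q, rfl⟩
    · rintro ((h | h) | ⟨q, rfl⟩)
      · exact h.inB
      · exact h.inB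
      · exact (hf q).inB
  have hdisj : Disjoint (rowsOf L 1 ∪ rowsOf L (-1)) (Finset.univ.image f) := by
    rw [Finset.disjoint_left]
    intro χ h h'
    obtain ⟨q, -, rfl⟩ := Finset.mem_image.1 h'
    rcases Finset.mem_union.1 h with h | h
    · exact not_unit_of_const L ht (mem_rowsOf.1 h) (hf q)
    · exact not_unit_of_const L ht (mem_rowsOf.1 h) (hf q)
  have hcount : (rowsOf L 1).card + (rowsOf L (-1)).card = e L := by
    have h1 := L.counting.2.2.1 (O0 L)
    rw [Nat.card_eq_fintype_card, Fintype.card_subtype] at h1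
    have h2 : (Finset.univ.filter fun χ : IrrCharacter G => InB L χ).card =
        e L + Nat.card (L.ColOver (O0 L)) := h1
    rw [hset, Finset.card_union_of_disjoint hdisj, Finset.card_union_of_disjoint disjoint_rowsOf,
      Finset.card_image_of_injective _ hinj, Finset.card_univ, Nat.card_eq_fintype_card] at h2
    omega
  have hrel : ∀ q (g : G), ¬ p ∣ orderOf g → ∑ χ ∈ rowsOf L 1, (χ : G → ℂ) g -
      ∑ χ ∈ rowsOf L (-1), (χ : G → ℂ) g + (av q : ℂ) * (f q : G → ℂ) g = 0 := by
    intro q g hg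
    rw [← L.sum_cint_mul_regular q.1 hg, ← Finset.sum_subset (Finset.subset_univ
      (Finset.univ.filter fun χ : IrrCharacter G => InB L χ)) fun χ _ hχ => ?_, hset,
      Finset.sum_union hdisj, Finset.sum_union disjoint_rowsOf,
      Finset.sum_image fun a _ b _ h => hinj h, Finset.sum_eq_single (f := fun q' =>
        (L.cint (f q') q.1 : ℂ) * (f q' : G → ℂ) g) q (fun q' _ hq' => by
        rw [(hf q').2.2 q (Ne.symm hq'), Int.cast_zero, zero_mul]) (by simp), (hf q).2.1,
      Finset.sum_congr rfl (s₁ := rowsOf L 1) (s₂ := rowsOf L 1)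
        (f := fun χ : IrrCharacter G => (L.cint χ q.1 : ℂ) * (χ : G → ℂ) g)
        (g := fun χ : IrrCharacter G => (χ : G → ℂ) g)
        (fun χ hχ => by rw [(mem_rowsOf.1 hχ).2, Int.cast_one, one_mul]),
      Finset.sum_congr rfl (s₁ := rowsOf L (-1)) (s₂ := rowsOf L (-1))
        (f := fun χ : IrrCharacter G => (L.cint χ q.1 : ℂ) * (χ : G → ℂ) g)
        (g := fun χ : IrrCharacter G => -(χ : G → ℂ) g)
        (fun χ hχ => by rw [(mem_rowsOf.1 hχ).2, Int.cast_neg, Int.cast_one, neg_one_mul]),
      Finset.sum_neg_distrib]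
    · ring
    · simp only [Finset.mem_filter, Finset.mem_univ, true_and] at hχ
      have : L.cint χ q.1 = 0 := by
        by_contra h
        exact hχ ⟨q, h⟩
      rw [this, Int.cast_zero, zero_mul]
  obtain ⟨q₀⟩ := nonempty_cols L
  have hreg1 : ¬ p ∣ orderOf (1 : G) := by
    rw [orderOf_one, Nat.dvd_one]; exact (Fact.out : p.Prime).ne_one
  have hsign : ∀ q, av q = av q₀ ∧
      Cfsg.charDegree (f q : G → ℂ) = Cfsg.charDegree (f q₀ : G → ℂ) := by
    intro q
    have h1 := (hrel q 1 hreg1).trans (hrel q₀ 1 hreg1).symm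
    rw [← Blocks.charDegree_cast (f q), ← Blocks.charDegree_cast (f q₀)] at h1
    have h3 : av q * (Cfsg.charDegree (f q : G → ℂ) : ℤ) =
        av q₀ * (Cfsg.charDegree (f q₀ : G → ℂ) : ℤ) := by
      have h4 := add_left_cancel h1
      exact_mod_cast h4
    have hp1 := Nat.pos_of_ne_zero (Blocks.charDegree_ne_zero (f q))
    have hp2 := Nat.pos_of_ne_zero (Blocks.charDegree_ne_zero (f q₀))
    rcases (hf q).1 with r | r <;> rcases (hf q₀).1 with r' | r' <;> rw [r, r'] at h3 ⊢ <;>
      constructor <;> omega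
  refine ⟨⟨f, av q₀, Cfsg.charDegree (f q₀ : G → ℂ), (hf q₀).1,
    fun q => (hsign q).1 ▸ hf q, fun q => (hsign q).2, hinj, ?_, hcover, hcount,
    fun q g hg => (hsign q).1 ▸ hrel q g hg⟩⟩
  intro q q' g hg
  have h1 := (hrel q g hg).trans (hrel q' g hg).symm
  rw [(hsign q).1, (hsign q').1] at h1
  refine mul_left_cancel₀ ?_ (add_left_cancel h1)
  rcases (hf q₀).1 with r | r <;> rw [r] <;> norm_num

/-- For one column all rows are constant. -/
theorem const_of_one_col (ht : Nat.card (L.ColOver (O0 L)) = 1) :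
    (∀ χ, InB L χ → IsConst L χ 1 ∨ IsConst L χ (-1)) ∧
      (rowsOf L 1).card + (rowsOf L (-1)).card = p ∧
      ∀ g : G, ¬ p ∣ orderOf g →
        ∑ χ ∈ rowsOf L 1, (χ : G → ℂ) g = ∑ χ ∈ rowsOf L (-1), (χ : G → ℂ) g := by
  classical
  obtain ⟨hsub, hne⟩ := Nat.card_eq_one_iff_unique.1 ht
  obtain ⟨q⟩ := hne
  have hcover : ∀ χ, InB L χ → IsConst L χ 1 ∨ IsConst L χ (-1) := by
    intro χ hχ
    rcases isConst_or_isUnit L hχ with ⟨a, ha⟩ | ⟨q₀, a, ha⟩
    · rcases ha.1 with r | r <;> subst r <;> [exact Or.inl ha; exact Or.inr ha]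
    · have : IsConst L χ a := ⟨ha.1, fun q' => by rw [Subsingleton.elim q' q₀, ha.2.1]⟩
      rcases ha.1 with r | r <;> subst r <;> [exact Or.inl this; exact Or.inr this]
  have hset : (Finset.univ.filter fun χ : IrrCharacter G => InB L χ) =
      rowsOf L 1 ∪ rowsOf L (-1) := by
    ext χ
    simp only [Finset.mem_filter, Finset.mem_univ, true_and, Finset.mem_union, mem_rowsOf]
    refine ⟨hcover χ, ?_⟩
    rintro (h | h) <;> exact h.inB
  refine ⟨hcover, ?_, fun g hg => ?_⟩
  · have h1 := L.counting.2.2.1 (O0 L)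
    rw [Nat.card_eq_fintype_card, Fintype.card_subtype] at h1
    have h2 : (Finset.univ.filter fun χ : IrrCharacter G => InB L χ).card =
        e L + Nat.card (L.ColOver (O0 L)) := h1
    have h3 := card_cols_mul L
    have h4 := (Fact.out : p.Prime).two_le
    rw [hset, Finset.card_union_of_disjoint disjoint_rowsOf, ht] at h2
    rw [ht, one_mul] at h3
    omega
  · have h := L.sum_cint_mul_regular q.1 hg
    rw [← Finset.sum_subset (Finset.subset_univ
      (Finset.univ.filter fun χ : IrrCharacter G => InB L χ)) fun χ _ hχ => ?_, hset,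
      Finset.sum_union disjoint_rowsOf,
      Finset.sum_congr rfl (s₁ := rowsOf L 1) (s₂ := rowsOf L 1)
        (f := fun χ : IrrCharacter G => (L.cint χ q.1 : ℂ) * (χ : G → ℂ) g)
        (g := fun χ : IrrCharacter G => (χ : G → ℂ) g)
        (fun χ hχ => by rw [(mem_rowsOf.1 hχ).2, Int.cast_one, one_mul]),
      Finset.sum_congr rfl (s₁ := rowsOf L (-1)) (s₂ := rowsOf L (-1))
        (f := fun χ : IrrCharacter G => (L.cint χ q.1 : ℂ) * (χ : G → ℂ) g)
        (g := fun χ : IrrCharacter G => -(χ : G → ℂ) g)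
        (fun χ hχ => by rw [(mem_rowsOf.1 hχ).2, Int.cast_neg, Int.cast_one, neg_one_mul]),
      Finset.sum_neg_distrib] at h
    · linear_combination h
    · simp only [Finset.mem_filter, Finset.mem_univ, true_and] at hχ
      have : L.cint χ q.1 = 0 := by
        by_contra h0
        exact hχ ⟨q, h0⟩
      rw [this, Int.cast_zero, zero_mul]

variable {L}

/-- The sum over all irreducible characters against the conjugate value at `u`. -/
theorem Exceptional.sum_conj_value (D : Exceptional L) (hK : L.K = ⊥) [Fintype (L.ColOver (O0 L))]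
    (q : L.ColOver (O0 L)) {u : ↥(L.P : Subgroup G)} (hu : u ≠ 1) (F : IrrCharacter G → ℂ)
    (hF : ∀ q', F (D.f q') = F (D.f q)) :
    ∑ χ : IrrCharacter G, conj ((χ : G → ℂ) (u : G)) * F χ =
      ∑ χ ∈ rowsOf L 1, F χ - ∑ χ ∈ rowsOf L (-1), F χ + (D.a : ℂ) * F (D.f q) := by
  classical
  haveI := L.finite_lam
  letI := Fintype.ofFinite L.Lam
  have ht : ∀ (χ : IrrCharacter G) (b : ℤ) (q' : L.ColOver (O0 L)), IsConst L χ b → χ ≠ D.f q' := by
    rintro χ b q' hb rfl
    by_cases h1 : 1 < Nat.card (L.ColOver (O0 L))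
    · exact not_unit_of_const L h1 hb (D.unit q')
    · haveI : Subsingleton (L.ColOver (O0 L)) := by
        rw [Nat.card_eq_fintype_card, not_lt] at h1
        exact Fintype.card_le_one_iff_subsingleton.1 h1
      have h2 := D.count
      have h3 := L.counting.2.2.1 (O0 L)
      rw [Nat.card_eq_fintype_card, Fintype.card_subtype] at h3
      have h4 : (Finset.univ.filter fun χ : IrrCharacter G => InB L χ) ⊆
          rowsOf L 1 ∪ rowsOf L (-1) := by
        intro χ hχ
        rw [Finset.mem_union, mem_rowsOf, mem_rowsOf]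
        rcases D.cover χ (Finset.mem_filter.1 hχ).2 with h | h | ⟨q'', rfl⟩
        · exact Or.inl h
        · exact Or.inr h
        · rw [Subsingleton.elim q'' q']
          rcases hb.1 with r | r <;> subst r <;> [exact Or.inl hb; exact Or.inr hb]
      have h5 := (Finset.card_le_card h4).trans (Finset.card_union_le _ _)
      have h6 : (Finset.univ.filter fun χ : IrrCharacter G => InB L χ).card =
          e L + Nat.card (L.ColOver (O0 L)) := h3
      have h7 : 0 < Nat.card (L.ColOver (O0 L)) := Nat.card_pos_iff.2 ⟨nonempty_cols L, inferInstance⟩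
      omega
  have hset : (Finset.univ.filter fun χ : IrrCharacter G => InB L χ) =
      (rowsOf L 1 ∪ rowsOf L (-1)) ∪ Finset.univ.image D.f := by
    ext χ
    simp only [Finset.mem_filter, Finset.mem_univ, true_and, Finset.mem_union, mem_rowsOf,
      Finset.mem_image]
    refine ⟨fun h => ?_, ?_⟩
    · rcases D.cover χ h with h1 | h1 | ⟨q', rfl⟩
      · exact Or.inl (Or.inl h1)
      · exact Or.inl (Or.inr h1)
      · exact Or.inr ⟨q', rfl⟩
    · rintro ((h | h) | ⟨q', rfl⟩)
      · exact h.inB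
      · exact h.inB
      · exact (D.unit q').inB
  have hdisj : Disjoint (rowsOf L 1 ∪ rowsOf L (-1)) (Finset.univ.image D.f) := by
    rw [Finset.disjoint_left]
    intro χ h h'
    obtain ⟨q', -, rfl⟩ := Finset.mem_image.1 h'
    rcases Finset.mem_union.1 h with h | h <;> exact ht _ _ q' (mem_rowsOf.1 h) rfl
  have hval1 : ∀ (b : ℤ) (χ : IrrCharacter G), χ ∈ rowsOf L b → conj ((χ : G → ℂ) (u : G)) * F χ =
      (b : ℂ) * F χ := by
    intro b χ hχ
    have := (mem_rowsOf.1 hχ).value hu 1
    rw [OneMemClass.coe_one, mul_one] at this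
    rw [this, map_intCast]
  rw [← Finset.sum_subset (Finset.subset_univ
      (Finset.univ.filter fun χ : IrrCharacter G => InB L χ)) fun χ _ hχ => ?_, hset,
    Finset.sum_union hdisj, Finset.sum_union disjoint_rowsOf,
    Finset.sum_congr rfl (hval1 1), Finset.sum_congr rfl (hval1 (-1)),
    Finset.sum_image fun a _ b _ h => D.inj h,
    Finset.sum_congr rfl (s₁ := (Finset.univ : Finset (L.ColOver (O0 L))))
      (g := fun q' => -(D.a : ℂ) * F (D.f q) * conj (eta L q' u)) fun q' _ => ?_]
  · simp only [← Finset.mul_sum]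
    rw [← map_sum, sum_eta L hu]
    simp only [Int.cast_one, one_mul, Int.cast_neg, neg_one_mul, Finset.sum_neg_distrib, map_neg,
      map_one]
    ring
  · have := (D.unit q').value hu 1
    rw [OneMemClass.coe_one, mul_one] at this
    rw [this, hF q', map_mul, map_neg, map_intCast]
    ring
  · simp only [Finset.mem_filter, Finset.mem_univ, true_and] at hχ
    rw [value_out L hK hχ hu, map_zero, zero_mul]

/-- The pairs of conjugates of `x` and `y` with product `u`. -/
theorem Exceptional.pairs (D : Exceptional L) (hK : L.K = ⊥) [DecidableEq G]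
    (q : L.ColOver (O0 L)) {u : ↥(L.P : Subgroup G)} (hu : u ≠ 1) (x y : G)
    (hx : ¬ p ∣ orderOf x) (hy : ¬ p ∣ orderOf y) :
    (∑ a : G, ∑ b : G, if a * x * a⁻¹ * (b * y * b⁻¹) = (u : G) then (1 : ℂ) else 0) =
      (Nat.card G : ℂ) *
        (∑ χ ∈ rowsOf L 1, (χ : G → ℂ) x * (χ : G → ℂ) y / (χ : G → ℂ) 1 -
          ∑ χ ∈ rowsOf L (-1), (χ : G → ℂ) x * (χ : G → ℂ) y / (χ : G → ℂ) 1 +
          (D.a : ℂ) * ((D.f q : G → ℂ) x * (D.f q : G → ℂ) y / (D.y : ℂ))) := by
  classical
  haveI := L.finite_col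
  haveI := Fintype.ofFinite (L.ColOver (O0 L))
  have h := ClassPairs.card_pairs x y {(u : G)}
  simp only [Finset.mem_singleton, Finset.sum_singleton] at h
  rw [h, D.sum_conj_value hK q hu (fun χ => (χ : G → ℂ) x * (χ : G → ℂ) y / (χ : G → ℂ) 1)
    fun q' => by
      show (D.f q' : G → ℂ) x * (D.f q' : G → ℂ) y / _ = (D.f q : G → ℂ) x * (D.f q : G → ℂ) y / _
      rw [D.regular q' q x hx, D.regular q' q y hy, ← Blocks.charDegree_cast (D.f q'),
        ← Blocks.charDegree_cast (D.f q), D.deg, D.deg],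
    ← Blocks.charDegree_cast (D.f q), D.deg]

/-- At most as many square roots of one as the sum of the degrees. -/
theorem card_sq_one_le (G : Type u) [Group G] [Fintype G] :
    Nat.card {x : G // x * x = 1} ≤ ∑ χ : IrrCharacter G, Cfsg.charDegree (χ : G → ℂ) := by
  have h := SquareRoots.card_sqrt_eq (1 : G)
  have h2 : (Nat.card {x : G // x * x = 1} : ℝ) ≤
      ∑ χ : IrrCharacter G, (Cfsg.charDegree (χ : G → ℂ) : ℝ) := by
    calc (Nat.card {x : G // x * x = 1} : ℝ)
        = ‖∑ χ : IrrCharacter G, SquareRoots.indicator (χ : G → ℂ) * (χ : G → ℂ) 1‖ := by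
          rw [← h, Complex.norm_natCast]
      _ ≤ _ := (norm_sum_le _ _).trans (Finset.sum_le_sum fun χ _ => by
          rw [norm_mul, ← Blocks.charDegree_cast χ, Complex.norm_natCast]
          refine mul_le_of_le_one_left (Nat.cast_nonneg _) ?_
          rcases SquareRoots.indicator_cases χ.2 with r | r | r <;> rw [r] <;> simp)
  exact_mod_cast h2

end CfsgLib.BrauerOrderP
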