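import Cfsg.Agent.BrauerOrderP.SubTwoExtension
import Cfsg.Agent.PrimeDegreeTwoP.Core
import Cfsg.Agent.Forms4.ExceptionalTools

/-!
# Faithful characters of degree `p - 2`

A group with a non-normal Sylow subgroup of order `p > 5` and a faithful irreducible character of
degree `p - 2` is `SL(2, 2^a)` times its centre.
-/

set_option autoImplicit false
set_option linter.style.haveILetI false
set_option linter.unusedSectionVars false

namespace CfsgLib.BrauerOrderP

open Cfsg CfsgLib.Characters CfsgLib.DefectOne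
open scoped ComplexConjugate

universe u

variable {G : Type u} [Group G] {p : ℕ} [Fact p.Prime] [Fintype G]

/-- Faithful degree `p - 2`. -/
theorem subTwo (L : Local p G) (hp : 5 < p) (hnn : ¬ (L.P : Subgroup G).Normal) (ζ : IrrCharacter G)
    (hfaith : ∀ g : G, (ζ : G → ℂ) g = (ζ : G → ℂ) 1 → g = 1)
    (hdeg : Cfsg.charDegree (ζ : G → ℂ) = p - 2) :
    ∃ (a : ℕ) (F : Type) (_ : Field F) (_ : Fintype F), p = 2 ^ a + 1 ∧ Fintype.card F = 2 ^ a ∧
      Nonempty (G ≃* Matrix.SpecialLinearGroup (Fin 2) F × Subgroup.center G) := by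
  classical
  have hpp : p.Prime := Fact.out
  have hp7 : 7 ≤ p := by
    by_contra h
    obtain rfl : p = 6 := by omega
    norm_num at hpp
  obtain ⟨hKc, he, φ0, hφ1, hK, hrow⟩ := subTwo_local L (by omega) hnn ζ hfaith hdeg
  obtain ⟨A, B, hA1, hB1, hAK, hBK, ⟨u, huP, hu1, hBu⟩, hrel⟩ :=
    exists_linear_extension L hp7 hKc he ζ hfaith hdeg φ0 hK hrow
  obtain ⟨lam, hlam⟩ := exists_hom_of_degree_one (isCharacter_of_isIrr A.2)
    (by rw [← Blocks.charDegree_cast, hA1, Nat.cast_one])
  haveI hKn : L.K.Normal := by rw [hKc]; infer_instance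
  have hcen : ∀ k ∈ L.K, k ∈ Subgroup.center G := fun k hk => hKc ▸ hk
  have hlamK : ∀ k : L.K, ((lam (k : G) : ℂˣ) : ℂ) = (φ0 : L.K → ℂ) k := fun k => by
    rw [← hAK k, hlam]
  -- the twisted character of degree `p - 1`
  have hBd : (B : G → ℂ) 1 = ((p - 1 : ℕ) : ℂ) := by rw [← Blocks.charDegree_cast, hB1]
  obtain ⟨hχirr, -⟩ := CharactersDeep.ExtensionCriteria.twist B.2 hBd lam⁻¹
  obtain ⟨ψ, hψirr, hψ⟩ := exists_irr_quotient L.K hχirr fun k hk => by
    simp only [map_one, Units.val_one, one_mul, hBd, hBK ⟨k, hk⟩, MonoidHom.inv_apply,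
      Units.val_inv_eq_inv_val]
    rw [hlamK ⟨k, hk⟩]
    rw [mul_left_comm, inv_mul_cancel₀, mul_one]
    rw [← hlamK ⟨k, hk⟩]
    exact Units.ne_zero _
  set mk := QuotientGroup.mk' L.K with hmk
  have hnormlam : ∀ g : G, ‖((lam⁻¹ g : ℂˣ) : ℂ)‖ = 1 := fun g => by
    refine Complex.norm_eq_one_of_pow_eq_one (n := orderOf g) ?_ (orderOf_pos g).ne'
    rw [← Units.val_pow_eq_pow_val, ← map_pow, pow_orderOf_eq_one, map_one, Units.val_one]
  have hψ1 : ψ 1 = ((p - 1 : ℕ) : ℂ) := by
    have h := hψ 1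
    rw [map_one, Units.val_one, one_mul, hBd] at h
    rw [h]; rfl
  have hfaithψ : ∀ x : G ⧸ L.K, ψ x = ψ 1 → x = 1 := by
    intro x
    obtain ⟨g, rfl⟩ := QuotientGroup.mk_surjective x
    intro hx
    rw [← hψ g, hψ1] at hx
    have hn : ‖(B : G → ℂ) g‖ = ((p - 1 : ℕ) : ℝ) := by
      have h := congrArg (fun z : ℂ => ‖z‖) hx
      simpa only [norm_mul, hnormlam g, one_mul, Complex.norm_natCast] using h
    rw [QuotientGroup.eq_one_iff]
    by_cases hreg : p ∣ orderOf g
    · exfalso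
      set w := g ^ (orderOf g / p) with hw
      have hwo : orderOf w = p := by
        rw [hw, orderOf_pow_of_dvd ((Nat.div_pos (Nat.le_of_dvd (orderOf_pos g) hreg) hpp.pos).ne')
          (Nat.div_dvd_of_dvd hreg), Nat.div_div_self hreg (orderOf_pos g).ne']
      obtain ⟨Q, hQ⟩ := (IsPGroup.of_card (n := 1)
        (by rw [Nat.card_zpowers, hwo, pow_one]) : IsPGroup p (Subgroup.zpowers w)).exists_le_sylow
      obtain ⟨c, hc⟩ := MulAction.exists_smul_eq G Q L.P
      have hwP : c * w * c⁻¹ ∈ (L.P : Subgroup G) := by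
        rw [← hc, Sylow.coe_subgroup_smul, Subgroup.mem_pointwise_smul_iff_inv_smul_mem]
        simpa [MulAut.smul_def, mul_assoc] using hQ (Subgroup.mem_zpowers w)
      have hz : Subgroup.zpowers (c * w * c⁻¹) = (L.P : Subgroup G) :=
        Subgroup.eq_of_le_of_card_ge (Subgroup.zpowers_le.2 hwP) (by
          rw [Nat.card_zpowers, L.card_P, CfsgLib.Small.orderOf_conj_eq c w, hwo])
      obtain ⟨i, hi⟩ := mem_powers_iff_mem_zpowers.2 (hz.symm ▸ huP : u ∈ Subgroup.zpowers (c * w * c⁻¹))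
      obtain ⟨d, hd⟩ := scalar_of_norm (χ := B) (g := g) (by rw [hn, hB1])
      obtain ⟨n, ρ, hρi, hρ⟩ := B.2
      have hwi : ρ u = (d ^ (orderOf g / p * i)) • LinearMap.id := by
        have hu' : u = c * g ^ (orderOf g / p * i) * c⁻¹ := by
          rw [pow_mul, ← hw, ← conj_pow]
          exact hi.symm
        rw [hu', map_mul, map_mul, map_pow, hd n ρ hρ, ← Module.End.one_eq_id, smul_pow, one_pow,
          mul_smul_comm, mul_one, smul_mul_assoc, ← map_mul, mul_inv_cancel, map_one]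
      have hwn : ‖(B : G → ℂ) u‖ = ((p - 1 : ℕ) : ℝ) := by
        have h1 : ρ g = d • LinearMap.id := hd n ρ hρ
        have h2 : ‖d‖ = 1 := by
          have h3 : (B : G → ℂ) g = d * ((p - 1 : ℕ) : ℂ) := by
            rw [← hBd, ← hρ, Representation.character, h1, map_smul, smul_eq_mul,
              Representation.character, map_one]
            rfl
          rw [h3, norm_mul, Complex.norm_natCast] at hn
          exact (mul_eq_right₀ (Nat.cast_ne_zero.2 (by omega))).1 hn
        rw [← hρ, Representation.character, hwi, map_smul, smul_eq_mul, norm_mul, norm_pow, h2,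
          one_pow, one_mul]
        have h4 : (LinearMap.trace ℂ (Fin n → ℂ)) LinearMap.id = ((p - 1 : ℕ) : ℂ) := by
          rw [← hBd, ← hρ, Representation.character, map_one]
          rfl
        rw [h4, Complex.norm_natCast]
      rw [hBu, norm_neg, norm_one] at hwn
      have : (p - 1 : ℕ) = 1 := by exact_mod_cast hwn.symm
      omega
    · have hζg : (ζ : G → ℂ) g = ((lam g : ℂˣ) : ℂ) * ((p - 2 : ℕ) : ℂ) := by
        have h := hrel g hreg
        rw [hlam] at h
        have h2 : (B : G → ℂ) g = ((lam g : ℂˣ) : ℂ) * ((p - 1 : ℕ) : ℂ) := by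
          rw [MonoidHom.inv_apply, Units.val_inv_eq_inv_val, inv_mul_eq_iff_eq_mul₀ (Units.ne_zero _)] at hx
          exact hx
        rw [h2] at h
        have h3 : ((p - 2 : ℕ) : ℂ) = ((p - 1 : ℕ) : ℂ) - 1 := by
          rw [eq_sub_iff_add_eq]
          exact_mod_cast (show p - 2 + 1 = p - 1 by omega)
        rw [h3]
        linear_combination h
      have hl : ‖((lam g : ℂˣ) : ℂ)‖ = 1 := by
        refine Complex.norm_eq_one_of_pow_eq_one (n := orderOf g) ?_ (orderOf_pos g).ne'
        rw [← Units.val_pow_eq_pow_val, ← map_pow, pow_orderOf_eq_one, map_one, Units.val_one]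
      obtain ⟨d, hd⟩ := scalar_of_norm (χ := ζ) (g := g) (by
        rw [hdeg, hζg, norm_mul, hl, one_mul, Complex.norm_natCast])
      exact hKc.symm ▸ central_of_scalar hfaith hd
  -- the Sylow subgroup of the quotient
  set Pq : Subgroup (G ⧸ L.K) := (L.P : Subgroup G).map mk with hPq
  have hinjP : ∀ v ∈ (L.P : Subgroup G), v ∈ L.K → v = 1 := by
    intro v hv hvK
    by_contra hne
    exact L.not_dvd_orderOf hvK (by rw [L.orderOf_of_mem hv hne])
  have hPqcard : Nat.card Pq = p := by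
    have e : (L.P : Subgroup G) ≃ Pq := Equiv.ofBijective
      (fun v => ⟨mk v, Subgroup.mem_map_of_mem mk v.2⟩) ⟨fun v w h => by
        have h1 : ((v : G)⁻¹ * w) ∈ L.K := QuotientGroup.eq.1 (congrArg Subtype.val h)
        exact Subtype.ext (inv_mul_eq_one.1 (hinjP _ (mul_mem (inv_mem v.2) w.2) h1)),
        fun ⟨y, hy⟩ => by
          obtain ⟨v, hv, rfl⟩ := Subgroup.mem_map.1 hy
          exact ⟨⟨v, hv⟩, rfl⟩⟩
    rw [← Nat.card_congr e, L.card_P]
  have hcardH : Nat.card G = Nat.card (G ⧸ L.K) * Nat.card L.K := Subgroup.card_eq_card_quotient_mul_card_subgroup L.K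
  have hfac : (Nat.card (G ⧸ L.K)).factorization p = 1 := by
    have h1 := L.factorization_card
    rw [hcardH, Nat.factorization_mul Nat.card_pos.ne' Nat.card_pos.ne', Finsupp.add_apply,
      Nat.factorization_eq_zero_of_not_dvd L.not_dvd, add_zero] at h1
    exact h1
  let Ps : Sylow p (G ⧸ L.K) := Sylow.ofCard Pq (by rw [hPqcard, hfac, pow_one])
  have hPs : (Ps : Subgroup (G ⧸ L.K)) = Pq := rfl
  have hlift : ∀ g : G, ∀ v ∈ (L.P : Subgroup G), mk (g * v * g⁻¹) ∈ Pq →
      g * v * g⁻¹ ∈ (L.P : Subgroup G) := by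
    intro g v hv h
    obtain ⟨w, hw, hwe⟩ := Subgroup.mem_map.1 h
    have h1 : w⁻¹ * (g * v * g⁻¹) ∈ L.K := QuotientGroup.eq.1 hwe
    set k := w⁻¹ * (g * v * g⁻¹) with hk
    have h2 : g * v * g⁻¹ = w * k := by rw [hk]; group
    have h3 : k ^ p = 1 := by
      have h4 : (g * v * g⁻¹) ^ p = 1 := by rw [conj_pow, L.pow_p hv, mul_one, mul_inv_cancel]
      rwa [h2, (L.commute hw h1).mul_pow, L.pow_p hw, one_mul] at h4
    have h5 : k = 1 := by
      rcases (Nat.dvd_prime hpp).1 (orderOf_dvd_of_pow_eq_one h3) with h | h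
      · exact orderOf_eq_one_iff.1 h
      · exact absurd (h ▸ dvd_refl p) (L.not_dvd_orderOf h1)
    rw [h2, h5, mul_one]
    exact hw
  have hC : Subgroup.centralizer ((Ps : Subgroup (G ⧸ L.K)) : Set (G ⧸ L.K)) = Ps := by
    refine le_antisymm (fun x hx => ?_) (fun x hx => ?_)
    · obtain ⟨g, rfl⟩ := QuotientGroup.mk_surjective x
      have hmku : mk u ∈ Pq := Subgroup.mem_map_of_mem mk huP
      have h1 : mk (g * u * g⁻¹) = mk u := by
        have h0 : mk u * mk g = mk g * mk u := Subgroup.mem_centralizer_iff.1 hx _ hmku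
        rw [map_mul, map_mul, ← h0, map_inv]
        exact mul_inv_cancel_right _ _
      have h2 := hlift g u huP (h1 ▸ hmku)
      have h3 : g * u * g⁻¹ = u := by
        have h4 : u⁻¹ * (g * u * g⁻¹) ∈ L.K := QuotientGroup.eq.1 h1.symm
        exact (inv_mul_eq_one.1 (hinjP _ (mul_mem (inv_mem huP) h2) h4)).symm
      have h5 : g ∈ Subgroup.centralizer ((L.P : Subgroup G) : Set G) := by
        rw [← L.centralizer_singleton huP hu1]
        exact Subgroup.mem_centralizer_singleton_iff.2 (mul_inv_eq_iff_eq_mul.1 h3)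
      obtain ⟨v, hv, k, hk, rfl⟩ := L.decomp _ h5
      have : mk (v * k) = mk v := by
        refine (QuotientGroup.eq.2 ?_).symm
        rwa [inv_mul_cancel_left]
      show mk (v * k) ∈ Pq
      rw [this]
      exact Subgroup.mem_map_of_mem mk hv
    · refine Subgroup.mem_centralizer_iff.2 fun y hy => ?_
      obtain ⟨v, hv, rfl⟩ := Subgroup.mem_map.1 hx
      obtain ⟨w, hw, rfl⟩ := Subgroup.mem_map.1 hy
      haveI := L.isMulCommutative
      rw [← map_mul, ← map_mul]
      exact congrArg mk (congrArg Subtype.val (mul_comm' (⟨w, hw⟩ : (L.P : Subgroup G)) ⟨v, hv⟩))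
  have hKN : L.K ≤ L.N := fun k hk => Subgroup.centralizer_le_normalizer _ (L.le_centralizer hk)
  have hNq : Subgroup.normalizer ((Ps : Subgroup (G ⧸ L.K)) : Set (G ⧸ L.K)) = L.N.map mk := by
    refine le_antisymm (fun x hx => ?_) ?_
    · obtain ⟨g, rfl⟩ := QuotientGroup.mk_surjective x
      refine Subgroup.mem_map_of_mem mk (L.mem_N_of_conj huP hu1 (hlift g u huP ?_))
      rw [map_mul, map_mul, map_inv]
      exact (Subgroup.mem_normalizer_iff.1 hx _).1 (Subgroup.mem_map_of_mem mk huP)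
    · rintro x hx
      obtain ⟨g, hg, rfl⟩ := Subgroup.mem_map.1 hx
      refine Subgroup.mem_normalizer_iff.2 fun y => ⟨fun hy => ?_, fun hy => ?_⟩
      · obtain ⟨v, hv, rfl⟩ := Subgroup.mem_map.1 hy
        rw [← map_inv, ← map_mul, ← map_mul]
        exact Subgroup.mem_map_of_mem mk (L.conj_mem_P hg hv)
      · obtain ⟨v, hv, hve⟩ := Subgroup.mem_map.1 hy
        have hy' : y = mk (g⁻¹ * v * g) := by
          rw [map_mul, map_mul, map_inv, hve]; group
        show y ∈ Pq
        rw [hy']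
        refine Subgroup.mem_map_of_mem mk ?_
        have := L.conj_mem_P (inv_mem hg) hv
        rwa [inv_inv] at this
  have hNcard : Nat.card (L.N.map mk) = 2 * p := by
    have h1 := Subgroup.index_map L.N mk
    rw [QuotientGroup.ker_mk', sup_of_le_left hKN,
      MonoidHom.range_eq_top.2 (QuotientGroup.mk'_surjective L.K), Subgroup.index_top, mul_one] at h1
    have h2 := (L.N.map mk).index_mul_card
    have h3 := L.N.index_mul_card
    rw [h1] at h2
    rw [hcardH, ← h2, ← card_N L, he] at h3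
    have h4 : (L.N.index * Nat.card L.K) * (2 * p) = (L.N.index * Nat.card L.K) * Nat.card (L.N.map mk) := by
      rw [mul_assoc, mul_comm (Nat.card L.K) (2 * p), mul_assoc 2 p (Nat.card L.K), h3]
      ring
    have hpos : 0 < L.N.index * Nat.card L.K :=
      mul_pos (Nat.pos_of_ne_zero Subgroup.index_ne_zero_of_finite) Nat.card_pos
    exact (Nat.eq_of_mul_eq_mul_left hpos h4).symm
  have hrel2 : (Ps : Subgroup (G ⧸ L.K)).relIndex
      (Subgroup.normalizer ((Ps : Subgroup (G ⧸ L.K)) : Set (G ⧸ L.K))) = 2 := by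
    have h := Subgroup.relIndex_mul_relIndex ⊥ (Ps : Subgroup (G ⧸ L.K))
      (Subgroup.normalizer ((Ps : Subgroup (G ⧸ L.K)) : Set (G ⧸ L.K))) bot_le Subgroup.le_normalizer
    rw [Subgroup.relIndex_bot_left, Subgroup.relIndex_bot_left, hNq, hNcard, hPs, hPqcard,
      mul_comm 2] at h
    rw [hNq, hPs]
    exact Nat.eq_of_mul_eq_mul_left hpp.pos h
  haveI := Fintype.ofFinite (G ⧸ L.K)
  obtain ⟨a, F, fF, fFin, hpa, hF, ⟨iso⟩⟩ := PrimeDegreeTwoP.core (by omega) Ps hPqcard hC hrel2
    ⟨ψ, hψirr⟩ (by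
      have h : ψ 1 = ((p - 1 : ℕ) : ℂ) := hψ1
      simp [Cfsg.charDegree, h]) hfaithψ
  refine ⟨a, F, fF, fFin, hpa, hF, ?_⟩
  -- `G = G' × K`
  have hperf : commutator (G ⧸ L.K) = ⊤ := by
    have h := congrArg (Subgroup.map iso.symm.toMonoidHom)
      (Forms4.commutator_SL_two (K := F) (by omega))
    rwa [commutator_def, Subgroup.map_commutator,
      Subgroup.map_top_of_surjective iso.symm.toMonoidHom iso.symm.surjective] at h
  have hmap : (commutator G).map mk = ⊤ := by
    rw [← hperf, commutator_def, commutator_def, Subgroup.map_commutator,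
      Subgroup.map_top_of_surjective mk (QuotientGroup.mk'_surjective L.K)]
  have hinf : ∀ g ∈ commutator G, g ∈ L.K → g = 1 := by
    intro g hg hgK
    have hl : lam g = 1 := Abelianization.commutator_subset_ker lam hg
    have h := hlamK ⟨g, hgK⟩
    rw [show ((⟨g, hgK⟩ : L.K) : G) = g from rfl, hl, Units.val_one] at h
    exact hfaith g (by rw [hK ⟨g, hgK⟩ , ← h, mul_one, ← Blocks.charDegree_cast, hdeg])
  let Φ : commutator G × L.K →* G :=
    { toFun := fun x => (x.1 : G) * x.2
      map_one' := by simp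
      map_mul' := fun x y => by
        simp only [Prod.fst_mul, Prod.snd_mul, Subgroup.coe_mul]
        have := (Subgroup.mem_center_iff.1 (hcen _ x.2.2) (y.1 : G))
        rw [mul_assoc, ← mul_assoc (y.1 : G), this]
        group }
  have hΦ : Function.Bijective Φ := by
    refine ⟨(injective_iff_map_eq_one Φ).2 fun x hx => ?_, fun g => ?_⟩
    · have h1 : (x.1 : G) * x.2 = 1 := hx
      have h2 : (x.1 : G) ∈ L.K := by
        rw [eq_inv_of_mul_eq_one_left h1]; exact inv_mem x.2.2
      have h3 := hinf _ x.1.2 h2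
      rw [h3, one_mul] at h1
      exact Prod.ext (Subtype.ext h3) (Subtype.ext h1)
    · obtain ⟨c, hc, hce⟩ := Subgroup.mem_map.1 (hmap.symm ▸ Subgroup.mem_top (mk g) : mk g ∈ (commutator G).map mk)
      exact ⟨(⟨c, hc⟩, ⟨c⁻¹ * g, QuotientGroup.eq.1 hce⟩), mul_inv_cancel_left c g⟩
  let e1 : commutator G ≃* G ⧸ L.K := MulEquiv.ofBijective (mk.comp (commutator G).subtype) (by
    refine ⟨(injective_iff_map_eq_one _).2 fun x hx => ?_, fun y => ?_⟩
    · exact Subtype.ext (hinf _ x.2 ((QuotientGroup.eq_one_iff _).1 hx))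
    · obtain ⟨c, hc, hce⟩ := Subgroup.mem_map.1 (hmap.symm ▸ Subgroup.mem_top y : y ∈ (commutator G).map mk)
      exact ⟨⟨c, hc⟩, hce⟩)
  exact ⟨(MulEquiv.ofBijective Φ hΦ).symm.trans
    ((e1.trans iso).prodCongr (MulEquiv.subgroupCongr hKc))⟩

end CfsgLib.BrauerOrderP
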