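import Cfsg.Agent.BrauerOrderP.SubTwoStart
import Cfsg.Agent.ClassPairs.Basic

/-!
# Blocks over a central linear character when `[N(P) : C(P)] = 2`

Two fixed rows and a family of exceptional characters of common sign and degree; the sum over all
irreducible characters weighted by a linear character of the centre.
-/

set_option autoImplicit false
set_option linter.style.haveILetI false
set_option linter.unusedSectionVars false

namespace CfsgLib.BrauerOrderP

open Cfsg CfsgLib.Characters CfsgLib.DefectOne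
open scoped ComplexConjugate

universe u

variable {G : Type u} [Group G] {p : ℕ} [Fact p.Prime] [Fintype G] (L : Local p G)

/-- The value at `u` of the part of a character over `φ`. -/
noncomputable def valOver [Fintype L.Lam] (χ : IrrCharacter G) (φ : IrrCharacter L.K)
    (u : ↥(L.P : Subgroup G)) : ℂ :=
  -∑ l : L.Lam, L.cvec χ (l, φ) * (l.1 u : ℂ)

theorem degree_one_of_central (hKc : L.K = Subgroup.center G) (φ : IrrCharacter L.K) :
    (φ : L.K → ℂ) 1 = 1 := by
  obtain ⟨n, ρ, hρi, hρ⟩ := φ.2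
  haveI := hρi
  haveI := nontrivial_of_isIrreducible ρ
  have hs : ∀ k : L.K, ∃ c : ℂ, ρ k = c • LinearMap.id := fun k => by
    refine central_scalar ρ (Subgroup.mem_center_iff.2 fun a => Subtype.ext ?_)
    exact Subgroup.mem_center_iff.1 (hKc ▸ k.2 : (k : G) ∈ Subgroup.center G) a
  haveI := Fintype.ofFinite L.K
  have h1 := finrank_dvd_index ρ ⊤ fun z _ => hs z
  rw [Subgroup.index_top, Nat.dvd_one] at h1
  have e1 : (φ : L.K → ℂ) = ρ.character := hρ.symm
  rw [e1, Representation.char_one, h1, Nat.cast_one]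

theorem phiBy_central (hKc : L.K = Subgroup.center G) (n : L.N) (φ : IrrCharacter L.K) :
    L.phiBy n φ = φ := by
  refine Subtype.ext (funext fun k => ?_)
  show (φ : L.K → ℂ) (L.autK n k) = (φ : L.K → ℂ) k
  refine congrArg _ (Subtype.ext ?_)
  rw [Local.coe_autK, Subgroup.mem_center_iff.1 (hKc ▸ k.2 : (k : G) ∈ Subgroup.center G) (n : G),
    mul_inv_cancel_right]

theorem eq_of_orb_central (hKc : L.K = Subgroup.center G) {φ φ' : IrrCharacter L.K}
    (h : L.orb φ = L.orb φ') : φ' = φ := by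
  obtain ⟨n, hn⟩ := L.orb_eq_iff.1 h
  rw [hn, phiBy_central L hKc]

theorem out_orb_central (hKc : L.K = Subgroup.center G) (φ : IrrCharacter L.K) :
    (Quotient.out (L.orb φ) : IrrCharacter L.K) = φ :=
  (eq_of_orb_central L hKc (Quotient.out_eq (L.orb φ) :
    L.orb (Quotient.out (L.orb φ)) = L.orb φ)).symm

theorem eO_central (hKc : L.K = Subgroup.center G) (φ : IrrCharacter L.K) :
    L.eO (L.orb φ) = e L := by
  rw [← orbCard_mul_eO L (L.orb φ),
    show L.orbCard (L.orb φ) = 1 from Nat.card_eq_one_iff_unique.2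
      ⟨⟨fun a b => Subtype.ext ((eq_of_orb_central L hKc a.2.symm).trans
        (eq_of_orb_central L hKc b.2.symm).symm)⟩, ⟨⟨φ, rfl⟩⟩⟩, one_mul]

/-- The weighted sum of the values at `u * z`. -/
theorem sum_twist [Fintype L.K] [Fintype L.Lam] (hKc : L.K = Subgroup.center G)
    (χ : IrrCharacter G) (φ : IrrCharacter L.K) {u : ↥(L.P : Subgroup G)} (hu : u ≠ 1) :
    ∑ z : L.K, (φ : L.K → ℂ) z * conj ((χ : G → ℂ) ((u : G) * z)) =
      (Nat.card L.K : ℂ) * conj (valOver L χ φ u) := by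
  classical
  have hv : ∀ z : L.K, (χ : G → ℂ) ((u : G) * z) =
      ∑ ψ : IrrCharacter L.K, (ψ : L.K → ℂ) z * valOver L χ ψ u := by
    intro z
    rw [value_general L χ hu z, ← Finset.sum_neg_distrib]
    exact Finset.sum_congr rfl fun ψ _ => by rw [valOver]; ring
  simp only [hv, map_sum, map_mul, Finset.mul_sum]
  rw [Finset.sum_comm, Finset.sum_eq_single φ]
  · have h := classInner_isIrr_self φ.2
    rw [Cfsg.classInner, inv_mul_eq_iff_eq_mul₀ natCard_ne_zero, mul_one] at h
    rw [← h, Finset.sum_mul]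
    exact Finset.sum_congr rfl fun z _ => by ring
  · intro ψ _ hψ
    have h := classInner_isIrr_ne φ.2 ψ.2 fun he => hψ (Subtype.ext he.symm)
    rw [Cfsg.classInner, mul_eq_zero, inv_eq_zero, or_iff_right natCard_ne_zero] at h
    calc ∑ z : L.K, (φ : L.K → ℂ) z * (conj ((ψ : L.K → ℂ) z) * conj (valOver L χ ψ u))
        = (∑ z : L.K, (φ : L.K → ℂ) z * conj ((ψ : L.K → ℂ) z)) * conj (valOver L χ ψ u) := by
          rw [Finset.sum_mul]; exact Finset.sum_congr rfl fun z _ => by ring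
      _ = 0 := by rw [h, zero_mul]
  · simp

/-- A block over a central linear character. -/
structure Two (L : Local p G) (φ : IrrCharacter L.K) where
  /-- The first fixed row. -/
  A : IrrCharacter G
  /-- The second fixed row. -/
  B : IrrCharacter G
  /-- The exceptional family. -/
  f : L.ColOver (L.orb φ) → IrrCharacter G
  /-- The sign of `A`. -/
  a : ℤ
  /-- The sign of `B`. -/
  b : ℤ
  /-- The sign of the family. -/
  s : ℤ
  ha : a = 1 ∨ a = -1
  hb : b = 1 ∨ b = -1
  hs : s = 1 ∨ s = -1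
  rowA : ∀ q : L.ColOver (L.orb φ), L.cint A q.1 = a
  rowB : ∀ q : L.ColOver (L.orb φ), L.cint B q.1 = b
  rowf_self : ∀ q : L.ColOver (L.orb φ), L.cint (f q) q.1 = s
  rowf_ne : ∀ q q' : L.ColOver (L.orb φ), q' ≠ q → L.cint (f q) q'.1 = 0
  cover : ∀ χ, (∃ q : L.ColOver (L.orb φ), L.cint χ q.1 ≠ 0) → χ = A ∨ χ = B ∨ ∃ q, χ = f q
  inj : Function.Injective f
  neA : ∀ q, f q ≠ A
  neB : ∀ q, f q ≠ B
  neAB : A ≠ B
  deg : ∀ q q', Cfsg.charDegree (f q : G → ℂ) = Cfsg.charDegree (f q' : G → ℂ)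
  regular : ∀ q q' (g : G), ¬ p ∣ orderOf g → (f q : G → ℂ) g = (f q' : G → ℂ) g
  rel : ∀ q (g : G), ¬ p ∣ orderOf g →
    (a : ℂ) * (A : G → ℂ) g + (b : ℂ) * (B : G → ℂ) g + (s : ℂ) * (f q : G → ℂ) g = 0

theorem exists_two (hp : 5 ≤ p) (hKc : L.K = Subgroup.center G) (he : e L = 2)
    (φ : IrrCharacter L.K) : Nonempty (Two L φ) := by
  classical
  set O := L.orb φ
  haveI := L.finite_col
  haveI := Fintype.ofFinite (L.ColOver O)
  have htc := L.card_colOver_mul O
  rw [eO_central L hKc, he] at htc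
  have ht' : 1 < Fintype.card (L.ColOver O) := by
    rw [← Nat.card_eq_fintype_card]; omega
  have hrow : ∀ χ : IrrCharacter G, (∃ q : L.ColOver O, L.cint χ q.1 ≠ 0) →
      (∃ a : ℤ, (a = 1 ∨ a = -1) ∧ ∀ q : L.ColOver O, L.cint χ q.1 = a) ∨
      (∃ q₀ : L.ColOver O, L.IsUnitRow O χ q₀) := by
    intro χ hχ
    rcases L.rows O χ hχ with h | ⟨q₀, a, ha, hc⟩
    · exact Or.inl h
    · refine Or.inr ⟨q₀, ?_, fun q hq => by rw [hc, if_neg hq]⟩
      rw [hc, if_pos rfl]
      rcases ha with r | r <;> rw [r] <;> norm_num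
  have hex : ∀ q : L.ColOver O, ∃ χ, L.IsUnitRow O χ q ∧ ∀ χ', L.IsUnitRow O χ' q → χ' = χ := by
    intro q
    obtain ⟨χ, hχ⟩ := Finset.card_eq_one.1 (L.card_unitRow O ht' q)
    refine ⟨χ, (Finset.mem_filter.1 (hχ.symm ▸ Finset.mem_singleton_self χ :
        χ ∈ Finset.univ.filter fun χ : IrrCharacter G => L.IsUnitRow O χ q)).2, fun χ' hχ' => ?_⟩
    exact Finset.mem_singleton.1 (hχ ▸ Finset.mem_filter.2 ⟨Finset.mem_univ _, hχ'⟩)
  choose f hf huniq using hex
  have hinj : Function.Injective f := fun q q' h => by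
    by_contra hne
    exact (hf q).1 (h ▸ (hf q').2 q hne)
  have hnotconst : ∀ q (a : ℤ), (∀ q' : L.ColOver O, L.cint (f q) q'.1 = a) → False := by
    intro q a h
    obtain ⟨q', hq'⟩ := Fintype.exists_ne_of_one_lt_card ht' q
    have h1 := (hf q).2 q' hq'
    rw [h] at h1
    exact (hf q).1 (by rw [h, h1])
  set S := (Finset.univ.filter fun χ : IrrCharacter G => ∃ q : L.ColOver O, L.cint χ q.1 ≠ 0) with hS
  have hScard : S.card = 2 + Fintype.card (L.ColOver O) := by
    have h1 := L.counting.2.2.1 O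
    rw [eO_central L hKc, he, Nat.card_eq_fintype_card, Fintype.card_subtype,
      Nat.card_eq_fintype_card] at h1
    exact h1
  have hfS : Finset.univ.image f ⊆ S := by
    intro χ hχ
    obtain ⟨q, -, rfl⟩ := Finset.mem_image.1 hχ
    exact Finset.mem_filter.2 ⟨Finset.mem_univ _, q, (hf q).1⟩
  have hR : (S \ Finset.univ.image f).card = 2 := by
    rw [Finset.card_sdiff_of_subset hfS, Finset.card_image_of_injective _ hinj, Finset.card_univ, hScard]
    omega
  obtain ⟨A, B, hAB, hABset⟩ := Finset.card_eq_two.1 hR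
  have hconst : ∀ χ ∈ S \ Finset.univ.image f,
      ∃ a : ℤ, (a = 1 ∨ a = -1) ∧ ∀ q : L.ColOver O, L.cint χ q.1 = a := by
    intro χ hχ
    obtain ⟨h1, h2⟩ := Finset.mem_sdiff.1 hχ
    rcases hrow χ (Finset.mem_filter.1 h1).2 with h | ⟨q, hq⟩
    · exact h
    · exact absurd (Finset.mem_image.2 ⟨q, Finset.mem_univ _, (huniq q χ hq).symm⟩) h2
  have hAm : A ∈ S \ Finset.univ.image f := by rw [hABset]; simp
  have hBm : B ∈ S \ Finset.univ.image f := by rw [hABset]; simp
  obtain ⟨a, ha, hA⟩ := hconst A hAm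
  obtain ⟨b, hb, hB⟩ := hconst B hBm
  have hneA : ∀ q, f q ≠ A := fun q h => hnotconst q a (h ▸ hA)
  have hneB : ∀ q, f q ≠ B := fun q h => hnotconst q b (h ▸ hB)
  have hcover : ∀ χ, (∃ q : L.ColOver O, L.cint χ q.1 ≠ 0) → χ = A ∨ χ = B ∨ ∃ q, χ = f q := by
    intro χ hχ
    by_cases h : χ ∈ Finset.univ.image f
    · obtain ⟨q, -, rfl⟩ := Finset.mem_image.1 h
      exact Or.inr (Or.inr ⟨q, rfl⟩)
    · have : χ ∈ S \ Finset.univ.image f :=
        Finset.mem_sdiff.2 ⟨Finset.mem_filter.2 ⟨Finset.mem_univ _, hχ⟩, h⟩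
      rw [hABset, Finset.mem_insert, Finset.mem_singleton] at this
      exact this.elim Or.inl fun h => Or.inr (Or.inl h)
  have hsgn : ∀ q, L.cint (f q) q.1 = 1 ∨ L.cint (f q) q.1 = -1 := by
    intro q
    rcases L.rows O (f q) ⟨q, (hf q).1⟩ with ⟨c, hc, hcc⟩ | ⟨q₀, c, hc, hcc⟩
    · exact absurd hcc fun h => hnotconst q c h
    · have : q = q₀ := by
        by_contra h
        exact (hf q).1 (by rw [hcc, if_neg h])
      rw [hcc, if_pos this]; exact hc
  have hrel : ∀ q (g : G), ¬ p ∣ orderOf g → (a : ℂ) * (A : G → ℂ) g + (b : ℂ) * (B : G → ℂ) g +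
      (L.cint (f q) q.1 : ℂ) * (f q : G → ℂ) g = 0 := by
    intro q g hg
    have h := L.sum_cint_mul_regular q.1 hg
    rw [← Finset.sum_subset (Finset.subset_univ S) (fun χ _ hχ => ?_),
      ← Finset.sum_sdiff hfS, hABset, Finset.sum_pair hAB, hA, hB,
      Finset.sum_image fun x _ y _ h => hinj h,
      Finset.sum_eq_single (s := Finset.univ) (f := fun q' =>
        (L.cint (f q') q.1 : ℂ) * (f q' : G → ℂ) g) q
        (fun q' _ hq' => by rw [(hf q').2 q (Ne.symm hq'), Int.cast_zero, zero_mul]) (by simp)] at h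
    · exact h
    · have : L.cint χ q.1 = 0 := by
        by_contra h0
        exact hχ (Finset.mem_filter.2 ⟨Finset.mem_univ _, q, h0⟩)
      rw [this, Int.cast_zero, zero_mul]
  obtain ⟨q₀⟩ : Nonempty (L.ColOver O) := Fintype.card_pos_iff.1 (by omega)
  have hreg1 : ¬ p ∣ orderOf (1 : G) := by
    rw [orderOf_one, Nat.dvd_one]; exact (Fact.out : p.Prime).ne_one
  have hsd : ∀ q, L.cint (f q) q.1 = L.cint (f q₀) q₀.1 ∧
      Cfsg.charDegree (f q : G → ℂ) = Cfsg.charDegree (f q₀ : G → ℂ) := by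
    intro q
    have h1 := (hrel q 1 hreg1).trans (hrel q₀ 1 hreg1).symm
    rw [← Blocks.charDegree_cast (f q), ← Blocks.charDegree_cast (f q₀)] at h1
    have h3 : L.cint (f q) q.1 * (Cfsg.charDegree (f q : G → ℂ) : ℤ) =
        L.cint (f q₀) q₀.1 * (Cfsg.charDegree (f q₀ : G → ℂ) : ℤ) := by
      have h4 := add_left_cancel h1
      exact_mod_cast h4
    have hp1 := Nat.pos_of_ne_zero (Blocks.charDegree_ne_zero (f q))
    have hp2 := Nat.pos_of_ne_zero (Blocks.charDegree_ne_zero (f q₀))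
    rcases hsgn q with r | r <;> rcases hsgn q₀ with r' | r' <;> rw [r, r'] at h3 ⊢ <;>
      constructor <;> omega
  refine ⟨⟨A, B, f, a, b, L.cint (f q₀) q₀.1, ha, hb, hsgn q₀, hA, hB, fun q => (hsd q).1,
    fun q q' h => (hf q).2 q' h, hcover,
    hinj, hneA, hneB, hAB, fun q q' => (hsd q).2.trans (hsd q').2.symm, ?_,
    fun q g hg => (hsd q).1 ▸ hrel q g hg⟩⟩
  · intro q q' g hg
    have h1 := (hrel q g hg).trans (hrel q' g hg).symm
    rw [(hsd q).1, (hsd q').1] at h1
    refine mul_left_cancel₀ ?_ (add_left_cancel h1)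
    rcases hsgn q₀ with r | r <;> rw [r] <;> norm_num

variable {L} {φ : IrrCharacter L.K}

theorem cvec_eq_cint (χ : IrrCharacter G) (hKc : L.K = Subgroup.center G) (l : L.Lam) :
    L.cvec χ (l, φ) = (L.cint χ (L.colLam (L.orb φ) l).1 : ℂ) := by
  rw [L.cint_colLam, out_orb_central L hKc]

theorem Two.valA [Fintype L.Lam] (T : Two L φ) (hKc : L.K = Subgroup.center G)
    {u : ↥(L.P : Subgroup G)} (hu : u ≠ 1) : valOver L T.A φ u = T.a := by
  simp only [valOver, cvec_eq_cint _ hKc, T.rowA, ← Finset.mul_sum, sum_lam L hu]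
  ring

theorem Two.valB [Fintype L.Lam] (T : Two L φ) (hKc : L.K = Subgroup.center G)
    {u : ↥(L.P : Subgroup G)} (hu : u ≠ 1) : valOver L T.B φ u = T.b := by
  simp only [valOver, cvec_eq_cint _ hKc, T.rowB, ← Finset.mul_sum, sum_lam L hu]
  ring

/-- The sum over all irreducible characters. -/
theorem Two.sum_val [Fintype L.Lam] (T : Two L φ) (hKc : L.K = Subgroup.center G)
    (q : L.ColOver (L.orb φ)) {u : ↥(L.P : Subgroup G)} (hu : u ≠ 1) (F : IrrCharacter G → ℂ)
    (hF : ∀ q', F (T.f q') = F (T.f q)) :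
    ∑ χ : IrrCharacter G, conj (valOver L χ φ u) * F χ =
      (T.a : ℂ) * F T.A + (T.b : ℂ) * F T.B + (T.s : ℂ) * F (T.f q) := by
  classical
  haveI := L.finite_col
  haveI := Fintype.ofFinite (L.ColOver (L.orb φ))
  rw [← Finset.sum_subset (Finset.subset_univ
    (insert T.A (insert T.B (Finset.univ.image T.f)))) (fun χ _ hχ => ?_),
    Finset.sum_insert, Finset.sum_insert, T.valA hKc hu, T.valB hKc hu,
    Finset.sum_image fun x _ y _ h => T.inj h, map_intCast, map_intCast]
  · simp only [hF, ← Finset.sum_mul]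
    rw [add_assoc]
    congr 2
    congr 1
    simp only [valOver, cvec_eq_cint _ hKc, ← map_sum, Finset.sum_neg_distrib]
    rw [Finset.sum_comm, Finset.sum_congr rfl (g := fun l : L.Lam => (T.s : ℂ) * (l.1 u : ℂ))
      fun l _ => ?_, ← Finset.mul_sum, sum_lam L hu, mul_neg_one, neg_neg, map_intCast]
    rw [Finset.sum_eq_single (L.colLam (L.orb φ) l)
      (fun q' _ hq' => by rw [T.rowf_ne q' _ (Ne.symm hq'), Int.cast_zero, zero_mul]) (by simp),
      T.rowf_self]
  · simp only [Finset.mem_image, Finset.mem_univ, true_and, not_exists]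
    exact fun q' h => T.neB q' h
  · simp only [Finset.mem_insert, Finset.mem_image, Finset.mem_univ, true_and, not_or, not_exists]
    exact ⟨T.neAB, fun q' h => T.neA q' h⟩
  · refine mul_eq_zero_of_left (?_ : conj (valOver L χ φ u) = 0) _
    rw [map_eq_zero, valOver, neg_eq_zero]
    refine Finset.sum_eq_zero fun l _ => mul_eq_zero_of_left ?_ _
    rw [cvec_eq_cint _ hKc, Int.cast_eq_zero]
    by_contra hne
    rcases T.cover χ ⟨_, hne⟩ with h | h | ⟨q', h⟩ <;> subst h <;> simp at hχ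

/-- The fixed space of `P` and the bound at elements whose values are constant on their coset. -/
theorem exists_fixed_bound [Fintype L.Lam] (hKc : L.K = Subgroup.center G) {χ : IrrCharacter G}
    (hχ : ∃ q : L.ColOver (L.orb φ), L.cint χ q.1 ≠ 0) {g : G} (hg : g ∈ L.N)
    (hgv : ∀ v ∈ (L.P : Subgroup G), (χ : G → ℂ) (g * v) = (χ : G → ℂ) g) :
    ∃ m : ℕ, (Cfsg.charDegree (χ : G → ℂ) : ℤ) +
        ∑ l : L.Lam, L.cint χ (L.colLam (L.orb φ) l).1 = p * m ∧
      ‖(χ : G → ℂ) g‖ ≤ (m : ℝ) := by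
  classical
  haveI := Fintype.ofFinite (L.P : Subgroup G)
  haveI := Fintype.ofFinite L.K
  obtain ⟨m, hm⟩ := classInner_character_irr
    (isCharacter_restrict (L.P : Subgroup G) (isCharacter_of_isIrr χ.2))
    (isIrr_one (G := (L.P : Subgroup G)))
  simp only [Cfsg.classInner, map_one, mul_one, L.card_P] at hm
  rw [inv_mul_eq_iff_eq_mul₀ (Nat.cast_ne_zero.2 (Fact.out : p.Prime).ne_zero)] at hm
  have hd := L.degree_sum χ
  rw [hm, Finset.sum_eq_single φ (fun ψ _ hψ => ?_) (by simp), degree_one_of_central L hKc φ,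
    one_mul] at hd
  · refine ⟨m, ?_, ?_⟩
    · apply Int.cast_injective (α := ℂ)
      push_cast
      rw [Blocks.charDegree_cast, ← hd]
      congr 1
      exact Finset.sum_congr rfl fun l _ => (cvec_eq_cint _ hKc l).symm
    · have h := norm_sum_coset_le (isCharacter_of_isIrr χ.2) (L.P : Subgroup G) hg
      rw [Finset.sum_congr rfl (g := fun _ : (L.P : Subgroup G) => (χ : G → ℂ) g) fun v _ => hgv v v.2,
        Finset.sum_const, Finset.card_univ, ← Nat.card_eq_fintype_card, L.card_P, nsmul_eq_mul, hm,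
        norm_mul, Complex.norm_natCast, ← Nat.cast_mul, Complex.natCast_re, Nat.cast_mul] at h
      exact le_of_mul_le_mul_left h (Nat.cast_pos.2 (Fact.out : p.Prime).pos)
  · refine mul_eq_zero_of_right _ (Finset.sum_eq_zero fun l _ => ?_)
    rw [← L.cint_col]
    obtain ⟨q, hq⟩ := hχ
    by_contra hne
    exact hψ (eq_of_orb_central L hKc ((L.counting.2.2.2 χ (L.col (l, ψ)) _
      (fun hz => hne (by rw [hz, Int.cast_zero])) hq).trans q.2).symm)

end CfsgLib.BrauerOrderP
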