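import Cfsg.Agent.BrauerOrderP.SubTwoBlock

/-!
# A linear extension of the central character of a character of degree `p - 2`

Counting the pairs of conjugates of an element inverting `u` with product `u * z` shows that the
blocks over all characters of the centre give the same class algebra coefficient; this forces one
of the fixed rows over the central character of a faithful character of degree `p - 2` to be linear.
-/

set_option autoImplicit false
set_option linter.style.haveILetI false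
set_option linter.unusedSectionVars false

namespace CfsgLib.BrauerOrderP

open Cfsg CfsgLib.Characters CfsgLib.DefectOne
open scoped ComplexConjugate

universe u

variable {G : Type u} [Group G] {p : ℕ} [Fact p.Prime] [Fintype G] (L : Local p G)

/-- With `[N(P) : C(P)] = 2` some element inverts `P` and has central square. -/
theorem exists_inverting_ext (hp : 5 ≤ p) (hKc : L.K = Subgroup.center G) (he : e L = 2) :
    ∃ s : G, s ∈ L.N ∧ s * s ∈ L.K ∧ (∀ v ∈ (L.P : Subgroup G), s * v * s⁻¹ = v⁻¹) ∧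
      ∀ a : G, (∀ v ∈ (L.P : Subgroup G), a * v * a⁻¹ = v⁻¹) →
        ∃ v ∈ (L.P : Subgroup G), ∃ k ∈ L.K, a = s * (v * k) := by
  classical
  have hpp : p.Prime := Fact.out
  set C := Subgroup.centralizer ((L.P : Subgroup G) : Set G) with hC
  have hCN : C ≤ L.N := Subgroup.centralizer_le_normalizer _
  have hrel : C.relIndex L.N = 2 := by
    have h1 : C.relIndex L.N * Nat.card C = Nat.card L.N := by
      rw [Subgroup.relIndex, ← Nat.card_congr (Subgroup.subgroupOfEquivOfLe hCN).toEquiv,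
        Subgroup.index_mul_card]
    rw [hC, L.card_centralizer, ← card_N L, he] at h1
    exact Nat.eq_of_mul_eq_mul_right (mul_pos hpp.pos Nat.card_pos) h1
  obtain ⟨g, hgN, hgC⟩ : ∃ g ∈ L.N, g ∉ C := by
    by_contra h
    push Not at h
    have : C.relIndex L.N = 1 := Subgroup.relIndex_eq_one.2 fun x hx => h x hx
    omega
  have hg2 : g * g ∈ C := by
    have h := Subgroup.sq_mem_of_index_two (H := C.subgroupOf L.N) hrel ⟨g, hgN⟩
    simpa [sq, Subgroup.mem_subgroupOf] using h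
  obtain ⟨v₀, hv₀, k₀, hk₀, hvk⟩ := L.decomp _ hg2
  refine ⟨g ^ p, pow_mem hgN p, ?_, ?_⟩
  · have h : g ^ p * g ^ p = k₀ ^ p := by
      rw [← ((Commute.refl g).pow_pow p p).eq, ← Commute.mul_pow (Commute.refl g), hvk,
        (L.commute hv₀ hk₀).mul_pow, L.pow_p hv₀, one_mul]
    rw [h]
    exact pow_mem hk₀ p
  have hsN : g ^ p ∈ L.N := pow_mem hgN p
  have hs2 : ∀ w : G, (g ^ p * g ^ p) * w = w * (g ^ p * g ^ p) := by
    intro w
    have h : g ^ p * g ^ p = k₀ ^ p := by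
      rw [← ((Commute.refl g).pow_pow p p).eq, ← Commute.mul_pow (Commute.refl g), hvk,
        (L.commute hv₀ hk₀).mul_pow, L.pow_p hv₀, one_mul]
    rw [h]
    exact (Subgroup.mem_center_iff.1 (pow_mem (hKc ▸ hk₀ : k₀ ∈ Subgroup.center G) p) w).symm
  set s := g ^ p with hs
  have hsC : s ∉ C := by
    intro h
    refine hgC ?_
    obtain ⟨j, hj⟩ : Odd p := hpp.odd_of_ne_two (by omega)
    have h3 : g = s * ((g * g) ^ j)⁻¹ := by
      rw [eq_mul_inv_iff_mul_eq, hs, hj, ← sq, ← pow_mul, ← pow_succ']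
    rw [h3]
    exact mul_mem h (inv_mem (pow_mem hg2 j))
  have hinv : ∀ v ∈ (L.P : Subgroup G), s * v * s⁻¹ = v⁻¹ := by
    intro v hv
    set w := v * (s * v * s⁻¹) with hw
    have hsv : s * v * s⁻¹ ∈ (L.P : Subgroup G) := L.conj_mem_P hsN hv
    have hwP : w ∈ (L.P : Subgroup G) := mul_mem hv hsv
    have hcomm : s * w * s⁻¹ = w := by
      haveI := L.isMulCommutative
      have h1 : s * w * s⁻¹ = (s * v * s⁻¹) * ((s * s) * v * (s * s)⁻¹) := by rw [hw]; group
      rw [h1, hs2 v, mul_inv_cancel_right, hw]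
      exact congrArg Subtype.val (mul_comm' (⟨_, hsv⟩ : (L.P : Subgroup G)) ⟨v, hv⟩)
    by_contra hne
    refine hsC ?_
    rw [hC, ← L.centralizer_singleton hwP (fun h1 => hne ?_)]
    · exact Subgroup.mem_centralizer_singleton_iff.2 (mul_inv_eq_iff_eq_mul.1 hcomm)
    · exact eq_inv_of_mul_eq_one_right h1
  refine ⟨hinv, fun a ha => ?_⟩
  have h : s⁻¹ * a ∈ C := by
    refine Subgroup.mem_centralizer_iff.2 fun v hv => ?_
    have h1 := ha v hv
    have h2 := hinv v hv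
    have h3 : a * v * a⁻¹ = s * v * s⁻¹ := h1.trans h2.symm
    calc v * (s⁻¹ * a) = s⁻¹ * (s * v * s⁻¹) * a := by group
      _ = s⁻¹ * (a * v * a⁻¹) * a := by rw [h3]
      _ = s⁻¹ * a * v := by group
  obtain ⟨v, hv, k, hk, hvk'⟩ := L.decomp _ h
  exact ⟨v, hv, k, hk, by rw [← hvk', mul_inv_cancel_left]⟩

/-- A character whose restriction to a central element is scalar. -/
theorem apply_mul_central (χ : IrrCharacter G) {z : G} (hz : z ∈ Subgroup.center G) (x : G) :
    (χ : G → ℂ) (x * z) = (χ : G → ℂ) z / (χ : G → ℂ) 1 * (χ : G → ℂ) x := by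
  obtain ⟨n, ρ, hρi, hρ⟩ := χ.2
  haveI := hρi
  obtain ⟨c, hc⟩ := central_scalar ρ hz
  have h1 : ∀ w : G, ρ.character (w * z) = c * ρ.character w := by
    intro w
    rw [Representation.character, map_mul, hc, ← Module.End.one_eq_id, mul_smul_comm, mul_one,
      map_smul, smul_eq_mul]
    rfl
  rw [← hρ, h1 x]
  have h2 := h1 1
  rw [one_mul] at h2
  rw [h2, mul_div_assoc, div_self, mul_one]
  rw [hρ]
  exact irr_one_ne_zero χ.2

/-- An element with central square acts with two opposite eigenvalues: odd degree, nonzero trace. -/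
theorem apply_ne_zero_of_sq (χ : IrrCharacter G) {s : G} (hs : s * s ∈ Subgroup.center G)
    (hodd : Odd (Cfsg.charDegree (χ : G → ℂ))) : (χ : G → ℂ) s ≠ 0 := by
  classical
  obtain ⟨n, ρ, hρi, hρ⟩ := χ.2
  haveI := hρi
  have hn : Cfsg.charDegree (χ : G → ℂ) = n := by
    have h : (χ : G → ℂ) 1 = (n : ℂ) := by rw [← hρ, Representation.char_one, Module.finrank_fin_fun]
    simp [Cfsg.charDegree, h]
  rw [hn] at hodd
  obtain ⟨c, hc⟩ := central_scalar ρ hs
  obtain ⟨b, μ, hμ⟩ := exists_eigenbasis ρ s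
  have hsq : ∀ i, μ i * μ i = c := by
    intro i
    have h1 : ρ (s * s) (b i) = (μ i * μ i) • b i := by
      rw [map_mul, Module.End.mul_apply, (hμ i).1, map_smul, (hμ i).1, smul_smul]
    rw [hc, LinearMap.smul_apply, LinearMap.id_apply] at h1
    exact (smul_left_injective ℂ (b.ne_zero i) h1).symm
  have hfin : Module.finrank ℂ (Fin n → ℂ) = n := Module.finrank_fin_fun ℂ
  haveI : Nonempty (Fin (Module.finrank ℂ (Fin n → ℂ))) := by
    rw [hfin]; exact ⟨⟨0, hodd.pos⟩⟩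
  let i0 : Fin (Module.finrank ℂ (Fin n → ℂ)) := Classical.arbitrary _
  set w := μ i0 with hw
  have hμ0 : w ≠ 0 := fun h => by
    have := (hμ i0).2
    rw [← hw, h, zero_pow (orderOf_pos s).ne'] at this
    exact zero_ne_one this
  have hpm : ∀ i, μ i = w ∨ μ i = -w := fun i => mul_self_eq_mul_self_iff.1 ((hsq i).trans (hsq i0).symm)
  set P₁ := Finset.univ.filter fun i => μ i = w
  have hval : (χ : G → ℂ) s = w * ((2 * (P₁.card : ℤ) - n : ℤ) : ℂ) := by
    have h1 : (χ : G → ℂ) s = ∑ i, μ i := by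
      rw [← hρ, Representation.character, LinearMap.trace_eq_matrix_trace ℂ b, Matrix.trace]
      refine Finset.sum_congr rfl fun i _ => ?_
      rw [Matrix.diag, LinearMap.toMatrix_apply, (hμ i).1]; simp
    rw [h1, ← Finset.sum_filter_add_sum_filter_not Finset.univ (fun i => μ i = w),
      Finset.sum_congr rfl (g := fun _ => w) (fun i hi => (Finset.mem_filter.1 hi).2),
      Finset.sum_congr rfl (s₁ := Finset.univ.filter fun i => ¬ μ i = w) (g := fun _ => -w)
        (fun i hi => (hpm i).resolve_left (Finset.mem_filter.1 hi).2), Finset.sum_const,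
      Finset.sum_const]
    have h2 := Finset.card_filter_add_card_filter_not
      (s := (Finset.univ : Finset (Fin (Module.finrank ℂ (Fin n → ℂ))))) (fun i => μ i = w)
    rw [Finset.card_univ, Fintype.card_fin] at h2
    have h2' := h2.trans hfin
    have h3 : ((Finset.univ.filter fun i => ¬ μ i = w).card : ℂ) = (n : ℂ) - P₁.card := by
      rw [eq_sub_iff_add_eq, ← Nat.cast_add, add_comm, h2']
    simp only [nsmul_eq_mul, h3]
    push_cast
    ring
  rw [hval]
  refine mul_ne_zero hμ0 (Int.cast_ne_zero.2 ?_)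
  obtain ⟨j, rfl⟩ := hodd
  omega

open Classical in
/-- The twisted count of pairs. -/
theorem twisted_pairs [Fintype L.Lam] [Fintype L.K] (hKc : L.K = Subgroup.center G) {s : G}
    {z0 : L.K} {u : ↥(L.P : Subgroup G)} (hu : u ≠ 1)
    (honly : ∀ a b : G, ∀ z : L.K, a * s * a⁻¹ * (b * s * b⁻¹) = (u : G) * z → z = z0)
    (φ : IrrCharacter L.K) :
    (φ : L.K → ℂ) z0 * (∑ a : G, ∑ b : G,
        if a * s * a⁻¹ * (b * s * b⁻¹) = (u : G) * z0 then (1 : ℂ) else 0) =
      (Nat.card G : ℂ) * (Nat.card L.K : ℂ) * ∑ χ : IrrCharacter G,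
        conj (valOver L χ φ u) * ((χ : G → ℂ) s * (χ : G → ℂ) s / (χ : G → ℂ) 1) := by
  have h : ∀ z : L.K, (∑ a : G, ∑ b : G,
      if a * s * a⁻¹ * (b * s * b⁻¹) = (u : G) * z then (1 : ℂ) else 0) =
      (Nat.card G : ℂ) * ∑ χ : IrrCharacter G,
        conj ((χ : G → ℂ) ((u : G) * z)) * ((χ : G → ℂ) s * (χ : G → ℂ) s / (χ : G → ℂ) 1) := by
    intro z
    have h1 := ClassPairs.card_pairs s s {(u : G) * z}
    simpa only [Finset.mem_singleton, Finset.sum_singleton] using h1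
  calc (φ : L.K → ℂ) z0 * (∑ a : G, ∑ b : G,
        if a * s * a⁻¹ * (b * s * b⁻¹) = (u : G) * z0 then (1 : ℂ) else 0)
      = ∑ z : L.K, (φ : L.K → ℂ) z * (∑ a : G, ∑ b : G,
          if a * s * a⁻¹ * (b * s * b⁻¹) = (u : G) * z then (1 : ℂ) else 0) := by
        rw [Finset.sum_eq_single z0 (fun z _ hz => mul_eq_zero_of_right _ (Finset.sum_eq_zero
          fun a _ => Finset.sum_eq_zero fun b _ => if_neg fun e => hz (honly a b z e))) (by simp)]
    _ = (Nat.card G : ℂ) * ∑ χ : IrrCharacter G, (∑ z : L.K, (φ : L.K → ℂ) z *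
          conj ((χ : G → ℂ) ((u : G) * z))) * ((χ : G → ℂ) s * (χ : G → ℂ) s / (χ : G → ℂ) 1) := by
        simp only [h, Finset.mul_sum, Finset.sum_mul]
        rw [Finset.sum_comm]
        exact Finset.sum_congr rfl fun χ _ => Finset.sum_congr rfl fun z _ => by ring
    _ = _ := by
        simp only [sum_twist L hKc _ φ hu, Finset.mul_sum]
        exact Finset.sum_congr rfl fun χ _ => by ring

/-- The coefficient of a block with rows of degrees `A`, `A + C`, `C`. -/
theorem coefficient_eq {A C : ℂ} {x y : ℂ} (hA : A ≠ 0) (hC : C ≠ 0) (hB : A + C ≠ 0) :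
    x * x / A - (x + y) * (x + y) / (A + C) + y * y / C =
      (C * x - A * y) ^ 2 / (A * C * (A + C)) := by
  field_simp
  ring

/-- The upper bound for a block with rows of degrees `p k + 1`, `p (k + 1) - 1`, `p - 2`. -/
theorem upper_bound {P k : ℝ} (hP : 7 ≤ P) (hk : 1 ≤ k) :
    ((P - 1) * (2 * k + 1)) ^ 2 * P ^ 2 <
      (P - 1) ^ 2 * ((P * k + 1) * (P - 2) * (P * k + P - 1)) := by
  have h1 : 5 * (P ^ 2 * k * (k + 1)) ≤ (P - 2) * (P ^ 2 * k * (k + 1)) :=
    mul_le_mul_of_nonneg_right (by linarith) (by positivity)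
  have h2 : 0 < P - 1 := by linarith
  have h3 : (2 * k + 1) ^ 2 * P ^ 2 < (P * k + 1) * (P - 2) * (P * k + P - 1) := by
    nlinarith [mul_pos (show (0:ℝ) < P - 2 by linarith) h2, sq_nonneg P, mul_nonneg (mul_nonneg (sq_nonneg P) (show (0:ℝ) ≤ k by linarith)) (show (0:ℝ) ≤ k by linarith)]
  nlinarith [mul_pos h2 h2]

/-- The linear extension. -/
theorem exists_linear_extension (hp : 7 ≤ p) (hKc : L.K = Subgroup.center G) (he : e L = 2)
    (ζ : IrrCharacter G) (hfaith : ∀ g : G, (ζ : G → ℂ) g = (ζ : G → ℂ) 1 → g = 1)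
    (hdeg : Cfsg.charDegree (ζ : G → ℂ) = p - 2) (φ0 : IrrCharacter L.K)
    (hK : ∀ k : L.K, (ζ : G → ℂ) (k : G) = ((p - 2 : ℕ) : ℂ) * (φ0 : L.K → ℂ) k)
    (hrow : ∃ q : L.ColOver (L.orb φ0), L.cint ζ q.1 = 1 ∧
      ∀ q' : L.ColOver (L.orb φ0), q' ≠ q → L.cint ζ q'.1 = 0) :
    ∃ A B : IrrCharacter G, Cfsg.charDegree (A : G → ℂ) = 1 ∧
      Cfsg.charDegree (B : G → ℂ) = p - 1 ∧
      (∀ k : L.K, (A : G → ℂ) (k : G) = (φ0 : L.K → ℂ) k) ∧
      (∀ k : L.K, (B : G → ℂ) (k : G) = ((p - 1 : ℕ) : ℂ) * (φ0 : L.K → ℂ) k) ∧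
      (∃ u : G, u ∈ (L.P : Subgroup G) ∧ u ≠ 1 ∧ (B : G → ℂ) u = -1) ∧
      ∀ g : G, ¬ p ∣ orderOf g → (A : G → ℂ) g - (B : G → ℂ) g + (ζ : G → ℂ) g = 0 := by
  classical
  haveI := L.finite_lam
  letI := Fintype.ofFinite L.Lam
  haveI := Fintype.ofFinite L.K
  haveI := L.finite_col
  have hpp : p.Prime := Fact.out
  obtain ⟨q₀, hq₀, hq₀'⟩ := hrow
  haveI := Fintype.ofFinite (L.ColOver (L.orb φ0))
  obtain ⟨T⟩ := exists_two L (by omega) hKc he φ0
  have hcols : 1 < Fintype.card (L.ColOver (L.orb φ0)) := by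
    have := L.card_colOver_mul (L.orb φ0)
    rw [eO_central L hKc, he] at this
    rw [← Nat.card_eq_fintype_card]; omega
  -- `ζ` is the exceptional character of its column
  have hζf : ζ = T.f q₀ := by
    obtain ⟨q', hq'⟩ := Fintype.exists_ne_of_one_lt_card hcols q₀
    rcases T.cover ζ ⟨q₀, by rw [hq₀]; norm_num⟩ with h | h | ⟨q, h⟩
    · have h1 := T.rowA q'
      rw [← h, hq₀' q' hq'] at h1
      rcases T.ha with r | r <;> omega
    · have h1 := T.rowB q'
      rw [← h, hq₀' q' hq'] at h1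
      rcases T.hb with r | r <;> omega
    · have : q₀ = q := by
        by_contra hne
        have h1 := T.rowf_ne q q₀ hne
        rw [← h, hq₀] at h1
        exact one_ne_zero h1
      rw [h, this]
  have hs1 : T.s = 1 := by rw [← T.rowf_self q₀, ← hζf, hq₀]
  obtain ⟨s, hsN, hs2, hinv, honlyN⟩ := exists_inverting_ext L (by omega) hKc he
  set z0 : L.K := ⟨s * s, hs2⟩ with hz0
  have hcen : ∀ k : L.K, (k : G) ∈ Subgroup.center G := fun k => hKc ▸ k.2
  have hsv : ∀ (χ : IrrCharacter G), ∀ v ∈ (L.P : Subgroup G), (χ : G → ℂ) (s * v) = (χ : G → ℂ) s := by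
    intro χ v hv
    obtain ⟨j, hj⟩ : Odd p := hpp.odd_of_ne_two (by omega)
    set w := v ^ (j + 1) with hw
    have hwP : w ∈ (L.P : Subgroup G) := pow_mem hv _
    have hww : w * w = v := by
      rw [hw, ← pow_add, show j + 1 + (j + 1) = p + 1 by omega, pow_succ, L.pow_p hv, one_mul]
    have h1 : s * v = w⁻¹ * s * w := by
      have h2 : w⁻¹ = s * w * s⁻¹ := (hinv w hwP).symm
      rw [h2, ← hww]
      group
    rw [h1]
    have h3 := isClassFunction_of_isIrr χ.2 s w⁻¹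
    rwa [inv_inv] at h3
  have hζs : (ζ : G → ℂ) s ≠ 0 := by
    refine apply_ne_zero_of_sq ζ (hKc ▸ hs2) ?_
    rw [hdeg]
    have := hpp.odd_of_ne_two (by omega)
    obtain ⟨j, hj⟩ := this
    exact ⟨j - 1, by omega⟩
  obtain ⟨u0, hu0⟩ := exists_mem_ne_one L
  -- a conjugate of `s` in `s P K` lies in `s P`
  have hnoK : ∀ (c : G) (v : G) (k : L.K), v ∈ (L.P : Subgroup G) →
      c * s * c⁻¹ = s * (v * k) → k = 1 := by
    intro c v k hv hc
    have h1 : (ζ : G → ℂ) (s * v * k) = (ζ : G → ℂ) s := by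
      rw [mul_assoc, ← hc, isClassFunction_of_isIrr ζ.2]
    rw [apply_mul_central ζ (hcen k), hsv ζ v hv, hK k, ← Blocks.charDegree_cast ζ, hdeg,
      mul_div_assoc, mul_comm ((p - 2 : ℕ) : ℂ), div_mul_cancel₀ _
        (Nat.cast_ne_zero.2 (by omega) : ((p - 2 : ℕ) : ℂ) ≠ 0)] at h1
    have h2 : (φ0 : L.K → ℂ) k = 1 := mul_right_cancel₀ hζs (h1.trans (one_mul _).symm)
    refine Subtype.ext (hfaith _ ?_)
    rw [hK k, h2, mul_one, ← Blocks.charDegree_cast ζ, hdeg]
  have honly : ∀ a b : G, ∀ z : L.K, a * s * a⁻¹ * (b * s * b⁻¹) = (u0 : G) * z → z = z0 := by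
    intro a b z hab
    set a1 := a * s * a⁻¹ with ha1
    set b1 := b * s * b⁻¹ with hb1
    have hcs : ∀ w : G, (s * s) * w = w * (s * s) := fun w =>
      (Subgroup.mem_center_iff.1 (hcen z0) w).symm
    have ha2 : a1 * a1 = s * s := by
      rw [ha1, show a * s * a⁻¹ * (a * s * a⁻¹) = a * (s * s) * a⁻¹ by group, ← hcs a,
        mul_inv_cancel_right]
    have hb2 : b1 * b1 = s * s := by
      rw [hb1, show b * s * b⁻¹ * (b * s * b⁻¹) = b * (s * s) * b⁻¹ by group, ← hcs b,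
        mul_inv_cancel_right]
    have hz : ∀ w : G, (z : G) * w = w * z := fun w => (Subgroup.mem_center_iff.1 (hcen z) w).symm
    -- `a1` inverts `u0`
    have e1 : a1 * ((u0 : G) * z) * a1⁻¹ = b1 * a1 := by
      rw [← hab, show a1 * (a1 * b1) * a1⁻¹ = a1 * a1 * b1 * a1⁻¹ by group, ha2, hcs b1, ← ha2]
      group
    set c : G := (s * s) * (s * s) * ((z : G) * z)⁻¹ with hcdef
    have hcK : c ∈ L.K := mul_mem (mul_mem hs2 hs2) (inv_mem (mul_mem z.2 z.2))
    have e2 : a1 * (u0 : G) * a1⁻¹ = c * (u0 : G)⁻¹ := by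
      have h1 : a1 * ((u0 : G) * z) * a1⁻¹ = a1 * (u0 : G) * a1⁻¹ * z := by
        rw [mul_assoc (a1 * (u0 : G)) a1⁻¹, ← hz a1⁻¹]; group
      have h2 : b1 * a1 = (s * s) * (s * s) * ((u0 : G) * z)⁻¹ := by
        rw [eq_mul_inv_iff_mul_eq, ← hab,
          show b1 * a1 * (a1 * b1) = b1 * (a1 * a1) * b1 by group, ha2, ← hcs b1, mul_assoc, hb2]
      have h3 : a1 * (u0 : G) * a1⁻¹ = (s * s) * (s * s) * ((u0 : G) * z)⁻¹ * (z : G)⁻¹ :=
        eq_mul_inv_iff_mul_eq.2 (h1.symm.trans (e1.trans h2))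
      have hz2 : (u0 : G)⁻¹ * (z : G)⁻¹ = (z : G)⁻¹ * (u0 : G)⁻¹ := by
        rw [← mul_inv_rev, ← mul_inv_rev, hz]
      rw [h3, hcdef, mul_inv_rev (u0 : G), mul_inv_rev (z : G) (z : G)]
      simp only [mul_assoc]
      rw [hz2]
    have hc1 : c = 1 := by
      have h1 : (a1 * (u0 : G) * a1⁻¹) ^ p = 1 := by
        rw [conj_pow, L.pow_p u0.2, mul_one, mul_inv_cancel]
      have h2 : Commute c (u0 : G)⁻¹ := (L.commute (inv_mem u0.2) hcK).symm
      rw [e2, h2.mul_pow, inv_pow, L.pow_p u0.2, inv_one, mul_one] at h1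
      have h3 : orderOf c ∣ p := orderOf_dvd_of_pow_eq_one h1
      rcases (Nat.dvd_prime hpp).1 h3 with h4 | h4
      · exact orderOf_eq_one_iff.1 h4
      · exact absurd (h4 ▸ dvd_refl p) (L.not_dvd_orderOf hcK)
    rw [hc1, one_mul] at e2
    have ha : ∀ v ∈ (L.P : Subgroup G), a1 * v * a1⁻¹ = v⁻¹ := by
      intro v hv
      have hgen : Subgroup.zpowers (u0 : G) = (L.P : Subgroup G) :=
        Subgroup.eq_of_le_of_card_ge (Subgroup.zpowers_le.2 u0.2)
          (by rw [Nat.card_zpowers, L.orderOf_of_mem u0.2 (fun h => hu0 (Subtype.ext h)), L.card_P])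
      obtain ⟨i, rfl⟩ := Subgroup.mem_zpowers_iff.1 (hgen.symm ▸ hv)
      rw [← conj_zpow, e2, inv_zpow]
    obtain ⟨v, hv, k, hk, hak⟩ := honlyN a1 ha
    have hk1 : (⟨k, hk⟩ : L.K) = 1 := hnoK a v ⟨k, hk⟩ hv hak
    obtain rfl : k = 1 := congrArg Subtype.val hk1
    rw [mul_one] at hak
    -- so `b1` lies in `s P (z / z0)`
    have hb3 : b1 = s * ((v * (u0 : G)) * ((z0⁻¹ * z : L.K) : G)) := by
      have hsinv : s⁻¹ = s * ((z0⁻¹ : L.K) : G) := by
        rw [InvMemClass.coe_inv, hz0]; group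
      have hv' : v⁻¹ * s = s * v := by
        rw [← hinv v hv]; group
      have h1 : b1 = v⁻¹ * (s⁻¹ * ((u0 : G) * z)) := by
        rw [← hab, hak]; group
      rw [h1, hsinv, ← mul_assoc, ← mul_assoc v⁻¹, hv', Subgroup.coe_mul, mul_assoc,
        mul_assoc, mul_assoc]
      congr 2
      rw [← mul_assoc, ← Subgroup.mem_center_iff.1 (hcen z0⁻¹) (u0 : G), mul_assoc]
    have h2 := hnoK b _ (z0⁻¹ * z) (mul_mem hv u0.2) hb3
    exact (inv_mul_eq_one.1 h2).symm
  -- the principal block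
  set φ1 : IrrCharacter L.K := oneK L
  obtain ⟨T1⟩ := exists_two L (by omega) hKc he φ1
  have hS0 := twisted_pairs L hKc hu0 honly φ0
  have hS1 := twisted_pairs L hKc hu0 honly φ1
  rw [show (φ1 : L.K → ℂ) z0 = 1 from rfl, one_mul] at hS1
  rw [hS1] at hS0
  have hφn : ‖(φ0 : L.K → ℂ) z0‖ = 1 := by
    obtain ⟨f, hf⟩ := exists_hom_of_degree_one (isCharacter_of_isIrr φ0.2) (degree_one_of_central L hKc φ0)
    rw [hf]
    refine Complex.norm_eq_one_of_pow_eq_one (n := orderOf z0) ?_ (orderOf_pos _).ne'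
    rw [← Units.val_pow_eq_pow_val, ← map_pow, pow_orderOf_eq_one, map_one, Units.val_one]
  obtain ⟨q1⟩ : Nonempty (L.ColOver (L.orb φ1)) := by
    haveI := Fintype.ofFinite (L.ColOver (L.orb φ1))
    have h := L.card_colOver_mul (L.orb φ1)
    refine (Nat.card_pos_iff.1 (Nat.pos_of_ne_zero fun h0 => ?_)).1
    rw [h0, zero_mul] at h
    omega
  set F : IrrCharacter G → ℂ := fun χ => (χ : G → ℂ) s * (χ : G → ℂ) s / (χ : G → ℂ) 1
  have hsreg : ¬ p ∣ orderOf s := by
    intro h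
    have h1 : orderOf s ∣ 2 * orderOf z0 := by
      refine orderOf_dvd_of_pow_eq_one ?_
      rw [pow_mul, sq, show s * s = ((z0 : L.K) : G) from rfl, ← SubmonoidClass.coe_pow,
        pow_orderOf_eq_one]
      rfl
    rcases hpp.dvd_mul.1 (h.trans h1) with h2 | h2
    · have := Nat.le_of_dvd (by norm_num) h2; omega
    · exact L.not_dvd_orderOf z0.2 (by rwa [Subgroup.orderOf_coe])
  have hreg1 : ¬ p ∣ orderOf (1 : G) := by rw [orderOf_one, Nat.dvd_one]; exact hpp.ne_one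
  have hFc : ∀ {φ : IrrCharacter L.K} (T : Two L φ) (q q' : L.ColOver (L.orb φ)),
      F (T.f q') = F (T.f q) := by
    intro φ T q q'
    simp only [F]
    rw [T.regular q' q s hsreg, ← Blocks.charDegree_cast (T.f q'), ← Blocks.charDegree_cast (T.f q),
      T.deg q' q]
  rw [T.sum_val hKc q₀ hu0 F (hFc T q₀), T1.sum_val hKc q1 hu0 F (hFc T1 q1)] at hS0
  have hne : (Nat.card G : ℂ) * (Nat.card L.K : ℂ) ≠ 0 :=
    mul_ne_zero (Nat.cast_ne_zero.2 Nat.card_pos.ne') (Nat.cast_ne_zero.2 Nat.card_pos.ne')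
  rw [mul_left_comm] at hS0
  have hkey := mul_left_cancel₀ hne hS0
  have hnorm := congrArg (fun z : ℂ => ‖z‖) hkey
  simp only [norm_mul, hφn, one_mul] at hnorm
  -- the rows over `φ0`, ordered
  have hrel := T.rel q₀ 1 hreg1
  rw [← hζf, hs1, ← Blocks.charDegree_cast T.A, ← Blocks.charDegree_cast T.B,
    ← Blocks.charDegree_cast ζ, hdeg] at hrel
  have hrelZ : T.a * (Cfsg.charDegree (T.A : G → ℂ) : ℤ) + T.b * (Cfsg.charDegree (T.B : G → ℂ) : ℤ)
      + ((p - 2 : ℕ) : ℤ) = 0 := by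
    apply Int.cast_injective (α := ℂ)
    push_cast at hrel ⊢
    linear_combination hrel
  have hmem : ∀ (χ : IrrCharacter G) (a : ℤ), (a = 1 ∨ a = -1) →
      (∀ q : L.ColOver (L.orb φ0), L.cint χ q.1 = a) →
      ∃ m : ℕ, (Cfsg.charDegree (χ : G → ℂ) : ℤ) + (p - 1 : ℕ) * a = p * m ∧
        ‖(χ : G → ℂ) s‖ ≤ (m : ℝ) := by
    intro χ a ha hc
    obtain ⟨m, hm, hb⟩ := exists_fixed_bound hKc (χ := χ) ⟨q₀, by rw [hc]; rcases ha with r | r <;> rw [r] <;> norm_num⟩
      hsN (hsv χ)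
    refine ⟨m, ?_, hb⟩
    rw [← hm]
    simp only [hc, Finset.sum_const, Finset.card_univ, nsmul_eq_mul, ← Nat.card_eq_fintype_card,
      L.card_lam]
  obtain ⟨mA, hmA, hbA⟩ := hmem T.A T.a T.ha T.rowA
  obtain ⟨mB, hmB, hbB⟩ := hmem T.B T.b T.hb T.rowB
  obtain ⟨A, B, mP, mN, hrelS, hAdeg, hBdeg, hAval, hBval, hbP, hbN, hFsum, hAu, hBu⟩ :
      ∃ (A B : IrrCharacter G) (mP mN : ℕ),
      (∀ g : G, ¬ p ∣ orderOf g → (A : G → ℂ) g - (B : G → ℂ) g + (ζ : G → ℂ) g = 0) ∧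
      (Cfsg.charDegree (A : G → ℂ) : ℤ) + (p - 1 : ℕ) = p * mP ∧
      (Cfsg.charDegree (B : G → ℂ) : ℤ) - (p - 1 : ℕ) = p * mN ∧
      (Cfsg.charDegree (A : G → ℂ) : ℤ) + ((p - 2 : ℕ) : ℤ) = Cfsg.charDegree (B : G → ℂ) ∧
      0 < Cfsg.charDegree (B : G → ℂ) ∧
      ‖(A : G → ℂ) s‖ ≤ (mP : ℝ) ∧ ‖(B : G → ℂ) s‖ ≤ (mN : ℝ) ∧
      (T.a : ℂ) * F T.A + (T.b : ℂ) * F T.B + (T.s : ℂ) * F (T.f q₀) = F A - F B + F ζ ∧
      valOver L A φ0 u0 = 1 ∧ valOver L B φ0 u0 = -1 := by
    have hB0 : ∀ χ : IrrCharacter G, 0 < Cfsg.charDegree (χ : G → ℂ) := fun χ =>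
      Nat.pos_of_ne_zero (Blocks.charDegree_ne_zero χ)
    have hA1 := hB0 T.A
    have hB1 := hB0 T.B
    rcases T.ha with ra | ra <;> rcases T.hb with rb | rb
    · exfalso; rw [ra, rb] at hrelZ; omega
    · refine ⟨T.A, T.B, mA, mB, fun g hg => ?_, ?_, ?_, ?_, hB1, hbA, hbB, ?_, ?_, ?_⟩
      · have := T.rel q₀ g hg
        rw [← hζf, ra, rb, hs1] at this
        push_cast at this
        linear_combination this
      · rw [ra] at hmA; linarith
      · rw [rb] at hmB; linarith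
      · rw [ra, rb] at hrelZ; linarith
      · rw [ra, rb, hs1, ← hζf]; push_cast; ring
      · rw [T.valA hKc hu0, ra, Int.cast_one]
      · rw [T.valB hKc hu0, rb]; simp
    · refine ⟨T.B, T.A, mB, mA, fun g hg => ?_, ?_, ?_, ?_, hA1, hbB, hbA, ?_, ?_, ?_⟩
      · have := T.rel q₀ g hg
        rw [← hζf, ra, rb, hs1] at this
        push_cast at this
        linear_combination this
      · rw [rb] at hmB; linarith
      · rw [ra] at hmA; linarith
      · rw [ra, rb] at hrelZ; linarith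
      · rw [ra, rb, hs1, ← hζf]; push_cast; ring
      · rw [T.valB hKc hu0, rb, Int.cast_one]
      · rw [T.valA hKc hu0, ra]; simp
    · exfalso
      rw [ra] at hmA
      rw [rb] at hmB
      rw [ra, rb] at hrelZ
      have h1 := mul_nonneg (Nat.cast_nonneg (α := ℤ) p) (Nat.cast_nonneg (α := ℤ) mA)
      have h2 := mul_nonneg (Nat.cast_nonneg (α := ℤ) p) (Nat.cast_nonneg (α := ℤ) mB)
      omega
  by_cases hlin : Cfsg.charDegree (A : G → ℂ) = 1
  · have hBd : Cfsg.charDegree (B : G → ℂ) = p - 1 := by omega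
    have hval : ∀ (χ : IrrCharacter G) (c : ℂ), valOver L χ φ0 u0 = c → c ≠ 0 →
        ∀ k : L.K, (χ : G → ℂ) (k : G) =
          (Cfsg.charDegree (χ : G → ℂ) : ℂ) * (φ0 : L.K → ℂ) k := by
      intro χ c hc hc0 k
      have hsc : ∀ ψ : IrrCharacter L.K, ψ ≠ φ0 → valOver L χ ψ u0 = 0 := by
        intro ψ hψ
        rw [valOver, neg_eq_zero]
        refine Finset.sum_eq_zero fun l _ => mul_eq_zero_of_left ?_ _
        rw [← L.cint_col]
        by_contra hne
        refine hc0 (hc.symm.trans ?_)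
        rw [valOver, neg_eq_zero]
        refine Finset.sum_eq_zero fun l' _ => mul_eq_zero_of_left ?_ _
        rw [← L.cint_col]
        by_contra hne'
        exact hψ (eq_of_orb_central L hKc ((L.counting.2.2.2 χ (L.col (l, ψ)) (L.col (l', φ0))
          (fun hz => hne (by rw [hz, Int.cast_zero]))
          (fun hz => hne' (by rw [hz, Int.cast_zero]))).symm))
      have hvz : ∀ z : L.K, (χ : G → ℂ) ((u0 : G) * z) = (φ0 : L.K → ℂ) z * c := by
        intro z
        rw [value_general L χ hu0 z, ← Finset.sum_neg_distrib, Finset.sum_eq_single φ0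
          (fun ψ _ hψ => by
            have := hsc ψ hψ
            rw [valOver, neg_eq_zero] at this
            rw [this, mul_zero, neg_zero]) (by simp), ← hc, valOver]
        ring
      have h1 := hvz k
      have h2 := hvz 1
      rw [OneMemClass.coe_one, mul_one, degree_one_of_central L hKc φ0, one_mul] at h2
      rw [apply_mul_central χ (hcen k), h2] at h1
      rw [← mul_right_cancel₀ hc0 h1, Blocks.charDegree_cast, mul_div_cancel₀ _ (irr_one_ne_zero χ.2)]
    refine ⟨A, B, hlin, hBd, fun k => ?_, fun k => ?_, ⟨u0, u0.2, fun h => hu0 (Subtype.ext h), ?_⟩,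
      hrelS⟩
    · rw [hval A 1 hAu one_ne_zero k, hlin, Nat.cast_one, one_mul]
    · rw [hval B (-1) hBu (by norm_num) k, hBd]
    · have h1 : (B : G → ℂ) ((u0 : G) * ((1 : L.K) : G)) =
          ∑ ψ : IrrCharacter L.K, (ψ : L.K → ℂ) 1 * valOver L B ψ u0 := by
        rw [value_general L B hu0 1, ← Finset.sum_neg_distrib]
        exact Finset.sum_congr rfl fun ψ _ => by rw [valOver]; ring
      rw [OneMemClass.coe_one, mul_one, Finset.sum_eq_single φ0, degree_one_of_central L hKc φ0,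
        one_mul, hBu] at h1
      · exact h1
      · intro ψ _ hψ
        refine mul_eq_zero_of_right _ ?_
        rw [valOver, neg_eq_zero]
        refine Finset.sum_eq_zero fun l _ => mul_eq_zero_of_left ?_ _
        rw [← L.cint_col]
        by_contra hne
        have hne2 : valOver L B φ0 u0 ≠ 0 := by rw [hBu]; norm_num
        refine hne2 ?_
        rw [valOver, neg_eq_zero]
        refine Finset.sum_eq_zero fun l' _ => mul_eq_zero_of_left ?_ _
        rw [← L.cint_col]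
        by_contra hne'
        exact hψ (eq_of_orb_central L hKc ((L.counting.2.2.2 B (L.col (l, ψ)) (L.col (l', φ0))
          (fun hz => hne (by rw [hz, Int.cast_zero]))
          (fun hz => hne' (by rw [hz, Int.cast_zero]))).symm))
      · simp
  exfalso
  -- the fixed dimensions
  set dA := Cfsg.charDegree (A : G → ℂ)
  set dB := Cfsg.charDegree (B : G → ℂ)
  have hmN : (mP : ℤ) = mN + 1 := by
    have h1 : (p : ℤ) * mP = p * (mN + 1) := by
      have : ((p - 2 : ℕ) : ℤ) = (p : ℤ) - 2 := by omega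
      have h2 : ((p - 1 : ℕ) : ℤ) = (p : ℤ) - 1 := by omega
      rw [this] at hAval
      rw [h2] at hAdeg hBdeg
      linear_combination -hAdeg + hBdeg + hAval
    exact mul_left_cancel₀ (by exact_mod_cast hpp.ne_zero) h1
  have hmN1 : 1 ≤ mN := by
    by_contra h
    have : mN = 0 := by omega
    subst this
    have h2 : mP = 1 := by omega
    subst h2
    omega
  obtain ⟨mZ, hmZ, hbZ⟩ := exists_fixed_bound hKc (χ := ζ) ⟨q₀, by rw [hq₀]; norm_num⟩ hsN (hsv ζ)
  have hsumζ : ∑ l : L.Lam, L.cint ζ (L.colLam (L.orb φ0) l).1 = 2 := by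
    rw [L.sum_unitRow (L.orb φ0) ζ q₀ ⟨by rw [hq₀]; norm_num, hq₀'⟩, hq₀, eO_central L hKc, he]
    norm_num
  rw [hsumζ, hdeg] at hmZ
  have hmZ1 : mZ = 1 := by
    have : (p : ℤ) * 1 = p * mZ := by rw [← hmZ]; omega
    have := mul_left_cancel₀ (by exact_mod_cast hpp.ne_zero : (p : ℤ) ≠ 0) this
    omega
  subst hmZ1
  set k : ℝ := (mN : ℝ) with hk
  set P : ℝ := (p : ℝ) with hP
  have hk1 : 1 ≤ k := by rw [hk]; exact_mod_cast hmN1
  have hP7 : 7 ≤ P := by rw [hP]; exact_mod_cast hp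
  have hdAr : (dA : ℝ) = P * k + 1 := by
    have h2 : ((p - 1 : ℕ) : ℤ) = (p : ℤ) - 1 := by omega
    rw [h2, hmN] at hAdeg
    have h3 : (dA : ℤ) = p * mN + 1 := by linear_combination hAdeg
    rw [hk, hP]; exact_mod_cast h3
  have hdBr : (dB : ℝ) = P * k + P - 1 := by
    have h2 : ((p - 1 : ℕ) : ℤ) = (p : ℤ) - 1 := by omega
    rw [h2] at hBdeg
    have h3 : (dB : ℤ) = p * mN + p - 1 := by linear_combination hBdeg
    rw [hk, hP]; exact_mod_cast h3
  have hdCr : ((p - 2 : ℕ) : ℝ) = P - 2 := by rw [hP, Nat.cast_sub (by omega)]; norm_num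
  set x := (A : G → ℂ) s
  set y := (ζ : G → ℂ) s
  have hdA0 : (dA : ℂ) ≠ 0 := Nat.cast_ne_zero.2 (Blocks.charDegree_ne_zero A)
  have hdC0 : ((p - 2 : ℕ) : ℂ) ≠ 0 := Nat.cast_ne_zero.2 (by omega)
  have hdBsum : (dB : ℂ) = (dA : ℂ) + ((p - 2 : ℕ) : ℂ) := by exact_mod_cast hAval.symm
  have hBs : (B : G → ℂ) s = x + y := by linear_combination -(hrelS s hsreg)
  have hFval : F A - F B + F ζ = (((p - 2 : ℕ) : ℂ) * x - (dA : ℂ) * y) ^ 2 /
      ((dA : ℂ) * ((p - 2 : ℕ) : ℂ) * ((dA : ℂ) + ((p - 2 : ℕ) : ℂ))) := by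
    simp only [F, ← Blocks.charDegree_cast, hdeg]
    rw [hBs, show ((Cfsg.charDegree (B : G → ℂ) : ℕ) : ℂ) = (dA : ℂ) + ((p - 2 : ℕ) : ℂ) from hdBsum]
    exact coefficient_eq hdA0 hdC0 (by rw [← hdBsum]; exact Nat.cast_ne_zero.2 hBval.ne')
  have hup : ‖F A - F B + F ζ‖ * P ^ 2 < (P - 1) ^ 2 := by
    rw [hFval, ← hdBsum, norm_div, norm_pow, norm_mul, norm_mul, Complex.norm_natCast,
      Complex.norm_natCast, Complex.norm_natCast, hdAr, hdBr, hdCr]
    have hnum : ‖((p - 2 : ℕ) : ℂ) * x - (dA : ℂ) * y‖ ≤ (P - 1) * (2 * k + 1) := by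
      have hxb : ‖x‖ ≤ k + 1 := by
        refine hbP.trans ?_
        rw [hk]
        exact_mod_cast le_of_eq hmN
      have hyb : ‖y‖ ≤ 1 := by simpa using hbZ
      refine (norm_sub_le _ _).trans ?_
      rw [norm_mul, norm_mul, Complex.norm_natCast, Complex.norm_natCast, hdAr, hdCr]
      have h1 : (P - 2) * ‖x‖ ≤ (P - 2) * (k + 1) := mul_le_mul_of_nonneg_left hxb (by linarith)
      have h2 : (P * k + 1) * ‖y‖ ≤ (P * k + 1) * 1 :=
        mul_le_mul_of_nonneg_left hyb (by nlinarith)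
      linarith
    have hden : 0 < (P * k + 1) * (P - 2) * (P * k + P - 1) := by
      have : 0 ≤ P * k := by positivity
      have h1 : (0:ℝ) < P * k + 1 := by linarith
      have h2 : (0:ℝ) < P - 2 := by linarith
      have h3 : (0:ℝ) < P * k + P - 1 := by linarith
      positivity
    rw [div_mul_eq_mul_div, div_lt_iff₀ hden]
    refine lt_of_le_of_lt ?_ (upper_bound hP7 hk1)
    exact mul_le_mul_of_nonneg_right (pow_le_pow_left₀ (norm_nonneg _) hnum 2) (sq_nonneg _)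
  -- the principal block
  have hrow1 : ∀ q : L.ColOver (L.orb φ1), L.cint (⟨_, isIrr_one⟩ : IrrCharacter G) q.1 = 1 := by
    obtain ⟨χ, hχ, hc⟩ := one_isConst L
    have : (⟨_, isIrr_one⟩ : IrrCharacter G) = χ := Subtype.ext hχ.symm
    rw [this]
    exact hc.2
  set one : IrrCharacter G := ⟨_, isIrr_one⟩
  have hones : (one : G → ℂ) s = 1 := rfl
  have hF1 : F one = 1 := by simp [F, one]
  obtain ⟨B1, b1, hb1, hB1row, hrel1, hF1sum⟩ : ∃ (B1 : IrrCharacter G) (b1 : ℤ), (b1 = 1 ∨ b1 = -1) ∧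
      (∀ q : L.ColOver (L.orb φ1), L.cint B1 q.1 = b1) ∧
      (∀ g : G, ¬ p ∣ orderOf g →
        1 + (b1 : ℂ) * (B1 : G → ℂ) g + (T1.s : ℂ) * (T1.f q1 : G → ℂ) g = 0) ∧
      (T1.a : ℂ) * F T1.A + (T1.b : ℂ) * F T1.B + (T1.s : ℂ) * F (T1.f q1) =
        1 + (b1 : ℂ) * F B1 + (T1.s : ℂ) * F (T1.f q1) := by
    have hcols1 : ∀ q, ∃ q' : L.ColOver (L.orb φ1), q' ≠ q := by
      intro q
      haveI := Fintype.ofFinite (L.ColOver (L.orb φ1))
      have h := L.card_colOver_mul (L.orb φ1)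
      rw [eO_central L hKc, he, Nat.card_eq_fintype_card] at h
      exact Fintype.exists_ne_of_one_lt_card (by omega) q
    rcases T1.cover one ⟨q1, by rw [hrow1]; norm_num⟩ with h | h | ⟨q, h⟩
    · have ha1 : T1.a = 1 := by rw [← T1.rowA q1, ← h, hrow1]
      refine ⟨T1.B, T1.b, T1.hb, T1.rowB, fun g hg => ?_, ?_⟩
      · have := T1.rel q1 g hg
        rw [← h, ha1] at this
        simpa [one] using this
      · rw [← h, ha1, hF1]; push_cast; ring
    · have hb' : T1.b = 1 := by rw [← T1.rowB q1, ← h, hrow1]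
      refine ⟨T1.A, T1.a, T1.ha, T1.rowA, fun g hg => ?_, ?_⟩
      · have := T1.rel q1 g hg
        rw [← h, hb'] at this
        simp only [one, Int.cast_one, one_mul] at this
        linear_combination this
      · rw [← h, hb', hF1]; push_cast; ring
    · obtain ⟨q', hq'⟩ := hcols1 q
      have h1 := T1.rowf_ne q q' hq'
      rw [← h, hrow1] at h1
      exact absurd h1 one_ne_zero
  have hsvalB : ∃ m : ℕ, (Cfsg.charDegree (B1 : G → ℂ) : ℤ) + (p - 1 : ℕ) * b1 = p * m ∧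
      ‖(B1 : G → ℂ) s‖ ≤ (m : ℝ) := by
    obtain ⟨m, hm, hb⟩ := exists_fixed_bound hKc (φ := φ1) (χ := B1)
      ⟨q1, by rw [hB1row]; rcases hb1 with r | r <;> rw [r] <;> norm_num⟩ hsN (hsv B1)
    refine ⟨m, ?_, hb⟩
    rw [← hm]
    simp only [hB1row, Finset.sum_const, Finset.card_univ, nsmul_eq_mul, ← Nat.card_eq_fintype_card,
      L.card_lam]
  obtain ⟨mB1, hmB1, hbB1⟩ := hsvalB
  obtain ⟨mC1, hmC1, hbC1⟩ := exists_fixed_bound hKc (φ := φ1) (χ := T1.f q1)
    ⟨q1, by rw [T1.rowf_self]; rcases T1.hs with r | r <;> rw [r] <;> norm_num⟩ hsN (hsv _)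
  have hsumC1 : ∑ l : L.Lam, L.cint (T1.f q1) (L.colLam (L.orb φ1) l).1 = 2 * T1.s := by
    rw [L.sum_unitRow (L.orb φ1) (T1.f q1) q1
      ⟨by rw [T1.rowf_self]; rcases T1.hs with r | r <;> rw [r] <;> norm_num, T1.rowf_ne q1⟩,
      T1.rowf_self, eO_central L hKc, he]
    norm_num
  rw [hsumC1] at hmC1
  set dC := Cfsg.charDegree (T1.f q1 : G → ℂ)
  set dB1 := Cfsg.charDegree (B1 : G → ℂ)
  set v := (T1.f q1 : G → ℂ) s
  set w := (B1 : G → ℂ) s
  have hrelw := hrel1 s hsreg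
  have hrel1' := hrel1 1 hreg1
  rw [← Blocks.charDegree_cast, ← Blocks.charDegree_cast] at hrel1'
  have hdC1 : 0 < dC := Nat.pos_of_ne_zero (Blocks.charDegree_ne_zero _)
  have hdB1pos : 0 < dB1 := Nat.pos_of_ne_zero (Blocks.charDegree_ne_zero _)
  have hrel1Z : (1 : ℤ) + b1 * dB1 + T1.s * dC = 0 := by
    apply Int.cast_injective (α := ℂ)
    push_cast
    linear_combination hrel1'
  have hlow : (P - 1) ^ 2 ≤ ‖(1 : ℂ) + (b1 : ℂ) * F B1 + (T1.s : ℂ) * F (T1.f q1)‖ * P ^ 2 := by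
    have hval : (1 : ℂ) + (b1 : ℂ) * F B1 + (T1.s : ℂ) * F (T1.f q1) =
        ((dC : ℂ) - v) ^ 2 / ((dC : ℂ) * (dB1 : ℂ)) := by
      simp only [F, ← Blocks.charDegree_cast]
      rcases T1.hs with rs | rs <;> rcases hb1 with rb | rb <;>
        rw [rs, rb] at hrel1Z hrelw ⊢ <;> push_cast at hrelw ⊢
      · exfalso; omega
      · have e1 : (dB1 : ℂ) = dC + 1 := by
          have : (dB1 : ℤ) = dC + 1 := by linarith
          exact_mod_cast this
        have e2 : w = v + 1 := by linear_combination -hrelw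
        show 1 + -1 * (w * w / (dB1 : ℂ)) + 1 * (v * v / (dC : ℂ)) = _
        rw [e1, e2]
        have h1 : (dC : ℂ) ≠ 0 := Nat.cast_ne_zero.2 hdC1.ne'
        have h2 : (dC : ℂ) + 1 ≠ 0 := by rw [← e1]; exact Nat.cast_ne_zero.2 hdB1pos.ne'
        field_simp
        ring
      · have e1 : (dC : ℂ) = dB1 + 1 := by
          have : (dC : ℤ) = dB1 + 1 := by linarith
          exact_mod_cast this
        have e2 : v = w + 1 := by linear_combination -hrelw
        show 1 + 1 * (w * w / (dB1 : ℂ)) + -1 * (v * v / (dC : ℂ)) = _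
        rw [e1, e2]
        have h1 : (dB1 : ℂ) ≠ 0 := Nat.cast_ne_zero.2 hdB1pos.ne'
        have h2 : (dB1 : ℂ) + 1 ≠ 0 := by rw [← e1]; exact Nat.cast_ne_zero.2 hdC1.ne'
        field_simp
        ring
      · exfalso; omega
    rw [hval, norm_div, norm_pow, norm_mul, Complex.norm_natCast, Complex.norm_natCast]
    have hden : (0 : ℝ) < (dC : ℝ) * dB1 :=
      mul_pos (Nat.cast_pos.2 hdC1) (Nat.cast_pos.2 hdB1pos)
    rw [div_mul_eq_mul_div, le_div_iff₀ hden]
    have h2m : ((p - 1 : ℕ) : ℤ) = (p : ℤ) - 1 := by omega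
    rw [h2m] at hmB1
    rcases T1.hs with rs | rs <;> rcases hb1 with rb | rb <;> rw [rs] at hmC1 <;> rw [rb] at hmB1 <;>
      rw [rs, rb] at hrel1Z
    · exfalso; omega
    · have e1 : (dB1 : ℝ) = dC + 1 := by
        have : (dB1 : ℤ) = dC + 1 := by linarith
        exact_mod_cast this
      have e2 : w = v + 1 := by
        rw [rs, rb] at hrelw
        push_cast at hrelw
        linear_combination -hrelw
      have h3 : (dC : ℝ) + 2 = P * mC1 := by rw [hP]; exact_mod_cast (by linarith : (dC : ℤ) + 2 = p * mC1)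
      have h4 : (mB1 : ℝ) + 1 = mC1 := by
        have h5 : (p : ℤ) * ((mB1 : ℤ) + 1) = p * mC1 := by nlinarith
        exact_mod_cast mul_left_cancel₀ (by exact_mod_cast hpp.ne_zero : (p : ℤ) ≠ 0) h5
      have h6 : (P - 1) * mC1 ≤ ‖(dC : ℂ) - v‖ := by
        have h7 : (dC : ℝ) + 1 - ‖w‖ ≤ ‖(dC : ℂ) - v‖ := by
          have h8 := norm_sub_norm_le ((dC + 1 : ℕ) : ℂ) w
          rw [Complex.norm_natCast] at h8
          push_cast at h8
          rw [show ((dC : ℂ) + 1) - w = (dC : ℂ) - v by rw [e2]; ring] at h8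
          exact h8
        refine le_trans ?_ h7
        nlinarith
      have h9 : (dC : ℝ) * dB1 ≤ (P * mC1) ^ 2 := by
        rw [e1]; nlinarith
      calc (P - 1) ^ 2 * ((dC : ℝ) * dB1) ≤ (P - 1) ^ 2 * (P * mC1) ^ 2 :=
            mul_le_mul_of_nonneg_left h9 (sq_nonneg _)
        _ = ((P - 1) * mC1) ^ 2 * P ^ 2 := by ring
        _ ≤ _ := mul_le_mul_of_nonneg_right
            (pow_le_pow_left₀ (mul_nonneg (by linarith) (Nat.cast_nonneg _)) h6 2) (sq_nonneg _)
    · have e1 : (dC : ℝ) = dB1 + 1 := by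
        have : (dC : ℤ) = dB1 + 1 := by linarith
        exact_mod_cast this
      have h3 : (dC : ℝ) = P * mC1 + 2 := by rw [hP]; exact_mod_cast (by linarith : (dC : ℤ) = p * mC1 + 2)
      have h6 : (P - 1) * mC1 + 2 ≤ ‖(dC : ℂ) - v‖ := by
        have h8 := norm_sub_norm_le (dC : ℂ) v
        rw [Complex.norm_natCast] at h8
        refine le_trans ?_ h8
        rw [h3]
        linarith
      have h9 : (dC : ℝ) * dB1 ≤ (P * mC1 + 2) ^ 2 := by
        rw [h3] at e1 ⊢; nlinarith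
      calc (P - 1) ^ 2 * ((dC : ℝ) * dB1) ≤ (P - 1) ^ 2 * (P * mC1 + 2) ^ 2 :=
            mul_le_mul_of_nonneg_left h9 (sq_nonneg _)
        _ = ((P - 1) * (P * mC1 + 2)) ^ 2 := by ring
        _ ≤ (((P - 1) * mC1 + 2) * P) ^ 2 := by
            refine pow_le_pow_left₀ (mul_nonneg (by linarith) (by positivity)) ?_ 2
            linarith
        _ = ((P - 1) * mC1 + 2) ^ 2 * P ^ 2 := by ring
        _ ≤ _ := mul_le_mul_of_nonneg_right
            (pow_le_pow_left₀ (add_nonneg (mul_nonneg (by linarith) (Nat.cast_nonneg _)) (by norm_num)) h6 2)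
            (sq_nonneg _)
    · exfalso; omega
  rw [hFsum, hF1sum] at hnorm
  rw [hnorm] at hlow
  linarith

end CfsgLib.BrauerOrderP
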