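import Cfsg.Agent.DefectOne.Canonical
import Cfsg.Agent.Characters.Integrality

/-!
# The principal orbit for a Sylow subgroup of order `p`

The values of the characters over the trivial character of the complement `K` at the elements
`u * k`, their degrees modulo `p`, and the divisibility of the degrees into the class length of `u`.
-/

set_option autoImplicit false
set_option linter.style.haveILetI false
set_option linter.unusedSectionVars false

namespace CfsgLib.BrauerOrderP

open Cfsg CfsgLib.Characters CfsgLib.DefectOne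
open scoped ComplexConjugate

universe u

variable {G : Type u} [Group G] {p : ℕ} [Fact p.Prime] [Fintype G] (L : Local p G)

/-- The trivial character of the complement. -/
noncomputable def oneK : IrrCharacter L.K := ⟨fun _ => 1, isIrr_one⟩

theorem oneK_apply (k : L.K) : (oneK L : L.K → ℂ) k = 1 := rfl

/-- Its orbit. -/
noncomputable def O0 : L.Orb := L.orb (oneK L)

theorem eq_oneK_of_orb {φ : IrrCharacter L.K} (h : L.orb φ = O0 L) : φ = oneK L := by
  obtain ⟨n, hn⟩ := L.orb_eq_iff.1 h.symm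
  rw [hn]
  exact Subtype.ext (funext fun k => rfl)

theorem out_O0 : (Quotient.out (O0 L) : IrrCharacter L.K) = oneK L :=
  eq_oneK_of_orb L (Quotient.out_eq (O0 L))

/-- The inertial index `[N(P) : C(P)]`. -/
noncomputable def e : ℕ := L.eO (O0 L)

theorem e_pos : 0 < e L := L.eO_pos _

theorem card_N : e L * (p * Nat.card L.K) = Nat.card L.N := by
  have h := L.orbCard_mul (O0 L)
  rw [show L.orbCard (O0 L) = 1 from Nat.card_eq_one_iff_unique.2
    ⟨⟨fun a b => Subtype.ext ((eq_oneK_of_orb L a.2).trans (eq_oneK_of_orb L b.2).symm)⟩,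
      ⟨⟨oneK L, rfl⟩⟩⟩, one_mul] at h
  exact h

theorem e_dvd : e L ∣ p - 1 := ⟨_, by rw [mul_comm]; exact (L.card_colOver_mul (O0 L)).symm⟩

theorem e_lt : e L < p := by
  have h2 := (Fact.out : p.Prime).two_le
  have := Nat.le_of_dvd (by omega) (e_dvd L)
  omega

theorem card_cols_mul : Nat.card (L.ColOver (O0 L)) * e L = p - 1 := L.card_colOver_mul _

/-- The coefficient at a linear character of `P`. -/
noncomputable def coef (χ : IrrCharacter G) (l : L.Lam) : ℤ :=
  L.cint χ (L.colLam (O0 L) l).1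

theorem coef_cast (χ : IrrCharacter G) (l : L.Lam) :
    (coef L χ l : ℂ) = L.cvec χ (l, oneK L) := by
  rw [coef, L.cint_colLam, out_O0]

/-- The characters over the trivial orbit. -/
abbrev InB (χ : IrrCharacter G) : Prop := ∃ q : L.ColOver (O0 L), L.cint χ q.1 ≠ 0

/-! ### Values -/

open Classical in
theorem value_general [Fintype L.Lam] (χ : IrrCharacter G) {u : ↥(L.P : Subgroup G)} (hu : u ≠ 1)
    (k : L.K) : (χ : G → ℂ) ((u : G) * k) =
      -∑ φ : IrrCharacter L.K, (φ : L.K → ℂ) k * ∑ l : L.Lam, L.cvec χ (l, φ) * (l.1 u : ℂ) := by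
  haveI := L.isMulCommutative
  letI := Fintype.ofFinite L.PK
  haveI := Fintype.ofFinite (L.P : Subgroup G)
  haveI := Fintype.ofFinite L.K
  haveI : Finite (↥(L.P : Subgroup G) →* ℂˣ) := BlocksFrobenius.finite_dual
  haveI := Fintype.ofFinite (↥(L.P : Subgroup G) →* ℂˣ)
  set f : G → ℂ := (χ : G → ℂ) with hf
  set g : IrrCharacter L.K → ↥(L.P : Subgroup G) → ℂ := fun φ v =>
    Cfsg.classInner (fun k : L.K => f (L.emb (v, k))) (φ : L.K → ℂ) with hg
  have hp0 : (p : ℂ) ≠ 0 := Nat.cast_ne_zero.2 (Fact.out : p.Prime).ne_zero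
  have hcv : ∀ (φ : IrrCharacter L.K) (l : L.Lam),
      L.cvec χ (l, φ) = (p : ℂ)⁻¹ * ∑ v, g φ v * (1 - conj (l.1 v : ℂ)) := by
    intro φ l
    simp only [L.cvec_eq, hg, Cfsg.classInner, L.sum_PK, L.card_PK, Nat.cast_mul, mul_inv,
      Finset.mul_sum, Finset.sum_mul]
    refine Finset.sum_congr rfl fun v _ => Finset.sum_congr rfl fun k _ => ?_
    simp only [Local.psi, Local.res, map_mul, map_sub, map_one, hf]
    ring
  have hkey : ∀ φ : IrrCharacter L.K, ∑ l : L.Lam, L.cvec χ (l, φ) * (l.1 u : ℂ) = -g φ u := by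
    intro φ
    have hsub : ∑ l : L.Lam, L.cvec χ (l, φ) * (l.1 u : ℂ) =
        ∑ l : ↥(L.P : Subgroup G) →* ℂˣ,
          ((p : ℂ)⁻¹ * ∑ v, g φ v * (1 - conj (l v : ℂ))) * (l u : ℂ) := by
      simp only [hcv]
      rw [← Finset.sum_subtype (Finset.univ.filter fun l : (L.P : Subgroup G) →* ℂˣ => l ≠ 1)
        (fun l => by simp)
        (fun l => ((p : ℂ)⁻¹ * ∑ v, g φ v * (1 - conj (l v : ℂ))) * (l u : ℂ)), Finset.sum_filter]
      refine Finset.sum_congr rfl fun l _ => ?_
      by_cases hl : l = 1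
      · simp [hl]
      · rw [if_pos hl]
    have h4 : ∀ v, ∑ l : ↥(L.P : Subgroup G) →* ℂˣ, (1 - conj (l v : ℂ)) * (l u : ℂ) =
        if v = u then -(p : ℂ) else 0 := by
      intro v
      have h5 : ∀ l : ↥(L.P : Subgroup G) →* ℂˣ, (1 - conj (l v : ℂ)) * (l u : ℂ) =
          (l u : ℂ) - (l (v⁻¹ * u) : ℂ) := fun l => by
        rw [sub_mul, one_mul, BlocksFrobenius.conj_apply, map_mul, map_inv, Units.val_mul,
          MonoidHom.inv_apply]
      simp only [h5, Finset.sum_sub_distrib, BlocksFrobenius.sum_dual_apply, if_neg hu, L.card_P,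
        inv_mul_eq_one]
      split_ifs <;> simp
    rw [hsub]
    simp only [Finset.mul_sum, Finset.sum_mul, mul_assoc]
    rw [Finset.sum_comm]
    simp only [← Finset.mul_sum, h4, mul_ite, mul_zero, Finset.sum_ite_eq', Finset.mem_univ,
      if_true]
    field_simp
  have hcl : Cfsg.IsClassFunction L.K (fun k : L.K => f (L.emb (u, k))) := by
    intro k l
    have : L.emb (u, l * k * l⁻¹) = (l : G) * L.emb (u, k) * (l : G)⁻¹ := by
      simp only [Local.emb_apply, Subgroup.coe_mul, InvMemClass.coe_inv]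
      rw [← mul_assoc (l : G) (u : G), ← (L.commute u.2 l.2).eq]
      group
    show f (L.emb (u, l * k * l⁻¹)) = _
    rw [this, hf, isClassFunction_of_isIrr χ.2]
  have h := congrFun (classFunction_expansion hcl) k
  rw [← Finset.sum_neg_distrib]
  show f (L.emb (u, k)) = _
  refine h.trans ?_
  rw [Finset.sum_apply]
  refine Finset.sum_congr rfl fun φ _ => ?_
  rw [hkey φ, Pi.smul_apply, smul_eq_mul, mul_neg, neg_neg, mul_comm]

/-- The values of a character over the trivial orbit. -/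
theorem value [Fintype L.Lam] {χ : IrrCharacter G} (h : InB L χ) {u : ↥(L.P : Subgroup G)}
    (hu : u ≠ 1) (k : L.K) :
    (χ : G → ℂ) ((u : G) * k) = -∑ l : L.Lam, (coef L χ l : ℂ) * (l.1 u : ℂ) := by
  classical
  rw [value_general L χ hu k, Finset.sum_eq_single (oneK L) (fun φ _ hφ => ?_) (by simp),
    oneK_apply, one_mul]
  · congr 1
    exact Finset.sum_congr rfl fun l _ => by rw [coef_cast]
  · refine mul_eq_zero_of_right _ (Finset.sum_eq_zero fun l _ => mul_eq_zero_of_left ?_ _)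
    rw [← L.cint_col]
    obtain ⟨q, hq⟩ := h
    by_contra hne
    exact hφ (eq_oneK_of_orb L ((L.counting.2.2.2 χ (L.col (l, φ)) _
      (fun hz => hne (by rw [hz, Int.cast_zero])) hq).trans q.2))

theorem value_one [Fintype L.Lam] {χ : IrrCharacter G} (h : InB L χ) {u : ↥(L.P : Subgroup G)}
    (hu : u ≠ 1) : (χ : G → ℂ) (u : G) = -∑ l : L.Lam, (coef L χ l : ℂ) * (l.1 u : ℂ) := by
  simpa using value L h hu 1

/-- With a self-centralizing Sylow subgroup the other characters vanish on it. -/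
theorem value_out [Fintype L.Lam] (hK : L.K = ⊥) {χ : IrrCharacter G} (h : ¬ InB L χ)
    {u : ↥(L.P : Subgroup G)} (hu : u ≠ 1) : (χ : G → ℂ) (u : G) = 0 := by
  classical
  have hK1 : ∀ φ : IrrCharacter L.K, φ = oneK L := by
    intro φ
    haveI : Subsingleton L.K := hK ▸ inferInstance
    have hone : ∀ k : L.K, k = 1 := fun k => Subsingleton.elim _ _
    obtain ⟨n, hn, hn1⟩ := exists_degree_pos φ.2
    by_contra hne
    haveI := Fintype.ofFinite L.K
    have h2 := classInner_isIrr_ne φ.2 (oneK L).2 (fun e => hne (Subtype.ext e))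
    rw [Cfsg.classInner, Fintype.sum_subsingleton _ (1 : L.K)] at h2
    simp [oneK, hn1, Nat.card_eq_one_iff_unique.2 ⟨inferInstance, inferInstance⟩] at h2
    omega
  have := value_general L χ hu 1
  rw [OneMemClass.coe_one, mul_one] at this
  rw [this, neg_eq_zero]
  refine Finset.sum_eq_zero fun φ _ => mul_eq_zero_of_right _
    (Finset.sum_eq_zero fun l _ => mul_eq_zero_of_left ?_ _)
  rw [hK1 φ, ← coef_cast, Int.cast_eq_zero]
  by_contra hne
  exact h ⟨_, hne⟩

open Classical in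
theorem fibre_card [Fintype L.Lam] (q : L.ColOver (O0 L)) :
    (Finset.univ.filter fun l : L.Lam => L.colLam (O0 L) l = q).card = e L := by
  obtain ⟨l0, hl0⟩ := L.colLam_surjective (O0 L) q
  set φ0 : IrrCharacter L.K := Quotient.out (O0 L)
  let S := {n : L.N // L.phiBy n φ0 = φ0}
  let g : S → {l : L.Lam // L.colLam (O0 L) l = q} := fun n => ⟨L.lamBy n.1 l0, by
    rw [← hl0]
    refine Subtype.ext (L.col_eq_iff.2 ⟨n.1, ?_⟩).symm
    show (L.lamBy n.1 l0, φ0) = L.pairBy n.1 (l0, φ0)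
    rw [Local.pairBy, n.2]⟩
  have hfg : ∀ l, Nat.card {n : S // g n = l} = p * Nat.card L.K := by
    rintro ⟨l, hl⟩
    have hcol : L.col (l, φ0) = L.col (l0, φ0) := congrArg Subtype.val (hl.trans hl0.symm)
    have h2 := L.card_pair_transporter (l, φ0) (l0, φ0)
    rw [if_pos hcol] at h2
    rw [← h2]
    refine Nat.card_congr
      { toFun := fun n => ⟨n.1.1, Prod.ext (congrArg Subtype.val n.2) n.1.2⟩
        invFun := fun n => ⟨⟨n.1, congrArg Prod.snd n.2⟩, Subtype.ext (congrArg Prod.fst n.2)⟩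
        left_inv := fun n => rfl
        right_inv := fun n => rfl }
  have h3 : L.stabCard φ0 =
      Nat.card {l : L.Lam // L.colLam (O0 L) l = q} * (p * Nat.card L.K) := by
    show Nat.card S = _
    rw [← Nat.card_congr (Equiv.sigmaFiberEquiv g), Nat.card_sigma,
      Finset.sum_congr rfl fun l _ => hfg l, Finset.sum_const, Finset.card_univ, smul_eq_mul,
      Nat.card_eq_fintype_card (α := {l : L.Lam // L.colLam (O0 L) l = q})]
  rw [L.stabCard_eq_eO, show L.orb φ0 = O0 L from Quotient.out_eq _] at h3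
  have := Nat.eq_of_mul_eq_mul_right (mul_pos (Fact.out : p.Prime).pos Nat.card_pos) h3
  rw [Nat.card_eq_fintype_card, Fintype.card_subtype] at this
  exact this.symm

/-- The Gauss sum of a column. -/
noncomputable def eta [Fintype L.Lam] (q : L.ColOver (O0 L)) (u : ↥(L.P : Subgroup G)) : ℂ :=
  letI := Classical.decEq (L.ColOver (O0 L))
  ∑ l ∈ Finset.univ.filter (fun l : L.Lam => L.colLam (O0 L) l = q), (l.1 u : ℂ)

theorem sum_lam [Fintype L.Lam] {u : ↥(L.P : Subgroup G)} (hu : u ≠ 1) :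
    ∑ l : L.Lam, (l.1 u : ℂ) = -1 := by
  classical
  haveI := L.isMulCommutative
  haveI := Fintype.ofFinite (L.P : Subgroup G)
  haveI : Finite (↥(L.P : Subgroup G) →* ℂˣ) := BlocksFrobenius.finite_dual
  haveI := Fintype.ofFinite (↥(L.P : Subgroup G) →* ℂˣ)
  have h := BlocksFrobenius.sum_dual_apply (A := ↥(L.P : Subgroup G)) u
  rw [if_neg hu, ← Finset.add_sum_erase _ _ (Finset.mem_univ (1 : ↥(L.P : Subgroup G) →* ℂˣ)),
    Finset.sum_subtype (Finset.univ.erase (1 : ↥(L.P : Subgroup G) →* ℂˣ))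
      (p := fun l => l ≠ 1) (fun l => by simp)
      (fun l => (l u : ℂ))] at h
  simp only [MonoidHom.one_apply, Units.val_one] at h
  exact eq_neg_of_add_eq_zero_right h

theorem sum_eta [Fintype L.Lam] [Fintype (L.ColOver (O0 L))] {u : ↥(L.P : Subgroup G)}
    (hu : u ≠ 1) : ∑ q, eta L q u = -1 := by
  classical
  rw [← sum_lam L hu, ← Finset.sum_fiberwise Finset.univ (fun l : L.Lam => L.colLam (O0 L) l)]
  exact Finset.sum_congr rfl fun q _ => Finset.sum_congr (by ext; simp) fun _ _ => rfl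

/-- A constant row. -/
def IsConst (χ : IrrCharacter G) (a : ℤ) : Prop :=
  (a = 1 ∨ a = -1) ∧ ∀ q : L.ColOver (O0 L), L.cint χ q.1 = a

/-- A unit row. -/
def IsUnit' (χ : IrrCharacter G) (q₀ : L.ColOver (O0 L)) (a : ℤ) : Prop :=
  (a = 1 ∨ a = -1) ∧ L.cint χ q₀.1 = a ∧ ∀ q : L.ColOver (O0 L), q ≠ q₀ → L.cint χ q.1 = 0

theorem isConst_or_isUnit {χ : IrrCharacter G} (h : InB L χ) :
    (∃ a, IsConst L χ a) ∨ ∃ q₀ a, IsUnit' L χ q₀ a := by
  classical
  rcases L.rows (O0 L) χ h with ⟨a, ha, hc⟩ | ⟨q₀, a, ha, hc⟩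
  · exact Or.inl ⟨a, ha, hc⟩
  · exact Or.inr ⟨q₀, a, ha, by rw [hc, if_pos rfl], fun q hq => by rw [hc, if_neg hq]⟩

theorem nonempty_cols : Nonempty (L.ColOver (O0 L)) := by
  haveI : Finite (L.ColOver (O0 L)) := by haveI := L.finite_col; infer_instance
  refine (Nat.card_pos_iff.1 (Nat.pos_of_ne_zero fun h => ?_)).1
  have h2 := card_cols_mul L
  rw [h, zero_mul] at h2
  have := (Fact.out : p.Prime).two_le
  omega

variable {L}

theorem IsConst.inB {χ : IrrCharacter G} {a : ℤ} (h : IsConst L χ a) : InB L χ := by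
  obtain ⟨q⟩ := nonempty_cols L
  refine ⟨q, ?_⟩
  rw [h.2]
  rcases h.1 with r | r <;> rw [r] <;> norm_num

theorem IsUnit'.inB {χ : IrrCharacter G} {q₀ : L.ColOver (O0 L)} {a : ℤ} (h : IsUnit' L χ q₀ a) :
    InB L χ := by
  refine ⟨q₀, ?_⟩
  rw [h.2.1]
  rcases h.1 with r | r <;> rw [r] <;> norm_num

variable (L)

theorem one_isConst : ∃ χ : IrrCharacter G, (χ : G → ℂ) = (fun _ => 1) ∧ IsConst L χ 1 := by
  classical
  letI := Fintype.ofFinite L.PK
  refine ⟨⟨_, isIrr_one⟩, rfl, Or.inl rfl, fun q => ?_⟩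
  obtain ⟨l, rfl⟩ := L.colLam_surjective (O0 L) q
  have h : (coef L ⟨_, isIrr_one⟩ l : ℂ) = 1 := by
    rw [coef_cast, L.cvec_eq]
    have h1 : L.res (fun _ : G => (1 : ℂ)) = fun x : L.PK =>
        (((1 : ↥(L.P : Subgroup G) →* ℂˣ) x.1 : ℂˣ) : ℂ) * (oneK L : L.K → ℂ) x.2 := funext fun x => by
      simp [Local.res, oneK]
    have h2 : L.psi (l, oneK L) = (fun x : L.PK =>
        (((1 : ↥(L.P : Subgroup G) →* ℂˣ) x.1 : ℂˣ) : ℂ) * (oneK L : L.K → ℂ) x.2) -
          fun x => (l.1 x.1 : ℂ) * (oneK L : L.K → ℂ) x.2 := funext fun x => by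
      simp [Local.psi, sub_mul]
    show Cfsg.classInner (L.res (fun _ : G => (1 : ℂ))) _ = 1
    rw [h1, h2, classInner_sub_right, classInner_isIrr_self (L.isIrr_tensor _ _),
      classInner_isIrr_ne (L.isIrr_tensor _ _) (L.isIrr_tensor _ _) fun he => l.2 ?_, sub_zero]
    refine MonoidHom.ext fun v => Units.ext ?_
    simpa [oneK] using (congrFun he (v, 1)).symm
  exact_mod_cast h

variable {L}

theorem IsConst.value [Fintype L.Lam] {χ : IrrCharacter G} {a : ℤ} (h : IsConst L χ a)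
    {u : ↥(L.P : Subgroup G)} (hu : u ≠ 1) (k : L.K) : (χ : G → ℂ) ((u : G) * k) = a := by
  rw [BrauerOrderP.value L h.inB hu k]
  simp only [coef, h.2, ← Finset.mul_sum, sum_lam L hu]
  ring

theorem IsUnit'.value [Fintype L.Lam] {χ : IrrCharacter G} {q₀ : L.ColOver (O0 L)} {a : ℤ}
    (h : IsUnit' L χ q₀ a) {u : ↥(L.P : Subgroup G)} (hu : u ≠ 1) (k : L.K) :
    (χ : G → ℂ) ((u : G) * k) = -(a : ℂ) * eta L q₀ u := by
  classical
  rw [BrauerOrderP.value L h.inB hu k, eta, Finset.mul_sum, Finset.sum_filter,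
    ← Finset.sum_neg_distrib]
  refine Finset.sum_congr rfl fun l _ => ?_
  by_cases hl : L.colLam (O0 L) l = q₀
  · rw [if_pos hl, coef, hl, h.2.1]; ring
  · rw [if_neg hl, coef, h.2.2 _ hl]; simp

theorem IsConst.sum_coef [Fintype L.Lam] {χ : IrrCharacter G} {a : ℤ} (h : IsConst L χ a) :
    ∑ l, coef L χ l = (p - 1 : ℕ) * a := by
  simp only [coef, h.2, Finset.sum_const, Finset.card_univ, nsmul_eq_mul,
    ← Nat.card_eq_fintype_card, L.card_lam]

theorem IsUnit'.sum_coef [Fintype L.Lam] {χ : IrrCharacter G} {q₀ : L.ColOver (O0 L)} {a : ℤ}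
    (h : IsUnit' L χ q₀ a) : ∑ l, coef L χ l = (e L : ℤ) * a := by
  classical
  rw [← fibre_card L q₀, ← nsmul_eq_mul, ← Finset.sum_const, Finset.sum_filter]
  refine Finset.sum_congr rfl fun l _ => ?_
  by_cases hl : L.colLam (O0 L) l = q₀
  · rw [if_pos hl, coef, hl, h.2.1]
  · rw [if_neg hl, coef, h.2.2 _ hl]

variable (L)

/-- The multiplicity of the trivial character of `P`, and the kernel when it is zero. -/
theorem exists_fixed_dim [Fintype L.Lam] {χ : IrrCharacter G} (h : InB L χ) :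
    ∃ m : ℕ, (χ : G → ℂ) 1 + (∑ l, coef L χ l : ℤ) = (p : ℂ) * m := by
  classical
  obtain ⟨m, hm⟩ := L.exists_degree_sum χ
  refine ⟨m, ?_⟩
  rw [← hm, Finset.sum_eq_single (oneK L) (fun φ _ hφ => ?_) (by simp), oneK_apply, one_mul,
    Int.cast_sum]
  · simp only [coef_cast]
  · refine mul_eq_zero_of_right _ (Finset.sum_eq_zero fun l _ => ?_)
    rw [← L.cint_col]
    obtain ⟨q, hq⟩ := h
    by_contra hne
    exact hφ (eq_oneK_of_orb L ((L.counting.2.2.2 χ (L.col (l, φ)) _
      (fun hz => hne (by rw [hz, Int.cast_zero])) hq).trans q.2))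

variable {L}

theorem IsConst.congr {χ : IrrCharacter G} {a : ℤ} (h : IsConst L χ a) :
    ∃ m : ℕ, (Cfsg.charDegree (χ : G → ℂ) : ℤ) + (p - 1 : ℕ) * a = p * m := by
  classical
  haveI := L.finite_lam
  letI := Fintype.ofFinite L.Lam
  obtain ⟨m, hm⟩ := exists_fixed_dim L h.inB
  rw [h.sum_coef, ← Blocks.charDegree_cast] at hm
  exact ⟨m, by exact_mod_cast hm⟩

theorem IsUnit'.congr {χ : IrrCharacter G} {q₀ : L.ColOver (O0 L)} {a : ℤ}
    (h : IsUnit' L χ q₀ a) :
    ∃ m : ℕ, (Cfsg.charDegree (χ : G → ℂ) : ℤ) + (e L : ℤ) * a = p * m := by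
  classical
  haveI := L.finite_lam
  letI := Fintype.ofFinite L.Lam
  obtain ⟨m, hm⟩ := exists_fixed_dim L h.inB
  rw [h.sum_coef, ← Blocks.charDegree_cast] at hm
  exact ⟨m, by exact_mod_cast hm⟩

variable (L)

/-- A character over the trivial orbit whose fixed space under `P` is zero has `K` in its kernel. -/
theorem apply_K_of_fixed_zero [Fintype L.Lam] {χ : IrrCharacter G} (h : InB L χ)
    (h0 : (χ : G → ℂ) 1 + (∑ l, coef L χ l : ℤ) = 0) (k : L.K) :
    (χ : G → ℂ) (k : G) = (χ : G → ℂ) 1 := by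
  classical
  letI := Fintype.ofFinite L.PK
  haveI := Fintype.ofFinite (L.P : Subgroup G)
  haveI := Fintype.ofFinite L.K
  set F : L.K → ℂ := fun k => ∑ u : ↥(L.P : Subgroup G), L.res (χ : G → ℂ) (u, k) with hF
  have hFv : ∀ k : L.K, F k = (χ : G → ℂ) (k : G) + (∑ l, coef L χ l : ℤ) := by
    intro k
    show ∑ u : ↥(L.P : Subgroup G), L.res (χ : G → ℂ) (u, k) = _
    simp only [Local.res, Local.emb_apply]
    rw [← Finset.add_sum_erase _ _ (Finset.mem_univ (1 : ↥(L.P : Subgroup G))),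
      Finset.sum_congr rfl (g := fun u : ↥(L.P : Subgroup G) =>
        -∑ l : L.Lam, (coef L χ l : ℂ) * (l.1 u : ℂ))
        fun u hu => value L h (Finset.ne_of_mem_erase hu) k]
    simp only [OneMemClass.coe_one, one_mul]
    congr 1
    rw [Finset.sum_neg_distrib, Finset.sum_comm]
    simp only [← Finset.mul_sum]
    haveI := L.isMulCommutative
    have hl : ∀ l : L.Lam, ∑ u ∈ Finset.univ.erase (1 : ↥(L.P : Subgroup G)), (l.1 u : ℂ) = -1 := by
      intro l
      have h5 := sum_hom_units_eq_zero ((Units.coeHom ℂ).comp l.1) fun he => l.2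
        (MonoidHom.ext fun v => Units.ext (DFunLike.congr_fun he v))
      simp only [MonoidHom.comp_apply, Units.coeHom_apply] at h5
      rw [Finset.sum_erase_eq_sub (Finset.mem_univ _), h5]
      simp
    simp only [hl, mul_neg, mul_one, Finset.sum_neg_distrib, neg_neg]
    push_cast
    rfl
  have hcl : Cfsg.IsClassFunction L.K F := by
    intro a b
    refine Finset.sum_congr rfl fun u _ => ?_
    have : L.emb (u, b * a * b⁻¹) = (b : G) * L.emb (u, a) * (b : G)⁻¹ := by
      simp only [Local.emb_apply, Subgroup.coe_mul, InvMemClass.coe_inv]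
      rw [← mul_assoc (b : G) (u : G), ← (L.commute u.2 b.2).eq]
      group
    show (χ : G → ℂ) (L.emb (u, b * a * b⁻¹)) = (χ : G → ℂ) (L.emb (u, a))
    rw [this, isClassFunction_of_isIrr χ.2]
  have hnat : ∀ φ : IrrCharacter L.K, ∃ n : ℕ, Cfsg.classInner F (φ : L.K → ℂ) = (p : ℂ) * n := by
    intro φ
    obtain ⟨n, hn⟩ := classInner_character_irr (L.isCharacter_res χ) (L.isIrr_tensor 1 φ)
    refine ⟨n, ?_⟩
    rw [← hn]
    simp only [hF, Cfsg.classInner, L.sum_PK, L.card_PK, Nat.cast_mul, mul_inv, Finset.sum_mul,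
      Finset.mul_sum, MonoidHom.one_apply, Units.val_one, one_mul]
    rw [Finset.sum_comm]
    refine Finset.sum_congr rfl fun u _ => Finset.sum_congr rfl fun k _ => ?_
    field_simp [(Nat.cast_ne_zero.2 (Fact.out : p.Prime).ne_zero : (p : ℂ) ≠ 0)]
  choose n hn using hnat
  choose d hd0 hd using fun φ : IrrCharacter L.K => exists_degree_pos φ.2
  have hexp : ∀ k : L.K, F k = ∑ φ, (p : ℂ) * n φ * (φ : L.K → ℂ) k := by
    intro k
    have := congrFun (classFunction_expansion hcl) k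
    rw [this, Finset.sum_apply]
    exact Finset.sum_congr rfl fun φ _ => by rw [Pi.smul_apply, smul_eq_mul, hn]
  have h1 := hexp 1
  rw [hFv, OneMemClass.coe_one, h0] at h1
  simp only [hd, mul_assoc, ← Finset.mul_sum] at h1
  rw [eq_comm, mul_eq_zero, or_iff_right (Nat.cast_ne_zero.2 (Fact.out : p.Prime).ne_zero)] at h1
  have h2 : ∀ φ, n φ = 0 := by
    intro φ
    have h3 : ∑ φ, n φ * d φ = 0 := by exact_mod_cast h1
    have := Finset.sum_eq_zero_iff.1 h3 φ (Finset.mem_univ _)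
    exact (mul_eq_zero.1 this).resolve_right (hd0 φ).ne'
  have hk := hexp k
  rw [Finset.sum_eq_zero (s := (Finset.univ : Finset (IrrCharacter L.K)))
    (f := fun φ => (p : ℂ) * n φ * (φ : L.K → ℂ) k) (fun φ _ => by simp [h2 φ]), hFv] at hk
  linear_combination hk - h0

/-! ### Class length -/

theorem index_centralizer {u : G} (hu : u ∈ (L.P : Subgroup G)) (h1 : u ≠ 1) :
    (Subgroup.centralizer ({u} : Set G)).index = e L * Nat.card (Sylow p G) := by
  have hC : Nat.card (Subgroup.centralizer ({u} : Set G)) = p * Nat.card L.K := by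
    rw [L.centralizer_singleton hu h1, L.card_centralizer]
  have h2 := (Subgroup.centralizer ({u} : Set G)).index_mul_card
  have h3 : Nat.card (Sylow p G) * Nat.card L.N = Nat.card G := by
    rw [L.P.card_eq_index_normalizer]; exact Subgroup.index_mul_card _
  rw [← card_N L] at h3
  rw [hC] at h2
  refine Nat.eq_of_mul_eq_mul_right (mul_pos (Fact.out : p.Prime).pos (Nat.card_pos (α := L.K))) ?_
  rw [h2, ← h3]
  ring

theorem isIntegral_class (χ : IrrCharacter G) {u : G} (hu : u ∈ (L.P : Subgroup G)) (h1 : u ≠ 1) :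
    IsIntegral ℤ ((e L * Nat.card (Sylow p G) : ℕ) * (χ : G → ℂ) u / (χ : G → ℂ) 1) := by
  obtain ⟨n, ρ, hρi, hρ⟩ := χ.2
  haveI := hρi
  have := isIntegral_index_mul_char_div ρ u
  rw [index_centralizer L hu h1] at this
  have e1 : (χ : G → ℂ) = ρ.character := hρ.symm
  rw [e1, Representation.char_one]
  exact this

theorem exists_mem_ne_one : ∃ u : ↥(L.P : Subgroup G), u ≠ 1 := by
  haveI : Nontrivial (L.P : Subgroup G) :=
    Finite.one_lt_card_iff_nontrivial.1 (by rw [L.card_P]; exact (Fact.out : p.Prime).one_lt)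
  exact exists_ne 1

variable {L}

theorem IsConst.dvd {χ : IrrCharacter G} {a : ℤ} (h : IsConst L χ a) :
    Cfsg.charDegree (χ : G → ℂ) ∣ e L * Nat.card (Sylow p G) := by
  haveI := L.finite_lam
  letI := Fintype.ofFinite L.Lam
  obtain ⟨u, hu⟩ := exists_mem_ne_one L
  have h2 := isIntegral_class L χ u.2 (fun hh => hu (Subtype.ext hh))
  have h3 := h.value hu 1
  rw [OneMemClass.coe_one, mul_one] at h3
  rw [h3, ← Blocks.charDegree_cast] at h2
  refine dvd_of_isIntegral_div (Blocks.charDegree_ne_zero χ) ?_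
  rcases h.1 with r | r <;> rw [r] at h2 <;> push_cast at h2 ⊢
  · rwa [mul_one] at h2
  · have := h2.neg
    rwa [mul_neg_one, neg_div, neg_neg] at this

variable (L)

/-- Every family of unit rows, one for each column and of common sign and degree, divides. -/
theorem unit_dvd [Fintype (L.ColOver (O0 L))] {f : L.ColOver (O0 L) → IrrCharacter G} {a : ℤ}
    {y : ℕ} (hf : ∀ q, IsUnit' L (f q) q a) (hy : ∀ q, Cfsg.charDegree (f q : G → ℂ) = y) :
    y ∣ e L * Nat.card (Sylow p G) := by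
  haveI := L.finite_lam
  letI := Fintype.ofFinite L.Lam
  obtain ⟨u, hu⟩ := exists_mem_ne_one L
  have hy0 : y ≠ 0 := by
    obtain ⟨q⟩ := nonempty_cols L
    rw [← hy q]
    exact Blocks.charDegree_ne_zero _
  have h2 : IsIntegral ℤ (∑ q, ((e L * Nat.card (Sylow p G) : ℕ) : ℂ) * (f q : G → ℂ) (u : G) /
      (f q : G → ℂ) 1) :=
    IsIntegral.sum _ fun q _ => isIntegral_class L (f q) u.2 (fun hh => hu (Subtype.ext hh))
  have h3 : ∀ q, (f q : G → ℂ) (u : G) = -(a : ℂ) * eta L q u := fun q => by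
    simpa using (hf q).value hu 1
  simp only [h3, ← Blocks.charDegree_cast, hy] at h2
  rw [← Finset.sum_div, ← Finset.mul_sum, ← Finset.mul_sum, sum_eta L hu] at h2
  refine dvd_of_isIntegral_div hy0 ?_
  obtain ⟨q⟩ := nonempty_cols L
  rcases (hf q).1 with r | r <;> rw [r] at h2 <;> push_cast at h2 ⊢
  · simpa using h2
  · have := h2.neg
    simpa [neg_div] using this

end CfsgLib.BrauerOrderP
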